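import Mathlib
import Groth.Prelude.Def_GrMod3

set_option autoImplicit false
universe u
open AlgebraicGeometry CategoryTheory Opposite TopologicalSpace DirectSum

namespace Groth.Agent.H8.ProjTilde

variable {A σ : Type u} [CommRing A] [SetLike σ A] [AddSubgroupClass σ A] (𝒜 : ℕ → σ) [GradedRing 𝒜]
variable {M τ : Type u} [AddCommGroup M] [Module A M] [SetLike τ M] [AddSubgroupClass τ M] (ℳ : ℕ → τ)

/-- a homogeneous element of positive degree lies in the irrelevant ideal -/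
lemma mem_irrelevant_of_mem {d : ℕ} (hd : 0 < d) {f : A} (hf : f ∈ 𝒜 d) :
    f ∈ HomogeneousIdeal.irrelevant 𝒜 := by
  rw [HomogeneousIdeal.mem_irrelevant_iff, GradedRing.proj_apply]
  exact DirectSum.decompose_of_mem_ne 𝒜 hf (Nat.pos_iff_ne_zero.1 hd)

/-- if `u • m = 0` with `m` homogeneous, every homogeneous component of `u` kills `m`. -/
lemma component_smul_eq_zero [DirectSum.Decomposition ℳ] [SetLike.GradedSMul 𝒜 ℳ]
    {i : ℕ} {m : M} (hm : m ∈ ℳ i) (u : A) (hu : u • m = 0) (j : ℕ) :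
    (DirectSum.decompose 𝒜 u j : A) • m = 0 := by
  classical
  have hsum : u • m = ∑ k ∈ (DirectSum.decompose 𝒜 u).support, (DirectSum.decompose 𝒜 u k : A) • m := by
    conv_lhs => rw [← DirectSum.sum_support_decompose 𝒜 u, Finset.sum_smul]
  have hmem : ∀ k, (DirectSum.decompose 𝒜 u k : A) • m ∈ ℳ (k + i) := fun k =>
    SetLike.GradedSMul.smul_mem (DirectSum.decompose 𝒜 u k).2 hm
  have h1 : ((DirectSum.decompose ℳ (u • m)) (j + i) : M) = 0 := by rw [hu]; simp
  rw [hsum, DirectSum.decompose_sum, DFinsupp.finsetSum_apply, AddSubmonoidClass.coe_finsetSum] at h1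
  by_cases hj : j ∈ (DirectSum.decompose 𝒜 u).support
  · rw [Finset.sum_eq_single j] at h1
    · rw [DirectSum.decompose_of_mem_same ℳ (hmem j)] at h1
      exact h1
    · intro k _ hkj
      exact DirectSum.decompose_of_mem_ne ℳ (hmem k) (fun h => hkj (Nat.add_right_cancel h))
    · intro hj'; exact absurd hj hj'
  · have : DirectSum.decompose 𝒜 u j = 0 := by simpa [DFinsupp.mem_support_iff] using hj
    rw [this]; simp

/-- The point of `Proj` given by the homogeneous core of a prime not containing a homogeneous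
element `f` of positive degree. -/
def corePt {d : ℕ} (hd : 0 < d) {f : A} (hf : f ∈ 𝒜 d) (P : Ideal A) [hP : P.IsPrime] (hfP : f ∉ P) :
    ProjectiveSpectrum 𝒜 :=
  ⟨P.homogeneousCore 𝒜, hP.homogeneousCore, fun hle =>
    hfP (Ideal.toIdeal_homogeneousCore_le 𝒜 P (hle (mem_irrelevant_of_mem 𝒜 hd hf)))⟩

lemma corePt_mem_iff {d : ℕ} (hd : 0 < d) {f : A} (hf : f ∈ 𝒜 d) (P : Ideal A) [hP : P.IsPrime]
    (hfP : f ∉ P) {e : ℕ} {a : A} (ha : a ∈ 𝒜 e) :
    a ∈ (corePt 𝒜 hd hf P hfP).asHomogeneousIdeal ↔ a ∈ P := by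
  constructor
  · intro h
    exact Ideal.toIdeal_homogeneousCore_le 𝒜 P h
  · intro h
    exact Ideal.mem_homogeneousCore_of_homogeneous_of_mem ⟨e, ha⟩ h

lemma corePt_mem_basicOpen {d : ℕ} (hd : 0 < d) {f : A} (hf : f ∈ 𝒜 d) (P : Ideal A) [hP : P.IsPrime]
    (hfP : f ∉ P) : corePt 𝒜 hd hf P hfP ∈ ProjectiveSpectrum.basicOpen 𝒜 f := by
  rw [ProjectiveSpectrum.mem_basicOpen]
  exact fun h => hfP ((corePt_mem_iff 𝒜 hd hf P hfP hf).1 h)

/-- **Radical criterion.** If a family of homogeneous elements `h x` is such that every point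
of `D₊(f)` misses at least one of them, then `f` is in the radical of the ideal they span. -/
lemma mem_radical_span_of_cover {d : ℕ} (hd : 0 < d) {f : A} (hf : f ∈ 𝒜 d) {ι : Type*}
    (h : ι → A) (e : ι → ℕ) (hh : ∀ i, h i ∈ 𝒜 (e i))
    (hcov : ∀ x ∈ ProjectiveSpectrum.basicOpen 𝒜 f, ∃ i, h i ∉ x.asHomogeneousIdeal) :
    f ∈ (Ideal.span (Set.range h)).radical := by
  rw [Ideal.radical_eq_sInf, Ideal.mem_sInf]
  rintro P ⟨hIP, hP⟩
  by_contra hfP
  obtain ⟨i, hi⟩ := hcov _ (corePt_mem_basicOpen 𝒜 hd hf P hfP)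
  exact hi ((corePt_mem_iff 𝒜 hd hf P hfP (hh i)).2 (hIP (Ideal.subset_span ⟨i, rfl⟩)))

/-- **Injectivity.** If a homogeneous `m` is killed, at every point of `D₊(f)`, by some element outside
the point, then a power of `f` kills `m`. -/
theorem exists_pow_smul_eq_zero [DirectSum.Decomposition ℳ] [SetLike.GradedSMul 𝒜 ℳ] {d : ℕ} (hd : 0 < d)
    {f : A} (hf : f ∈ 𝒜 d) {i : ℕ} {m : M} (hm : m ∈ ℳ i)
    (h : ∀ x ∈ ProjectiveSpectrum.basicOpen 𝒜 f, ∃ u : A, u ∉ x.asHomogeneousIdeal ∧ u • m = 0) :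
    ∃ N : ℕ, f ^ N • m = 0 := by
  classical
  let I : Ideal A := LinearMap.ker (LinearMap.toSpanSingleton A M m)
  have hI : ∀ a : A, a ∈ I ↔ a • m = 0 := fun a => by
    simp [I, LinearMap.mem_ker, LinearMap.toSpanSingleton_apply]
  suffices hrad : f ∈ I.radical by
    obtain ⟨N, hN⟩ := hrad
    exact ⟨N, (hI _).1 hN⟩
  rw [Ideal.radical_eq_sInf, Ideal.mem_sInf]
  rintro P ⟨hIP, hP⟩
  by_contra hfP
  obtain ⟨u, hux, hu0⟩ := h _ (corePt_mem_basicOpen 𝒜 hd hf P hfP)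
  apply hux
  show u ∈ (P.homogeneousCore 𝒜).toIdeal
  rw [← DirectSum.sum_support_decompose 𝒜 u]
  refine Ideal.sum_mem _ fun j _ => ?_
  apply Ideal.mem_homogeneousCore_of_homogeneous_of_mem ⟨j, (DirectSum.decompose 𝒜 u j).2⟩
  exact hIP ((hI _).2 (component_smul_eq_zero 𝒜 ℳ hm u hu0 j))

/-- zero-ness of a fraction in a localized module. -/
lemma mk_eq_zero_iff {S : Submonoid A} (m : M) (s : S) :
    (LocalizedModule.mk m s : LocalizedModule S M) = 0 ↔ ∃ u : S, (u : A) • m = 0 := by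
  rw [← LocalizedModule.zero_mk 1, LocalizedModule.mk_eq]
  constructor
  · rintro ⟨u, hu⟩
    refine ⟨u, ?_⟩
    have h2 : u • (1 : S) • m = 0 := by rw [hu]; simp
    rwa [one_smul] at h2
  · rintro ⟨u, hu⟩
    refine ⟨u, ?_⟩
    rw [smul_zero, smul_zero, one_smul]
    exact hu

end Groth.Agent.H8.ProjTilde
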