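import Mathlib
import Groth.Prelude.Def_GrMod3
import Groth.Agent.Lib.Helper8.ProjTilde.Basic

set_option autoImplicit false
universe u
open AlgebraicGeometry CategoryTheory Opposite TopologicalSpace DirectSum

namespace Groth.Agent.H8.ProjTilde

variable {A σ : Type u} [CommRing A] [SetLike σ A] [AddSubgroupClass σ A] (𝒜 : ℕ → σ) [GradedRing 𝒜]
variable {M τ : Type u} [AddCommGroup M] [Module A M] [SetLike τ M] [AddSubgroupClass τ M] (ℳ : ℕ → τ)
variable [DirectSum.Decomposition ℳ] [SetLike.GradedSMul 𝒜 ℳ]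

/-- a homogeneous component outside a homogeneous prime -/
lemma exists_component_notMem (x : ProjectiveSpectrum 𝒜) {r : A} (hr : r ∉ x.asHomogeneousIdeal) :
    ∃ k : ℕ, (DirectSum.decompose 𝒜 r k : A) ∉ x.asHomogeneousIdeal := by
  classical
  by_contra! hcon
  apply hr
  rw [← DirectSum.sum_support_decompose 𝒜 r]
  exact x.asHomogeneousIdeal.toIdeal.sum_mem fun k _ => hcon k

lemma component_mem_of_mem (x : ProjectiveSpectrum 𝒜) {r : A} (hr : r ∈ x.asHomogeneousIdeal) (k : ℕ) :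
    (DirectSum.decompose 𝒜 r k : A) ∈ x.asHomogeneousIdeal :=
  x.asHomogeneousIdeal.isHomogeneous k hr

/-- local data around a point: on a basic open neighbourhood `D₊(h)` the section is `m / h`. -/
lemma exists_local_frac (n : ℤ) {d : ℕ} (hd : 0 < d) {f : A} (hf : f ∈ 𝒜 d)
    (s : GrMod.sect 𝒜 ℳ n (op (ProjectiveSpectrum.basicOpen 𝒜 f)))
    (x : ProjectiveSpectrum.basicOpen 𝒜 f) :
    ∃ (h : A) (e : ℕ) (_ : 0 < e) (_ : h ∈ 𝒜 e) (c : ℕ) (m : M) (_ : m ∈ ℳ c), (c : ℤ) = e + n ∧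
      h ∉ x.1.asHomogeneousIdeal ∧
      (∀ y : ProjectiveSpectrum 𝒜, h ∉ y.asHomogeneousIdeal → f ∉ y.asHomogeneousIdeal) ∧
      ∀ (y : ProjectiveSpectrum.basicOpen 𝒜 f) (hy : h ∉ y.1.asHomogeneousIdeal),
        ((s.1 y).1 : GrMod.LocMod 𝒜 (M := M) y.1) = LocalizedModule.mk m ⟨h, hy⟩ := by
  obtain ⟨V, hxV, iV, i', j', ⟨m', hm'⟩, ⟨s', hs'⟩, nin, hc, w⟩ := s.2 x
  obtain ⟨t, ⟨r, rfl⟩, hxr, hrV⟩ :=
    (ProjectiveSpectrum.isTopologicalBasis_basic_opens 𝒜).exists_subset_of_mem_open hxV V.2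
  have hrx : r ∉ x.1.asHomogeneousIdeal := (ProjectiveSpectrum.mem_basicOpen 𝒜 r x.1).mp hxr
  obtain ⟨k, hk⟩ := exists_component_notMem 𝒜 x.1 hrx
  set g : A := (DirectSum.decompose 𝒜 r k : A) with hg
  have hgk : g ∈ 𝒜 k := (DirectSum.decompose 𝒜 r k).2
  have hfx : f ∉ x.1.asHomogeneousIdeal := (ProjectiveSpectrum.mem_basicOpen 𝒜 f x.1).mp x.2
  have hs'x : s' ∉ x.1.asHomogeneousIdeal := nin ⟨x.1, hxV⟩
  set N : ℕ := n.natAbs + 1 with hN
  have hfN : f ^ N ∈ 𝒜 (N * d) := by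
    have := SetLike.pow_mem_graded N hf
    simpa [smul_eq_mul] using this
  have hfNg : f ^ N * g ∈ 𝒜 (N * d + k) := SetLike.mul_mem_graded hfN hgk
  have hh : f ^ N * g * s' ∈ 𝒜 (N * d + k + j') := SetLike.mul_mem_graded hfNg hs'
  have hNd : (n.natAbs : ℤ) < N * d := by
    have h1 : N ≤ N * d := Nat.le_mul_of_pos_right N hd
    have : (n.natAbs : ℤ) < N := by rw [hN]; push_cast; omega
    have h2 : (N : ℤ) ≤ (N * d : ℕ) := by exact_mod_cast h1
    push_cast at h2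
    omega
  have hpos : 0 < N * d + k + j' := by
    have : 0 < N * d := Nat.mul_pos (by omega) hd
    omega
  have hhx : f ^ N * g * s' ∉ x.1.asHomogeneousIdeal := by
    intro hmem
    rcases x.1.isPrime.mem_or_mem hmem with h1 | h1
    · rcases x.1.isPrime.mem_or_mem h1 with h2 | h2
      · exact hfx (x.1.isPrime.mem_of_pow_mem N h2)
      · exact hk h2
    · exact hs'x h1
  -- the key pointwise computation
  have key : ∀ (y : ProjectiveSpectrum.basicOpen 𝒜 f) (hy : f ^ N * g * s' ∉ y.1.asHomogeneousIdeal),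
      ((s.1 y).1 : GrMod.LocMod 𝒜 (M := M) y.1) =
        LocalizedModule.mk ((f ^ N * g) • m') ⟨f ^ N * g * s', hy⟩ := by
    intro y hy
    have hgy : g ∉ y.1.asHomogeneousIdeal := fun hmem =>
      hy (Ideal.mul_mem_right _ _ (Ideal.mul_mem_left _ _ hmem))
    have hry : r ∉ y.1.asHomogeneousIdeal := fun hmem => hgy (component_mem_of_mem 𝒜 y.1 hmem k)
    have hyV : y.1 ∈ V := hrV ((ProjectiveSpectrum.mem_basicOpen 𝒜 r y.1).mpr hry)
    have hfgy : f ^ N * g ∉ y.1.asHomogeneousIdeal := fun hmem => hy (Ideal.mul_mem_right _ _ hmem)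
    have e1 := w ⟨y.1, hyV⟩
    have e2 : ((s.1 y).1 : GrMod.LocMod 𝒜 (M := M) y.1) = LocalizedModule.mk m' ⟨s', nin ⟨y.1, hyV⟩⟩ := e1
    rw [e2]
    exact (LocalizedModule.mk_cancel_common_left
      (⟨f ^ N * g, hfgy⟩ : y.1.asHomogeneousIdeal.toIdeal.primeCompl) ⟨s', nin ⟨y.1, hyV⟩⟩ m').symm
  have hsub : ∀ y : ProjectiveSpectrum 𝒜, f ^ N * g * s' ∉ y.asHomogeneousIdeal →
      f ∉ y.asHomogeneousIdeal := by
    intro y hy hmem
    apply hy
    have h1 : f ^ N ∈ y.asHomogeneousIdeal := by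
      rw [show N = (N - 1) + 1 by omega, pow_succ]
      exact Ideal.mul_mem_left _ _ hmem
    exact Ideal.mul_mem_right _ _ (Ideal.mul_mem_right _ _ h1)
  rcases hc with hc | hc
  · refine ⟨f ^ N * g * s', N * d + k + j', hpos, hh, N * d + k + i', (f ^ N * g) • m',
      SetLike.GradedSMul.smul_mem hfNg hm', by push_cast; omega, hhx, hsub, key⟩
  · have hm0 : m' = 0 := hc
    have hnn : 0 ≤ ((N * d + k + j' : ℕ) : ℤ) + n := by
      push_cast
      have h3 : -(n.natAbs : ℤ) ≤ n := by omega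
      omega
    refine ⟨f ^ N * g * s', N * d + k + j', hpos, hh, (((N * d + k + j' : ℕ) : ℤ) + n).toNat, 0,
      zero_mem _, by rw [Int.toNat_of_nonneg hnn], hhx, hsub, ?_⟩
    intro y hy
    rw [key y hy, hm0, smul_zero]


set_option maxHeartbeats 1600000 in
/-- **Sections over `D₊(f)` are single fractions** (general graded version of EGA II 2.5.?). -/
theorem exists_frac (n : ℤ) {d : ℕ} (hd : 0 < d) {f : A} (hf : f ∈ 𝒜 d)
    (s : GrMod.sect 𝒜 ℳ n (op (ProjectiveSpectrum.basicOpen 𝒜 f))) :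
    ∃ (k i : ℕ) (m : M) (_ : m ∈ ℳ i), (i : ℤ) = k * d + n ∧
      ∀ (x : ProjectiveSpectrum.basicOpen 𝒜 f) (hx : f ^ k ∉ x.1.asHomogeneousIdeal),
        ((s.1 x).1 : GrMod.LocMod 𝒜 (M := M) x.1) = LocalizedModule.mk m ⟨f ^ k, hx⟩ := by
  classical
  choose h e he hh c m hm hc hhx hsub hloc using exists_local_frac 𝒜 ℳ n hd hf s
  have hrad : f ∈ (Ideal.span (Set.range h)).radical :=
    mem_radical_span_of_cover 𝒜 hd hf h e hh (fun x hx => ⟨⟨x, hx⟩, hhx ⟨x, hx⟩⟩)
  obtain ⟨K, hK⟩ := hrad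
  rw [← Set.image_univ] at hK
  obtain ⟨T, -, cT, hcT⟩ := (Submodule.mem_span_image_iff_exists_fun (R := A)).mp hK
  -- pairwise compatibility
  have hdeg : ∀ t t', e t' + c t = e t + c t' := by
    intro t t'
    have h1 := hc t
    have h2 := hc t'
    omega
  have hpair : ∀ t t', ∃ N : ℕ, (h t * h t') ^ N • (h t' • m t - h t • m t') = 0 := by
    intro t t'
    have hmem : h t' • m t - h t • m t' ∈ ℳ (e t' + c t) := by
      refine sub_mem (SetLike.GradedSMul.smul_mem (hh t') (hm t)) ?_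
      rw [hdeg t t']
      exact SetLike.GradedSMul.smul_mem (hh t) (hm t')
    refine exists_pow_smul_eq_zero 𝒜 ℳ (d := e t + e t') (by have := he t; omega)
      (SetLike.mul_mem_graded (hh t) (hh t')) hmem ?_
    intro y hy
    have hy' : h t * h t' ∉ y.asHomogeneousIdeal := (ProjectiveSpectrum.mem_basicOpen 𝒜 _ y).mp hy
    have hy1 : h t ∉ y.asHomogeneousIdeal := fun hmem => hy' (Ideal.mul_mem_right _ _ hmem)
    have hy2 : h t' ∉ y.asHomogeneousIdeal := fun hmem => hy' (Ideal.mul_mem_left _ _ hmem)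
    have hyf : y ∈ ProjectiveSpectrum.basicOpen 𝒜 f :=
      (ProjectiveSpectrum.mem_basicOpen 𝒜 f y).mpr (hsub t y hy1)
    have e1 := hloc t ⟨y, hyf⟩ hy1
    have e2 := hloc t' ⟨y, hyf⟩ hy2
    rw [e1, LocalizedModule.mk_eq] at e2
    obtain ⟨u, hu⟩ := e2
    refine ⟨u, u.2, ?_⟩
    have hu' : (u : A) • h t' • m t = (u : A) • h t • m t' := hu
    rw [smul_sub, hu', sub_self]
  choose Nf hNf using hpair
  set N : ℕ := (T ×ˢ T).sup (fun p => Nf p.1 p.2) with hNdef
  have hN : ∀ t ∈ T, ∀ t' ∈ T, (h t * h t') ^ N • (h t' • m t - h t • m t') = 0 := by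
    intro t ht t' ht'
    have hle : Nf t t' ≤ N := Finset.le_sup (f := fun p : _ × _ => Nf p.1 p.2) (Finset.mk_mem_product ht ht')
    obtain ⟨j, hj⟩ := Nat.exists_eq_add_of_le hle
    rw [hj, pow_add, mul_comm, mul_smul, hNf t t', smul_zero]
  -- new data
  have hkey : ∀ t ∈ T, ∀ t' ∈ T, (h t' ^ (N + 1)) • (h t ^ N • m t) = (h t ^ (N + 1)) • (h t' ^ N • m t') := by
    intro t ht t' ht'
    have h0 := hN t ht t' ht'
    have h1 : (h t * h t') ^ N • (h t' • m t - h t • m t') =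
        (h t' ^ (N + 1)) • (h t ^ N • m t) - (h t ^ (N + 1)) • (h t' ^ N • m t') := by
      rw [smul_sub, smul_smul, smul_smul, smul_smul, smul_smul]
      congr 2 <;> ring
    rw [h1] at h0
    exact sub_eq_zero.mp h0
  -- f^K in radical of span of new denominators
  have hJ : f ^ K ∈ (Ideal.span ((fun t => h t ^ (N + 1)) '' (T : Set _))).radical := by
    rw [← hcT]
    refine Ideal.sum_mem _ fun t _ => ?_
    rw [smul_eq_mul]
    refine Ideal.mul_mem_left _ _ ?_
    exact ⟨N + 1, Ideal.subset_span ⟨t.1, t.2, rfl⟩⟩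
  obtain ⟨L, hL⟩ := hJ
  set K' : ℕ := n.natAbs + K * L with hK'
  have hfK' : f ^ K' ∈ Ideal.span ((fun t => h t ^ (N + 1)) '' (T : Set _)) := by
    rw [hK', pow_add, pow_mul]
    exact Ideal.mul_mem_left _ _ hL
  obtain ⟨b, hb⟩ := (Submodule.mem_span_image_finset_iff_exists_fun' (R := A)).mp hfK'
  -- degrees
  have hfK'deg : f ^ K' ∈ 𝒜 (K' * d) := by
    have := SetLike.pow_mem_graded K' hf
    simpa [smul_eq_mul] using this
  have hh' : ∀ t, h t ^ (N + 1) ∈ 𝒜 ((N + 1) * e t) := by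
    intro t
    have := SetLike.pow_mem_graded (N + 1) (hh t)
    simpa [smul_eq_mul] using this
  have hm' : ∀ t, h t ^ N • m t ∈ ℳ (N * e t + c t) := by
    intro t
    have h1 : h t ^ N ∈ 𝒜 (N * e t) := by
      have := SetLike.pow_mem_graded N (hh t)
      simpa [smul_eq_mul] using this
    exact SetLike.GradedSMul.smul_mem h1 (hm t)
  set D : ℕ := K' * d with hD
  -- homogeneous coefficients
  let b' : _ → A := fun t => if (N + 1) * e t ≤ D then (DirectSum.decompose 𝒜 (b t) (D - (N + 1) * e t) : A) else 0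
  have hb' : ∑ t ∈ T, b' t * h t ^ (N + 1) = f ^ K' := by
    have h1 := congrArg (fun z => (DirectSum.decompose 𝒜 z D : A)) hb
    simp only [smul_eq_mul] at h1
    rw [DirectSum.decompose_of_mem_same 𝒜 hfK'deg, DirectSum.decompose_sum, DFinsupp.finsetSum_apply,
      AddSubmonoidClass.coe_finsetSum] at h1
    rw [← h1]
    refine Finset.sum_congr rfl fun t _ => ?_
    rw [DirectSum.coe_decompose_mul_of_right_mem 𝒜 D (hh' t)]
    simp only [b']
    split_ifs <;> simp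
  have hDn : 0 ≤ (D : ℤ) + n := by
    have h1 : K' ≤ K' * d := Nat.le_mul_of_pos_right K' hd
    have h2 : (n.natAbs : ℤ) ≤ K' := by rw [hK']; push_cast; omega
    have h3 : (K' : ℤ) ≤ (D : ℤ) := by rw [hD]; exact_mod_cast h1
    omega
  have hbm : ∀ t, b' t • (h t ^ N • m t) ∈ ℳ ((D : ℤ) + n).toNat := by
    intro t
    simp only [b']
    split_ifs with hle
    · have h1 : (DirectSum.decompose 𝒜 (b t) (D - (N + 1) * e t) : A) • (h t ^ N • m t) ∈
          ℳ ((D - (N + 1) * e t) + (N * e t + c t)) :=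
        SetLike.GradedSMul.smul_mem (DirectSum.decompose 𝒜 (b t) _).2 (hm' t)
      have h2 : (D - (N + 1) * e t) + (N * e t + c t) = ((D : ℤ) + n).toNat := by
        have := hc t
        have h3 : ((N + 1) * e t : ℕ) = N * e t + e t := by ring
        zify
        rw [Int.toNat_of_nonneg hDn, Nat.cast_sub hle]
        push_cast
        linarith
      rw [← h2]
      exact h1
    · rw [zero_smul]
      exact zero_mem _
  refine ⟨K', ((D : ℤ) + n).toNat, ∑ t ∈ T, b' t • (h t ^ N • m t), sum_mem fun t _ => hbm t,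
    by rw [Int.toNat_of_nonneg hDn, hD]; push_cast; ring, ?_⟩
  intro x hx
  -- some `h t`, `t ∈ T`, is not in `x`
  obtain ⟨t, htT, htx⟩ : ∃ t ∈ T, h t ∉ x.1.asHomogeneousIdeal := by
    by_contra! hcon
    apply hx
    rw [← hb']
    exact Ideal.sum_mem _ fun t ht => Ideal.mul_mem_left _ _ (Ideal.pow_mem_of_mem _ (hcon t ht) _ (by omega))
  rw [hloc t x htx, LocalizedModule.mk_eq]
  refine ⟨⟨h t ^ N, fun hmem => htx (x.1.isPrime.mem_of_pow_mem N hmem)⟩, ?_⟩
  change h t ^ N • f ^ K' • m t = h t ^ N • h t • ∑ t' ∈ T, b' t' • (h t' ^ N • m t')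
  have hsum : h t ^ (N + 1) • ∑ t' ∈ T, b' t' • (h t' ^ N • m t') = f ^ K' • (h t ^ N • m t) := by
    rw [Finset.smul_sum, ← hb', Finset.sum_smul]
    refine Finset.sum_congr rfl fun t' ht' => ?_
    rw [smul_comm, hkey t' ht' t htT, smul_smul]
  rw [smul_smul (h t ^ N) (h t), ← pow_succ, hsum, smul_comm]

end Groth.Agent.H8.ProjTilde
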