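import Mathlib
import Groth.Prelude.Def_GrMod3
import Groth.Agent.Lib.Helper8.ProjTilde.Frac

set_option autoImplicit false
universe u
open AlgebraicGeometry CategoryTheory Opposite TopologicalSpace DirectSum

namespace Groth.Agent.H8.ProjTilde

variable {A σ : Type u} [CommRing A] [SetLike σ A] [AddSubgroupClass σ A] (𝒜 : ℕ → σ) [GradedRing 𝒜]
variable {M τ : Type u} [AddCommGroup M] [Module A M] [SetLike τ M] [AddSubgroupClass τ M] (ℳ : ℕ → τ)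
variable [SetLike.GradedSMul 𝒜 ℳ]

/-- extensionality for sections of `M(n)~`: values in the localized modules. -/
lemma sect_ext {n : ℤ} {U : (Opens (ProjectiveSpectrum.top 𝒜))ᵒᵖ} (s t : GrMod.sect 𝒜 ℳ n U)
    (h : ∀ x : U.unop, ((s.1 x).1 : GrMod.LocMod 𝒜 (M := M) x.1) = (t.1 x).1) : s = t :=
  Subtype.ext (funext fun x => Subtype.ext (h x))

/-- The section `m / s` of `M(n)~` over an open where `s` vanishes nowhere. -/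
def fracSect (n : ℤ) (U : Opens (ProjectiveSpectrum.top 𝒜)) {i j : ℕ} {m : M} (hm : m ∈ ℳ i)
    {s : A} (hs : s ∈ 𝒜 j) (nin : ∀ x : U, s ∉ x.1.asHomogeneousIdeal) (hij : (i : ℤ) = j + n) :
    GrMod.sect 𝒜 ℳ n (op U) :=
  ⟨fun x => ⟨LocalizedModule.mk m ⟨s, nin x⟩,
      Submodule.subset_span ⟨i, j, ⟨m, hm⟩, ⟨s, hs⟩, nin x, hij, rfl⟩⟩,
    fun x => ⟨U, x.2, 𝟙 _, i, j, ⟨m, hm⟩, ⟨s, hs⟩, nin, Or.inl hij, fun _ => rfl⟩⟩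

@[simp] lemma fracSect_val (n : ℤ) (U : Opens (ProjectiveSpectrum.top 𝒜)) {i j : ℕ} {m : M} (hm : m ∈ ℳ i)
    {s : A} (hs : s ∈ 𝒜 j) (nin : ∀ x : U, s ∉ x.1.asHomogeneousIdeal) (hij : (i : ℤ) = j + n) (x : U) :
    (((fracSect 𝒜 ℳ n U hm hs nin hij).1 x).1 : GrMod.LocMod 𝒜 (M := M) x.1) =
      LocalizedModule.mk m ⟨s, nin x⟩ := rfl

lemma pow_notMem_of_mem_basicOpen {f : A} (k : ℕ) (x : ProjectiveSpectrum.basicOpen 𝒜 f) :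
    f ^ k ∉ x.1.asHomogeneousIdeal := fun h =>
  (ProjectiveSpectrum.mem_basicOpen 𝒜 f x.1).mp x.2 (x.1.isPrime.mem_of_pow_mem k h)

lemma pow_mem_graded' {d : ℕ} {f : A} (hf : f ∈ 𝒜 d) (k : ℕ) : f ^ k ∈ 𝒜 (k * d) := by
  have := SetLike.pow_mem_graded k hf
  simpa [smul_eq_mul] using this

/-- The section `m / f ^ k` of `M(n)~` over `D₊(f)`. -/
def powSect (n : ℤ) {d : ℕ} {f : A} (hf : f ∈ 𝒜 d) (k : ℕ) {i : ℕ} {m : M} (hm : m ∈ ℳ i)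
    (hi : (i : ℤ) = k * d + n) : GrMod.sect 𝒜 ℳ n (op (ProjectiveSpectrum.basicOpen 𝒜 f)) :=
  fracSect 𝒜 ℳ n (ProjectiveSpectrum.basicOpen 𝒜 f) hm (pow_mem_graded' 𝒜 hf k)
    (pow_notMem_of_mem_basicOpen 𝒜 k) (by rw [hi]; push_cast; ring)

@[simp] lemma powSect_val (n : ℤ) {d : ℕ} {f : A} (hf : f ∈ 𝒜 d) (k : ℕ) {i : ℕ} {m : M} (hm : m ∈ ℳ i)
    (hi : (i : ℤ) = k * d + n) (x : ProjectiveSpectrum.basicOpen 𝒜 f) :
    (((powSect 𝒜 ℳ n hf k hm hi).1 x).1 : GrMod.LocMod 𝒜 (M := M) x.1) =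
      LocalizedModule.mk m ⟨f ^ k, pow_notMem_of_mem_basicOpen 𝒜 k x⟩ := rfl

/-- every section over `D₊(f)` is a `powSect`. -/
theorem exists_eq_powSect [DirectSum.Decomposition ℳ] (n : ℤ) {d : ℕ} (hd : 0 < d) {f : A} (hf : f ∈ 𝒜 d)
    (s : GrMod.sect 𝒜 ℳ n (op (ProjectiveSpectrum.basicOpen 𝒜 f))) :
    ∃ (k i : ℕ) (m : M) (hm : m ∈ ℳ i) (hi : (i : ℤ) = k * d + n), s = powSect 𝒜 ℳ n hf k hm hi := by
  obtain ⟨k, i, m, hm, hi, h⟩ := exists_frac 𝒜 ℳ n hd hf s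
  exact ⟨k, i, m, hm, hi, sect_ext 𝒜 ℳ _ _ fun x => h x _⟩

/-- a `powSect` vanishes iff a power of `f` kills the numerator. -/
theorem powSect_eq_zero_iff [DirectSum.Decomposition ℳ] (n : ℤ) {d : ℕ} (hd : 0 < d) {f : A} (hf : f ∈ 𝒜 d)
    (k : ℕ) {i : ℕ} {m : M} (hm : m ∈ ℳ i) (hi : (i : ℤ) = k * d + n) :
    powSect 𝒜 ℳ n hf k hm hi = 0 ↔ ∃ N : ℕ, f ^ N • m = 0 := by
  constructor
  · intro h0
    refine exists_pow_smul_eq_zero 𝒜 ℳ hd hf hm fun x hx => ?_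
    have h1 : (((powSect 𝒜 ℳ n hf k hm hi).1 ⟨x, hx⟩).1 : GrMod.LocMod 𝒜 (M := M) x) = 0 := by
      rw [h0]; rfl
    rw [powSect_val, mk_eq_zero_iff] at h1
    obtain ⟨u, hu⟩ := h1
    exact ⟨u, u.2, hu⟩
  · rintro ⟨N, hN⟩
    refine sect_ext 𝒜 ℳ _ _ fun x => ?_
    rw [powSect_val]
    change _ = (0 : GrMod.LocMod 𝒜 (M := M) x.1)
    rw [mk_eq_zero_iff]
    exact ⟨⟨f ^ N, pow_notMem_of_mem_basicOpen 𝒜 N x⟩, hN⟩

end Groth.Agent.H8.ProjTilde
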