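import Mathlib
import Groth.Prelude.Def_GrMod3
import Groth.Agent.Lib.Helper8.ProjTilde.Sect

set_option autoImplicit false
universe u
open AlgebraicGeometry CategoryTheory Opposite TopologicalSpace DirectSum

namespace Groth.Agent.H8.ProjTilde

variable {A σ : Type u} [CommRing A] [SetLike σ A] [AddSubgroupClass σ A] (𝒜 : ℕ → σ) [GradedRing 𝒜]
variable {M τ : Type u} [AddCommGroup M] [Module A M] [SetLike τ M] [AddSubgroupClass τ M] (ℳ : ℕ → τ)
variable [SetLike.GradedSMul 𝒜 ℳ]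

/-- every point of `Proj` misses some homogeneous element of positive degree -/
lemma exists_homog_notMem (x : ProjectiveSpectrum 𝒜) :
    ∃ (f : A) (m : ℕ) (_ : f ∈ 𝒜 m) (_ : 0 < m), f ∉ x.asHomogeneousIdeal := by
  classical
  by_contra! hcon
  refine x.not_irrelevant_le fun z hz ↦ ?_
  rw [← DirectSum.sum_support_decompose 𝒜 z]
  refine x.asHomogeneousIdeal.toIdeal.sum_mem fun k hk ↦ hcon _ k (SetLike.coe_mem _) ?_
  by_contra h0
  have hk0 : k = 0 := by omega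
  subst hk0
  rw [HomogeneousIdeal.mem_irrelevant_iff, GradedRing.proj_apply] at hz
  rw [DFinsupp.mem_support_iff] at hk
  exact hk (Subtype.ext hz)

/-- every point of `Proj` misses some homogeneous element of degree `j` with `0 ≤ j + n`. -/
lemma exists_homog_notMem_large (x : ProjectiveSpectrum 𝒜) (n : ℤ) :
    ∃ (s : A) (j : ℕ) (_ : s ∈ 𝒜 j), 0 ≤ (j : ℤ) + n ∧ s ∉ x.asHomogeneousIdeal := by
  obtain ⟨f, d, hf, hd, hfx⟩ := exists_homog_notMem 𝒜 x
  refine ⟨f ^ n.natAbs, n.natAbs * d, pow_mem_graded' 𝒜 hf _, ?_,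
    fun h => hfx (x.isPrime.mem_of_pow_mem _ h)⟩
  have h1 : n.natAbs ≤ n.natAbs * d := Nat.le_mul_of_pos_right _ hd
  have h2 : (n.natAbs : ℤ) ≤ ((n.natAbs * d : ℕ) : ℤ) := by exact_mod_cast h1
  omega

/-- **Elements of `tildeAt` are single fractions.** -/
theorem exists_frac_of_mem_tildeAt (n : ℤ) (x : ProjectiveSpectrum 𝒜) {q : GrMod.LocMod 𝒜 (M := M) x}
    (hq : q ∈ GrMod.tildeAt 𝒜 ℳ n x) :
    ∃ (i j : ℕ) (m : M) (_ : m ∈ ℳ i) (s : A) (_ : s ∈ 𝒜 j) (hs : s ∉ x.asHomogeneousIdeal),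
      (i : ℤ) = j + n ∧ q = LocalizedModule.mk m ⟨s, hs⟩ := by
  induction hq using Submodule.span_induction with
  | mem q h =>
    obtain ⟨i, j, m, s, hs, hij, rfl⟩ := h
    exact ⟨i, j, m.1, m.2, s.1, s.2, hs, hij, rfl⟩
  | zero =>
    obtain ⟨s, j, hs, hj, hsx⟩ := exists_homog_notMem_large 𝒜 x n
    exact ⟨((j : ℤ) + n).toNat, j, 0, zero_mem _, s, hs, hsx, by rw [Int.toNat_of_nonneg hj],
      (LocalizedModule.zero_mk _).symm⟩
  | add q q' _ _ h h' =>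
    obtain ⟨i, j, m, hm, s, hs, hsx, hij, rfl⟩ := h
    obtain ⟨i', j', m', hm', s', hs', hsx', hij', rfl⟩ := h'
    have hss : s * s' ∉ x.asHomogeneousIdeal := fun hmem =>
      (x.isPrime.mem_or_mem hmem).elim hsx hsx'
    refine ⟨j' + i, j + j', s' • m + s • m', add_mem (SetLike.GradedSMul.smul_mem hs' hm) ?_,
      s * s', SetLike.mul_mem_graded hs hs', hss, by push_cast; omega, ?_⟩
    · have e : j' + i = j + i' := by omega
      rw [e]
      exact SetLike.GradedSMul.smul_mem hs hm'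
    · rw [LocalizedModule.mk_add_mk]
      rfl
  | smul c q _ h =>
    obtain ⟨i, j, m, hm, s, hs, hsx, hij, rfl⟩ := h
    have hcs : c.den * s ∉ x.asHomogeneousIdeal := fun hmem =>
      (x.isPrime.mem_or_mem hmem).elim c.den_mem hsx
    refine ⟨c.deg + i, c.deg + j, c.num • m, SetLike.GradedSMul.smul_mem c.num_mem_deg hm,
      c.den * s, SetLike.mul_mem_graded c.den_mem_deg hs, hcs, by push_cast; omega, ?_⟩
    rw [GrMod.a0_smul_def, c.eq_num_div_den, LocalizedModule.mk_smul_mk]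
    rfl


theorem stalkToFiber_surjective (n : ℤ) (p : ProjectiveSpectrum 𝒜) :
    Function.Surjective (TopCat.stalkToFiber (GrMod.isLocFrac 𝒜 ℳ n) p) := by
  refine TopCat.stalkToFiber_surjective _ _ fun t => ?_
  obtain ⟨i, j, m, hm, s, hs, hsp, hij, ht⟩ := exists_frac_of_mem_tildeAt 𝒜 ℳ n p t.2
  refine ⟨⟨ProjectiveSpectrum.basicOpen 𝒜 s, (ProjectiveSpectrum.mem_basicOpen 𝒜 s p).mpr hsp⟩,
    (fracSect 𝒜 ℳ n (ProjectiveSpectrum.basicOpen 𝒜 s) hm hs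
      (fun x => (ProjectiveSpectrum.mem_basicOpen 𝒜 s x.1).mp x.2) hij).1,
    (fracSect 𝒜 ℳ n (ProjectiveSpectrum.basicOpen 𝒜 s) hm hs
      (fun x => (ProjectiveSpectrum.mem_basicOpen 𝒜 s x.1).mp x.2) hij).2, ?_⟩
  exact Subtype.ext ht.symm

theorem stalkToFiber_injective [DirectSum.Decomposition ℳ] (n : ℤ) (p : ProjectiveSpectrum 𝒜) :
    Function.Injective (TopCat.stalkToFiber (GrMod.isLocFrac 𝒜 ℳ n) p) := by
  refine TopCat.stalkToFiber_injective _ _ ?_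
  intro U V fU hU fV hV heq
  obtain ⟨U', hpU', iU, i, j, ⟨m, hm⟩, ⟨s, hs⟩, nin, hij, w⟩ := hU ⟨p, U.2⟩
  obtain ⟨V', hpV', iV, i', j', ⟨m', hm'⟩, ⟨s', hs'⟩, nin', hij', w'⟩ := hV ⟨p, V.2⟩
  replace hij : (i : ℤ) = j + n ∨ m = 0 := hij
  replace hij' : (i' : ℤ) = j' + n ∨ m' = 0 := hij'
  -- the homogeneous element `s' • m - s • m'`
  have hz : ∃ e : ℕ, s' • m - s • m' ∈ ℳ e := by
    rcases hij with h1 | h1
    · rcases hij' with h2 | h2
      · refine ⟨j' + i, sub_mem (SetLike.GradedSMul.smul_mem hs' hm) ?_⟩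
        have e : j' + i = j + i' := by omega
        rw [e]
        exact SetLike.GradedSMul.smul_mem hs hm'
      · refine ⟨j' + i, ?_⟩
        rw [h2, smul_zero, sub_zero]
        exact SetLike.GradedSMul.smul_mem hs' hm
    · refine ⟨j + i', ?_⟩
      rw [h1, smul_zero, zero_sub]
      exact neg_mem (SetLike.GradedSMul.smul_mem hs hm')
  obtain ⟨e, hze⟩ := hz
  have e1 := w ⟨p, hpU'⟩
  have e2 := w' ⟨p, hpV'⟩
  have e3 : (LocalizedModule.mk m ⟨s, nin ⟨p, hpU'⟩⟩ : GrMod.LocMod 𝒜 (M := M) p) =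
      LocalizedModule.mk m' ⟨s', nin' ⟨p, hpV'⟩⟩ := by
    have h3 := congrArg Subtype.val heq
    exact e1.symm.trans (h3.trans e2)
  rw [LocalizedModule.mk_eq] at e3
  obtain ⟨u, hu⟩ := e3
  have hu' : (u : A) • (s' • m - s • m') = 0 := by
    have : (u : A) • s' • m = (u : A) • s • m' := hu
    rw [smul_sub, this, sub_self]
  obtain ⟨k, hk⟩ := exists_component_notMem 𝒜 p u.2
  have hk0 := component_smul_eq_zero 𝒜 ℳ hze (u : A) hu' k
  set g : A := (DirectSum.decompose 𝒜 (u : A) k : A) with hg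
  refine ⟨⟨(U' ⊓ V') ⊓ ProjectiveSpectrum.basicOpen 𝒜 g,
    ⟨⟨hpU', hpV'⟩, (ProjectiveSpectrum.mem_basicOpen 𝒜 g p).mpr hk⟩⟩,
    homOfLE (fun y hy => (leOfHom iU) hy.1.1), homOfLE (fun y hy => (leOfHom iV) hy.1.2), ?_⟩
  intro y
  refine Subtype.ext ?_
  have hyU : y.1 ∈ U' := y.2.1.1
  have hyV : y.1 ∈ V' := y.2.1.2
  have hyg : g ∉ y.1.asHomogeneousIdeal := (ProjectiveSpectrum.mem_basicOpen 𝒜 g y.1).mp y.2.2
  have f1 := w ⟨y.1, hyU⟩
  have f2 := w' ⟨y.1, hyV⟩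
  refine (f1.trans ?_).trans f2.symm
  rw [LocalizedModule.mk_eq]
  refine ⟨⟨g, hyg⟩, ?_⟩
  change g • s' • m = g • s • m'
  rw [← sub_eq_zero, ← smul_sub]
  exact hk0

theorem stalkToFiber_bijective [DirectSum.Decomposition ℳ] (n : ℤ) (p : ProjectiveSpectrum 𝒜) :
    Function.Bijective (TopCat.stalkToFiber (GrMod.isLocFrac 𝒜 ℳ n) p) :=
  ⟨stalkToFiber_injective 𝒜 ℳ n p, stalkToFiber_surjective 𝒜 ℳ n p⟩

end Groth.Agent.H8.ProjTilde
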