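import Mathlib
import Groth.Prelude.Def_RelProj3
import Groth.Agent.Lib.Helper8.ProjTilde.Sect
import Groth.Agent.Lib.Helper8.ProjTilde.Stalk
import Groth.Agent.Lib.Helper2.ModGlue

set_option autoImplicit false
universe u
open AlgebraicGeometry CategoryTheory Opposite TopologicalSpace DirectSum
open scoped HomogeneousIdeal

namespace Groth.Agent.H8.ProjTilde

section basis
variable {A σ : Type u} [CommRing A] [SetLike σ A] [AddSubgroupClass σ A] (𝒜 : ℕ → σ) [GradedRing 𝒜]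

/-- homogeneous elements of positive degree. -/
def HomogPos : Type u := {g : A // ∃ d : ℕ, 0 < d ∧ g ∈ 𝒜 d}

/-- the basic opens `D₊(g)`, `g` homogeneous of positive degree. -/
def homogBasis (g : HomogPos 𝒜) : (Proj 𝒜).Opens := Proj.basicOpen 𝒜 g.1

/-- **The `D₊(g)`, `g` homogeneous of positive degree, form a basis of `Proj`.** -/
theorem isBasis_homogBasis : Opens.IsBasis (Set.range (homogBasis 𝒜)) := by
  classical
  rw [Opens.isBasis_iff_nbhd]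
  intro W x hxW
  obtain ⟨V, ⟨a, rfl⟩, hxa, haW⟩ := Opens.isBasis_iff_nbhd.mp (Proj.isBasis_basicOpen 𝒜) hxW
  rw [Proj.basicOpen_eq_iSup_proj] at hxa
  obtain ⟨i, hi⟩ := Opens.mem_iSup.mp hxa
  obtain ⟨f, d, hf, hd, hfx⟩ := exists_homog_notMem 𝒜 x
  have hai : (GradedRing.proj 𝒜 i a) ∈ 𝒜 i := by
    rw [GradedRing.proj_apply]; exact (DirectSum.decompose 𝒜 a i).2
  refine ⟨_, ⟨⟨GradedRing.proj 𝒜 i a * f, i + d, by omega, SetLike.mul_mem_graded hai hf⟩, rfl⟩, ?_, ?_⟩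
  · change x ∈ Proj.basicOpen 𝒜 (GradedRing.proj 𝒜 i a * f)
    rw [Proj.basicOpen_mul]
    exact ⟨hi, hfx⟩
  · refine le_trans ?_ haW
    change Proj.basicOpen 𝒜 (GradedRing.proj 𝒜 i a * f) ≤ _
    rw [Proj.basicOpen_mul, Proj.basicOpen_eq_iSup_proj 𝒜 a]
    exact inf_le_left.trans (le_iSup (fun i => Proj.basicOpen 𝒜 (GradedRing.proj 𝒜 i a)) i)

end basis

section comap
variable {A σ : Type u} [CommRing A] [SetLike σ A] [AddSubgroupClass σ A] {𝒜 : ℕ → σ} [GradedRing 𝒜]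
variable {M τ : Type u} [AddCommGroup M] [Module A M] [SetLike τ M] [AddSubgroupClass τ M] {ℳ : ℕ → τ}
  [SetLike.GradedSMul 𝒜 ℳ] [DirectSum.Decomposition ℳ]
variable {B σ' : Type u} [CommRing B] [SetLike σ' B] [AddSubgroupClass σ' B] {ℬ : ℕ → σ'} [GradedRing ℬ]
variable {N τ' : Type u} [AddCommGroup N] [Module B N] [SetLike τ' N] [AddSubgroupClass τ' N] {𝒩 : ℕ → τ'}
  [SetLike.GradedSMul ℬ 𝒩] [DirectSum.Decomposition 𝒩]
variable (ψ : 𝒜 →+*ᵍ ℬ) (hψ : ℬ₊ ≤ (𝒜₊).map ψ) (v : M →ₛₗ[ψ.toRingHom] N)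
  (hv : ∀ (i : ℕ) (m : M), m ∈ ℳ i → v m ∈ 𝒩 i)

include hv in
/-- a degree-preserving semilinear map commutes with taking homogeneous components. -/
lemma semilin_decompose (m : M) (j : ℕ) :
    v (DirectSum.decompose ℳ m j : M) = (DirectSum.decompose 𝒩 (v m) j : N) := by
  classical
  conv_rhs => rw [← DirectSum.sum_support_decompose ℳ m, map_sum, DirectSum.decompose_sum,
    DFinsupp.finsetSum_apply, AddSubmonoidClass.coe_finsetSum]
  by_cases hj : j ∈ (DirectSum.decompose ℳ m).support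
  · rw [Finset.sum_eq_single j]
    · rw [DirectSum.decompose_of_mem_same 𝒩 (hv j _ (DirectSum.decompose ℳ m j).2)]
    · intro k _ hkj
      exact DirectSum.decompose_of_mem_ne 𝒩 (hv k _ (DirectSum.decompose ℳ m k).2) hkj
    · intro hj'; exact absurd hj hj'
  · have h0 : DirectSum.decompose ℳ m j = 0 := by simpa [DFinsupp.mem_support_iff] using hj
    rw [h0, ZeroMemClass.coe_zero, map_zero]
    symm
    refine Finset.sum_eq_zero fun k hk => ?_
    refine DirectSum.decompose_of_mem_ne 𝒩 (hv k _ (DirectSum.decompose ℳ m k).2) ?_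
    rintro rfl
    exact hj hk

include hv in
/-- for bijective `v`, homogeneous elements of `N` come from homogeneous elements of `M`. -/
lemma exists_homog_preimage (hbij : Function.Bijective v) {i : ℕ} {n' : N} (hn' : n' ∈ 𝒩 i) :
    ∃ m ∈ ℳ i, v m = n' := by
  obtain ⟨m, rfl⟩ := hbij.2 n'
  refine ⟨(DirectSum.decompose ℳ m i : M), (DirectSum.decompose ℳ m i).2, ?_⟩
  rw [semilin_decompose ψ v hv, DirectSum.decompose_of_mem_same 𝒩 hn']

/-- **the comap on sections over `D₊(f)` is bijective when `v` is**. -/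
theorem comapApp_bijective (hbij : Function.Bijective v) (n : ℤ) {d : ℕ} (hd : 0 < d) {f : A} (hf : f ∈ 𝒜 d)
    (V : Opens (ProjectiveSpectrum.top ℬ))
    (hV : ∀ y : ProjectiveSpectrum ℬ, y ∈ V ↔ ψ f ∉ y.asHomogeneousIdeal)
    (hUV : V.1 ⊆ ProjectiveSpectrum.comap ψ hψ ⁻¹' (ProjectiveSpectrum.basicOpen 𝒜 f).1) :
    Function.Bijective (GrMod.comapApp ψ hψ v hv n (ProjectiveSpectrum.basicOpen 𝒜 f) V hUV) := by
  classical
  have hψf : ψ f ∈ ℬ d := ψ.map_mem hf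
  have hle : ProjectiveSpectrum.basicOpen ℬ (ψ f) ≤ V := fun y hy =>
    (hV y).mpr ((ProjectiveSpectrum.mem_basicOpen ℬ _ y).mp hy)
  constructor
  · rw [injective_iff_map_eq_zero]
    intro s hs
    obtain ⟨k, i, m, hm, hi, rfl⟩ := exists_eq_powSect 𝒜 ℳ n hd hf s
    rw [powSect_eq_zero_iff 𝒜 ℳ n hd hf]
    -- `ψ f ^ N • v m = 0`
    have h1 : ∃ N' : ℕ, (ψ f) ^ N' • v m = 0 := by
      refine exists_pow_smul_eq_zero ℬ 𝒩 hd hψf (hv i m hm) fun y hy => ?_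
      have hyV : y ∈ V := hle hy
      have h2 : (((GrMod.comapApp ψ hψ v hv n (ProjectiveSpectrum.basicOpen 𝒜 f) V hUV
          (powSect 𝒜 ℳ n hf k hm hi)).1 ⟨y, hyV⟩).1 : GrMod.LocMod ℬ (M := N) y) = 0 := by
        rw [hs]; rfl
      rw [GrMod.comapApp_apply_coe, powSect_val, GrMod.locModMap_mk, mk_eq_zero_iff] at h2
      obtain ⟨u, hu⟩ := h2
      exact ⟨u, u.2, hu⟩
    obtain ⟨N', hN'⟩ := h1
    refine ⟨N', hbij.1 ?_⟩
    rw [map_zero, LinearMap.map_smulₛₗ, map_pow]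
    exact hN'
  · intro t
    set t' := GrMod.res ℬ 𝒩 n (homOfLE hle).op t with ht'
    obtain ⟨k, i, n', hn', hi, ht⟩ := exists_frac ℬ 𝒩 n hd hψf t'
    obtain ⟨m, hm, rfl⟩ := exists_homog_preimage ψ v hv hbij hn'
    refine ⟨powSect 𝒜 ℳ n hf k hm hi, ?_⟩
    refine sect_ext ℬ 𝒩 _ _ fun y0 => ?_
    obtain ⟨y, hy⟩ : (V : Opens (ProjectiveSpectrum.top ℬ)) := y0
    have hyb : y ∈ ProjectiveSpectrum.basicOpen ℬ (ψ f) :=
      (ProjectiveSpectrum.mem_basicOpen ℬ _ y).mpr ((hV y).mp hy)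
    rw [GrMod.comapApp_apply_coe, powSect_val, GrMod.locModMap_mk]
    have h3 := ht ⟨y, hyb⟩ (pow_notMem_of_mem_basicOpen ℬ k ⟨y, hyb⟩)
    refine Eq.trans ?_ h3.symm
    congr 1
    exact Subtype.ext (map_pow ψ f k)

end comap

end Groth.Agent.H8.ProjTilde

namespace Groth.Agent.H8.ProjTilde
section
variable {A σ : Type u} [CommRing A] [SetLike σ A] [AddSubgroupClass σ A] {𝒜 : ℕ → σ} [GradedRing 𝒜]
variable {M τ : Type u} [AddCommGroup M] [Module A M] [SetLike τ M] [AddSubgroupClass τ M] (ℳ : ℕ → τ)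
  [SetLike.GradedSMul 𝒜 ℳ] [DirectSum.Decomposition ℳ]
variable {B σ' : Type u} [CommRing B] [SetLike σ' B] [AddSubgroupClass σ' B] {ℬ : ℕ → σ'} [GradedRing ℬ]
variable {N τ' : Type u} [AddCommGroup N] [Module B N] [SetLike τ' N] [AddSubgroupClass τ' N] (𝒩 : ℕ → τ')
  [SetLike.GradedSMul ℬ 𝒩] [DirectSum.Decomposition 𝒩]
variable (ψ : 𝒜 →+*ᵍ ℬ) (hψ : ℬ₊ ≤ (𝒜₊).map ψ) (v : M →ₛₗ[ψ.toRingHom] N)
  (hv : ∀ (i : ℕ) (m : M), m ∈ ℳ i → v m ∈ 𝒩 i)

/-- **`M(n)~ → Φ_* N(n)~` is an isomorphism when `v : M → N` is bijective.** -/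
theorem isIso_comap_of_bijective (hbij : Function.Bijective v) (n : ℤ) :
    IsIso (GrMod.comap ψ hψ v hv n) := by
  refine Groth.Agent.H2.ModGlue.isIso_of_bijective_basis (homogBasis 𝒜) (isBasis_homogBasis 𝒜) _ ?_
  rintro ⟨g, d, hd, hg⟩
  exact comapApp_bijective ψ hψ v hv hbij n hd hg (Proj.map ψ hψ ⁻¹ᵁ (Proj.basicOpen 𝒜 g))
    (fun y => Iff.rfl) Set.Subset.rfl
end
end Groth.Agent.H8.ProjTilde
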