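import Mathlib
import Groth.Prelude.Def_GrMod3
import Groth.Agent.Lib.Helper8.ProjTilde.Sect

set_option autoImplicit false
universe u
open AlgebraicGeometry CategoryTheory Opposite TopologicalSpace DirectSum

namespace Groth.Agent.H8.ProjTilde

variable {A σ : Type u} [CommRing A] [SetLike σ A] [AddSubgroupClass σ A] (𝒜 : ℕ → σ) [GradedRing 𝒜]

section
variable {M₁ τ₁ : Type u} [AddCommGroup M₁] [Module A M₁] [SetLike τ₁ M₁] [AddSubgroupClass τ₁ M₁]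
    (ℳ₁ : ℕ → τ₁) [SetLike.GradedSMul 𝒜 ℳ₁] [DirectSum.Decomposition ℳ₁]
    {M₂ τ₂ : Type u} [AddCommGroup M₂] [Module A M₂] [SetLike τ₂ M₂] [AddSubgroupClass τ₂ M₂]
    (ℳ₂ : ℕ → τ₂) [SetLike.GradedSMul 𝒜 ℳ₂] [DirectSum.Decomposition ℳ₂]

/-- a degree-preserving map commutes with taking homogeneous components -/
lemma lin_decompose (u : M₁ →ₗ[A] M₂) (hu : ∀ (i : ℕ) (m : M₁), m ∈ ℳ₁ i → u m ∈ ℳ₂ i) (m : M₁) (j : ℕ) :
    u (DirectSum.decompose ℳ₁ m j : M₁) = (DirectSum.decompose ℳ₂ (u m) j : M₂) := by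
  classical
  conv_rhs => rw [← DirectSum.sum_support_decompose ℳ₁ m, map_sum, DirectSum.decompose_sum,
    DFinsupp.finsetSum_apply, AddSubmonoidClass.coe_finsetSum]
  by_cases hj : j ∈ (DirectSum.decompose ℳ₁ m).support
  · rw [Finset.sum_eq_single j]
    · rw [DirectSum.decompose_of_mem_same ℳ₂ (hu j _ (DirectSum.decompose ℳ₁ m j).2)]
    · intro k _ hkj
      exact DirectSum.decompose_of_mem_ne ℳ₂ (hu k _ (DirectSum.decompose ℳ₁ m k).2) hkj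
    · intro hj'; exact absurd hj hj'
  · have h0 : DirectSum.decompose ℳ₁ m j = 0 := by simpa [DFinsupp.mem_support_iff] using hj
    rw [h0, ZeroMemClass.coe_zero, map_zero]
    symm
    refine Finset.sum_eq_zero fun k hk => ?_
    refine DirectSum.decompose_of_mem_ne ℳ₂ (hu k _ (DirectSum.decompose ℳ₁ m k).2) ?_
    rintro rfl
    exact hj hk

lemma mapApp_powSect (u : M₁ →ₗ[A] M₂) (hu : ∀ (i : ℕ) (m : M₁), m ∈ ℳ₁ i → u m ∈ ℳ₂ i) (n : ℤ)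
    {d : ℕ} {f : A} (hf : f ∈ 𝒜 d) (k : ℕ) {i : ℕ} {m : M₁} (hm : m ∈ ℳ₁ i) (hi : (i : ℤ) = k * d + n) :
    GrMod.mapApp u hu n (op (ProjectiveSpectrum.basicOpen 𝒜 f)) (powSect 𝒜 ℳ₁ n hf k hm hi) =
      powSect 𝒜 ℳ₂ n hf k (hu i m hm) hi := by
  refine sect_ext 𝒜 ℳ₂ _ _ fun x => ?_
  rw [powSect_val]
  change GrMod.locMap u x.1 (((powSect 𝒜 ℳ₁ n hf k hm hi).1 x).1) = _
  rw [powSect_val, GrMod.locMap_mk]

variable {M₃ τ₃ : Type u} [AddCommGroup M₃] [Module A M₃] [SetLike τ₃ M₃] [AddSubgroupClass τ₃ M₃]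
    (ℳ₃ : ℕ → τ₃) [SetLike.GradedSMul 𝒜 ℳ₃] [DirectSum.Decomposition ℳ₃]

/-- **Exactness on sections over `D₊(f)`.** -/
theorem mapApp_exact (u : M₁ →ₗ[A] M₂) (hu : ∀ (i : ℕ) (m : M₁), m ∈ ℳ₁ i → u m ∈ ℳ₂ i)
    (v : M₂ →ₗ[A] M₃) (hv : ∀ (i : ℕ) (m : M₂), m ∈ ℳ₂ i → v m ∈ ℳ₃ i)
    (hex : Function.Exact u v) (n : ℤ) {d : ℕ} (hd : 0 < d) {f : A} (hf : f ∈ 𝒜 d) :
    Function.Exact (GrMod.mapApp u hu n (op (ProjectiveSpectrum.basicOpen 𝒜 f)))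
      (GrMod.mapApp v hv n (op (ProjectiveSpectrum.basicOpen 𝒜 f))) := by
  intro t
  constructor
  · intro h0
    obtain ⟨k, i, m, hm, hi, rfl⟩ := exists_eq_powSect 𝒜 ℳ₂ n hd hf t
    rw [mapApp_powSect, powSect_eq_zero_iff 𝒜 ℳ₃ n hd hf] at h0
    obtain ⟨N, hN⟩ := h0
    rw [← map_smul] at hN
    obtain ⟨m₁, hm₁⟩ := (hex _).1 hN
    have hfN : f ^ N ∈ 𝒜 (N * d) := pow_mem_graded' 𝒜 hf N
    have hdeg : f ^ N • m ∈ ℳ₂ (N * d + i) := SetLike.GradedSMul.smul_mem hfN hm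
    have h1 : u (DirectSum.decompose ℳ₁ m₁ (N * d + i) : M₁) = f ^ N • m := by
      rw [lin_decompose ℳ₁ ℳ₂ u hu, hm₁, DirectSum.decompose_of_mem_same ℳ₂ hdeg]
    have hi' : ((N * d + i : ℕ) : ℤ) = ((k + N : ℕ) : ℤ) * d + n := by push_cast; rw [hi]; ring
    refine ⟨powSect 𝒜 ℳ₁ n hf (k + N) (DirectSum.decompose ℳ₁ m₁ (N * d + i)).2 hi', ?_⟩
    rw [mapApp_powSect]
    refine sect_ext 𝒜 ℳ₂ _ _ fun x => ?_
    rw [powSect_val, powSect_val, LocalizedModule.mk_eq]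
    refine ⟨1, ?_⟩
    rw [h1]
    change (1 : A) • f ^ k • f ^ N • m = (1 : A) • f ^ (k + N) • m
    rw [smul_smul (f ^ k), ← pow_add]
  · rintro ⟨s, rfl⟩
    obtain ⟨k, i, m, hm, hi, rfl⟩ := exists_eq_powSect 𝒜 ℳ₁ n hd hf s
    rw [mapApp_powSect, mapApp_powSect]
    refine sect_ext 𝒜 ℳ₃ _ _ fun x => ?_
    rw [powSect_val]
    have : v (u m) = 0 := hex.apply_apply_eq_zero m
    rw [this]
    exact LocalizedModule.zero_mk _

end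

end Groth.Agent.H8.ProjTilde
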