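import Mathlib
import Groth.Agent.Lib.Lead.QC.Closure

set_option autoImplicit false
universe u
open AlgebraicGeometry CategoryTheory Opposite TopologicalSpace Limits

namespace Groth.Agent.H8.ProjTilde

open Groth.Agent.LD.QC

variable {X : Scheme.{u}}

/-- **Affine-local criterion for quasi-coherence (one affine open).**  If sections of `M` over the
basic opens of an affine open `U` are the localizations of the sections over `U`, then the
restriction of `M` to `Spec Γ(X, U)` is quasi-coherent. -/
theorem qc_restrict_fromSpec_of_localizing (M : X.Modules) {U : X.Opens} (hU : IsAffineOpen U)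
    (hsurj : ∀ (f : Γ(X, U)) (t : Γ(M, X.basicOpen f)), ∃ (n : ℕ) (s : Γ(M, U)),
      M.presheaf.map (homOfLE (X.basicOpen_le f)).op s =
        (X.presheaf.map (homOfLE (X.basicOpen_le f)).op f) ^ n • t)
    (hinj : ∀ (f : Γ(X, U)) (s : Γ(M, U)),
      M.presheaf.map (homOfLE (X.basicOpen_le f)).op s = 0 → ∃ n : ℕ, f ^ n • s = 0) :
    (M.restrict hU.fromSpec).IsQuasicoherent := by
  rw [isQuasicoherent_iff_isIso_fromTildeΓ, isIso_fromTildeΓ_iff_isLocalizing]
  intro f
  have hD : hU.fromSpec ''ᵁ PrimeSpectrum.basicOpen f = X.basicOpen f :=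
    hU.fromSpec_image_basicOpen f
  have hT : hU.fromSpec ''ᵁ ⊤ = U :=
    (Scheme.Hom.image_top_eq_opensRange _).trans hU.opensRange_fromSpec
  refine IsLocalizedModule.Away.mk_of_addCommGroup ?_ ?_ ?_
  · exact (M.restrict hU.fromSpec).isUnit_algebraMap_end_of_le_basicOpen f le_rfl
  · intro t
    -- `t : Γ(M.restrict fromSpec, D(f)) = Γ(M, fromSpec ''ᵁ D(f))`
    let t' : Γ(M, X.basicOpen f) := M.presheaf.map (homOfLE hD.ge).op
      (show Γ(M, hU.fromSpec ''ᵁ PrimeSpectrum.basicOpen f) from t)
    obtain ⟨n, s, hs⟩ := hsurj f t'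
    let s' : Γ(M.restrict hU.fromSpec, ⊤) := M.presheaf.map (homOfLE hT.le).op s
    refine ⟨n, s', ?_⟩
    have h1 : (f ^ n • t : Γ(M.restrict hU.fromSpec, PrimeSpectrum.basicOpen f)) =
        (show Γ(M.restrict hU.fromSpec, PrimeSpectrum.basicOpen f) from
          (X.presheaf.map (homOfLE (fromSpec_image_le hU (PrimeSpectrum.basicOpen f))).op (f ^ n)) •
            (show Γ(M, hU.fromSpec ''ᵁ PrimeSpectrum.basicOpen f) from t)) :=
      fromSpec_smul M hU (PrimeSpectrum.basicOpen f) (f ^ n) t
    refine h1.trans ?_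
    change _ = M.presheaf.map (homOfLE _).op (M.presheaf.map (homOfLE hT.le).op s)
    rw [res_res]
    have h2 := congrArg (M.presheaf.map (homOfLE hD.le).op) hs
    rw [res_res, Scheme.Modules.map_smul, map_pow, sres_res] at h2
    have h3 : M.presheaf.map (homOfLE hD.le).op t' =
        (show Γ(M, hU.fromSpec ''ᵁ PrimeSpectrum.basicOpen f) from t) := by
      change M.presheaf.map (homOfLE hD.le).op (M.presheaf.map (homOfLE hD.ge).op _) = _
      rw [res_res, res_self]
    rw [h3] at h2
    rw [map_pow]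
    exact h2.symm
  · intro s hs
    let s₀ : Γ(M, U) := M.presheaf.map (homOfLE hT.ge).op (show Γ(M, hU.fromSpec ''ᵁ ⊤) from s)
    have h0 : M.presheaf.map (homOfLE (X.basicOpen_le f)).op s₀ = 0 := by
      apply res_injective_of_le_of_le M hD.le hD.ge
      rw [map_zero]
      change M.presheaf.map (homOfLE hD.le).op (M.presheaf.map (homOfLE (X.basicOpen_le f)).op
        (M.presheaf.map (homOfLE hT.ge).op _)) = 0
      rw [res_res, res_res]
      exact hs
    obtain ⟨n, hn⟩ := hinj f s₀ h0
    refine ⟨n, ?_⟩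
    refine (fromSpec_smul M hU ⊤ (f ^ n) s).trans ?_
    have h1 := congrArg (M.presheaf.map (homOfLE hT.le).op) hn
    rw [Scheme.Modules.map_smul, map_zero] at h1
    have h3 : M.presheaf.map (homOfLE hT.le).op s₀ = (show Γ(M, hU.fromSpec ''ᵁ ⊤) from s) := by
      change M.presheaf.map (homOfLE hT.le).op (M.presheaf.map (homOfLE hT.ge).op _) = _
      rw [res_res, res_self]
    rw [h3] at h1
    exact h1

/-- **Affine-local criterion for quasi-coherence.** -/
theorem qc_of_affine_localizing (M : X.Modules) {ι : Type u} (U : ι → X.Opens)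
    (hU : ∀ i, IsAffineOpen (U i)) (hc : IsOpenCover U)
    (hsurj : ∀ (i : ι) (f : Γ(X, U i)) (t : Γ(M, X.basicOpen f)), ∃ (n : ℕ) (s : Γ(M, U i)),
      M.presheaf.map (homOfLE (X.basicOpen_le f)).op s =
        (X.presheaf.map (homOfLE (X.basicOpen_le f)).op f) ^ n • t)
    (hinj : ∀ (i : ι) (f : Γ(X, U i)) (s : Γ(M, U i)),
      M.presheaf.map (homOfLE (X.basicOpen_le f)).op s = 0 → ∃ n : ℕ, f ^ n • s = 0) :
    M.IsQuasicoherent := by
  have hc' : IsOpenCover (fun i : ι => ((hU i).fromSpec).opensRange) := by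
    have : (fun i : ι => ((hU i).fromSpec).opensRange) = U := by
      funext i; exact (hU i).opensRange_fromSpec
    rw [this]
    exact hc
  refine isQuasicoherent_of_isOpenCover M _ hc' fun i => ?_
  have := qc_restrict_fromSpec_of_localizing M (hU i) (hsurj i) (hinj i)
  exact qc_of_iso (restrictOpensRangeIso (hU i).fromSpec M) inferInstance

end Groth.Agent.H8.ProjTilde
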