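import Mathlib
import Groth.Prelude.Def_GrMod3
import Groth.Agent.Lib.Helper8.ProjTilde.Sect

set_option autoImplicit false
universe u
open AlgebraicGeometry CategoryTheory Opposite TopologicalSpace DirectSum HomogeneousLocalization

namespace Groth.Agent.H8.ProjTilde

variable {A σ : Type u} [CommRing A] [SetLike σ A] [AddSubgroupClass σ A] (𝒜 : ℕ → σ) [GradedRing 𝒜]

/-- **Sections of the structure sheaf over `D₊(f)` are fractions `a / f ^ k`.** -/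
theorem exists_structureSheaf_frac {d : ℕ} (hd : 0 < d) {f : A} (hf : f ∈ 𝒜 d)
    (r : Γ(Proj 𝒜, Proj.basicOpen 𝒜 f)) :
    ∃ (k : ℕ) (a : A) (_ : a ∈ 𝒜 (k * d)), ∀ x : Proj.basicOpen 𝒜 f,
      ((r : (ProjectiveSpectrum.Proj.structureSheaf 𝒜).1.obj (op (Proj.basicOpen 𝒜 f))).1 x).val =
        (Localization.mk a ⟨f ^ k, pow_notMem_of_mem_basicOpen 𝒜 k x⟩ :
          Localization.AtPrime x.1.asHomogeneousIdeal.toIdeal) := by
  have hiso : IsIso (Proj.awayToSection 𝒜 f) := by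
    have h := (Proj.basicOpenIsoAway 𝒜 f hf hd)
    have : (Proj.basicOpenIsoAway 𝒜 f hf hd).hom = Proj.awayToSection 𝒜 f := rfl
    rw [← this]; infer_instance
  have hsurj : Function.Surjective (Proj.awayToSection 𝒜 f).hom :=
    (ConcreteCategory.bijective_of_isIso (Proj.awayToSection 𝒜 f)).2
  obtain ⟨s, rfl⟩ := hsurj r
  obtain ⟨k, a, ha, rfl⟩ := Away.mk_surjective 𝒜 hf s
  refine ⟨k, a, by simpa [smul_eq_mul] using ha, fun x => ?_⟩
  rfl


/-- a degree-zero fraction `a / s` at a point of `Proj` is a unit iff `a` is not in the point. -/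
lemma isUnit_atPrime_iff (x : ProjectiveSpectrum 𝒜) (c : HomogeneousLocalization.AtPrime 𝒜 x.asHomogeneousIdeal.toIdeal)
    (a : A) (s : x.asHomogeneousIdeal.toIdeal.primeCompl) (hc : c.val = Localization.mk a s) :
    IsUnit c ↔ a ∉ x.asHomogeneousIdeal := by
  rw [← HomogeneousLocalization.isUnit_iff_isUnit_val, hc, Localization.mk_eq_mk',
    IsLocalization.AtPrime.isUnit_mk'_iff (Localization.AtPrime x.asHomogeneousIdeal.toIdeal)
      x.asHomogeneousIdeal.toIdeal]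
  rfl

/-- **The scheme-theoretic basic open of a section `a / f ^ k` over `D₊(f)` is `D₊(f) ⊓ D₊(a)`.** -/
theorem basicOpen_eq_of_frac {f : A} (r : Γ(Proj 𝒜, Proj.basicOpen 𝒜 f)) (k : ℕ) (a : A)
    (hr : ∀ x : Proj.basicOpen 𝒜 f,
      ((r : (ProjectiveSpectrum.Proj.structureSheaf 𝒜).1.obj (op (Proj.basicOpen 𝒜 f))).1 x).val =
        (Localization.mk a ⟨f ^ k, pow_notMem_of_mem_basicOpen 𝒜 k x⟩ :
          Localization.AtPrime x.1.asHomogeneousIdeal.toIdeal)) :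
    (Proj 𝒜).basicOpen r = Proj.basicOpen 𝒜 f ⊓ Proj.basicOpen 𝒜 a := by
  ext x
  rw [SetLike.mem_coe, SetLike.mem_coe, Scheme.mem_basicOpen'']
  constructor
  · rintro ⟨hx, hu⟩
    refine ⟨hx, ?_⟩
    have h1 := hu.map (Proj.stalkIso' 𝒜 x).toRingHom
    have h2 : (Proj.stalkIso' 𝒜 x).toRingHom ((Proj 𝒜).presheaf.germ (Proj.basicOpen 𝒜 f) x hx r) =
        (r : (ProjectiveSpectrum.Proj.structureSheaf 𝒜).1.obj (op (Proj.basicOpen 𝒜 f))).1 ⟨x, hx⟩ :=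
      Proj.stalkIso'_germ 𝒜 _ x hx r
    have h3 := (congrArg (fun z => IsUnit z) h2).mp h1
    exact (Proj.mem_basicOpen 𝒜 a x).mpr ((isUnit_atPrime_iff 𝒜 x _ a _ (hr ⟨x, hx⟩)).mp h3)
  · rintro ⟨hx, ha⟩
    refine ⟨hx, ?_⟩
    have h2 : (Proj.stalkIso' 𝒜 x) ((Proj 𝒜).presheaf.germ (Proj.basicOpen 𝒜 f) x hx r) =
        (r : (ProjectiveSpectrum.Proj.structureSheaf 𝒜).1.obj (op (Proj.basicOpen 𝒜 f))).1 ⟨x, hx⟩ :=
      Proj.stalkIso'_germ 𝒜 _ x hx r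
    have h4 : IsUnit ((r : (ProjectiveSpectrum.Proj.structureSheaf 𝒜).1.obj
        (op (Proj.basicOpen 𝒜 f))).1 ⟨x, hx⟩) :=
      (isUnit_atPrime_iff 𝒜 x _ a _ (hr ⟨x, hx⟩)).mpr ((Proj.mem_basicOpen 𝒜 a x).mp ha)
    have h3 : IsUnit ((Proj.stalkIso' 𝒜 x) ((Proj 𝒜).presheaf.germ (Proj.basicOpen 𝒜 f) x hx r)) :=
      (congrArg (fun z => IsUnit z) h2).mpr h4
    exact (MulEquiv.isUnit_map (Proj.stalkIso' 𝒜 x)).mp h3

end Groth.Agent.H8.ProjTilde
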