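import Mathlib
import Groth.Prelude.Def_GrMod3
import Groth.Agent.Lib.Helper8.ProjTilde.StrSheaf
import Groth.Agent.Lib.Helper8.ProjTilde.QCCrit
import Groth.Agent.Lib.Helper8.ProjTilde.Stalk

set_option autoImplicit false
universe u
open AlgebraicGeometry CategoryTheory Opposite TopologicalSpace DirectSum HomogeneousLocalization

namespace Groth.Agent.H8.ProjTilde

variable {A σ : Type u} [CommRing A] [SetLike σ A] [AddSubgroupClass σ A] (𝒜 : ℕ → σ) [GradedRing 𝒜]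
variable {M τ : Type u} [AddCommGroup M] [Module A M] [SetLike τ M] [AddSubgroupClass τ M] (ℳ : ℕ → τ)
variable [SetLike.GradedSMul 𝒜 ℳ]

/-- sections of the sheaf of modules `M(n)~` as elements of `GrMod.sect`. -/
abbrev toSect {n : ℤ} {V : (Proj 𝒜).Opens} (t : Γ(GrMod.tilde 𝒜 ℳ n, V)) : GrMod.sect 𝒜 ℳ n (op V) := t

abbrev ofSect {n : ℤ} {V : (Proj 𝒜).Opens} (t : GrMod.sect 𝒜 ℳ n (op V)) : Γ(GrMod.tilde 𝒜 ℳ n, V) := t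

lemma res_val {n : ℤ} {U V : (Proj 𝒜).Opens} (h : V ≤ U) (s : Γ(GrMod.tilde 𝒜 ℳ n, U)) (y : V) :
    GrMod.val ((GrMod.tilde 𝒜 ℳ n).presheaf.map (homOfLE h).op s) y = GrMod.val s ⟨y.1, h y.2⟩ := rfl

lemma smul_val {n : ℤ} {V : (Proj 𝒜).Opens} (r : Γ(Proj 𝒜, V)) (s : Γ(GrMod.tilde 𝒜 ℳ n, V)) (y : V) :
    GrMod.val (r • s) y =
      ((r : (ProjectiveSpectrum.Proj.structureSheaf 𝒜).1.obj (op V)).1 y).val • GrMod.val s y := rfl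

lemma sres_val {U V : (Proj 𝒜).Opens} (h : V ≤ U) (r : Γ(Proj 𝒜, U)) (y : V) :
    (((Proj 𝒜).presheaf.map (homOfLE h).op r : (ProjectiveSpectrum.Proj.structureSheaf 𝒜).1.obj (op V)).1 y) =
      (r : (ProjectiveSpectrum.Proj.structureSheaf 𝒜).1.obj (op U)).1 ⟨y.1, h y.2⟩ := rfl


omit [AddSubgroupClass τ M] [SetLike.GradedSMul 𝒜 ℳ] in
/-- the action of a power of a degree-zero fraction `a / f ^ k` on a fraction. -/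
lemma pow_val_smul_mk (y : ProjectiveSpectrum 𝒜)
    (c : HomogeneousLocalization.AtPrime 𝒜 y.asHomogeneousIdeal.toIdeal) (a f : A) (k : ℕ)
    (h1 : f ^ k ∉ y.asHomogeneousIdeal)
    (hc : c.val = (Localization.mk a ⟨f ^ k, h1⟩ : Localization.AtPrime y.asHomogeneousIdeal.toIdeal))
    (j : ℕ) (m : M) (s : y.asHomogeneousIdeal.toIdeal.primeCompl) :
    (c ^ j).val • (LocalizedModule.mk m s : GrMod.LocMod 𝒜 (M := M) y) =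
      LocalizedModule.mk (a ^ j • m) ((⟨f ^ k, h1⟩ : y.asHomogeneousIdeal.toIdeal.primeCompl) ^ j * s) := by
  rw [HomogeneousLocalization.val_pow, hc, Localization.mk_pow, LocalizedModule.mk_smul_mk]

variable [DirectSum.Decomposition ℳ]

section Loc

variable (n : ℤ) {d : ℕ} (hd : 0 < d) {f : A} (hf : f ∈ 𝒜 d)
  (r : Γ(Proj 𝒜, Proj.basicOpen 𝒜 f)) (k : ℕ) (a : A) (ha : a ∈ 𝒜 (k * d))
  (hr : ∀ x : Proj.basicOpen 𝒜 f,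
      ((r : (ProjectiveSpectrum.Proj.structureSheaf 𝒜).1.obj (op (Proj.basicOpen 𝒜 f))).1 x).val =
        (Localization.mk a ⟨f ^ k, pow_notMem_of_mem_basicOpen 𝒜 k x⟩ :
          Localization.AtPrime x.1.asHomogeneousIdeal.toIdeal))

include hd hf ha hr in
theorem tilde_loc_surj (t : Γ(GrMod.tilde 𝒜 ℳ n, (Proj 𝒜).basicOpen r)) :
    ∃ (N : ℕ) (s : Γ(GrMod.tilde 𝒜 ℳ n, Proj.basicOpen 𝒜 f)),
      (GrMod.tilde 𝒜 ℳ n).presheaf.map (homOfLE ((Proj 𝒜).basicOpen_le r)).op s =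
        ((Proj 𝒜).presheaf.map (homOfLE ((Proj 𝒜).basicOpen_le r)).op r) ^ N • t := by
  have hW : (Proj 𝒜).basicOpen r = Proj.basicOpen 𝒜 (f * a) := by
    rw [basicOpen_eq_of_frac 𝒜 r k a hr, Proj.basicOpen_mul]
  have hfa : f * a ∈ 𝒜 (d + k * d) := SetLike.mul_mem_graded hf ha
  -- transport `t` to `D₊(f * a)`
  let t' : GrMod.sect 𝒜 ℳ n (op (ProjectiveSpectrum.basicOpen 𝒜 (f * a))) :=
    toSect 𝒜 ℳ ((GrMod.tilde 𝒜 ℳ n).presheaf.map (homOfLE hW.ge).op t)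
  obtain ⟨j, i, m, hm, hi, ht'⟩ := exists_eq_powSect 𝒜 ℳ n (by omega : 0 < d + k * d) hfa t'
  have hi' : (i : ℤ) = (((k + 1) * j : ℕ) : ℤ) * d + n := by rw [hi]; push_cast; ring
  refine ⟨j, ofSect 𝒜 ℳ (powSect 𝒜 ℳ n hf ((k + 1) * j) hm hi'), ?_⟩
  refine sect_ext 𝒜 ℳ _ _ fun y0 => ?_
  obtain ⟨y, hy'⟩ : ((Proj 𝒜).basicOpen r : Opens (Proj 𝒜)) := y0
  have hyW : y ∈ Proj.basicOpen 𝒜 (f * a) := hW ▸ hy'
  have hyf : y ∈ Proj.basicOpen 𝒜 f := (Proj 𝒜).basicOpen_le r hy'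
  have hty : GrMod.val t ⟨y, hy'⟩ = LocalizedModule.mk m ⟨(f * a) ^ j,
      pow_notMem_of_mem_basicOpen 𝒜 j ⟨y, hyW⟩⟩ := by
    have := congrArg (fun z : GrMod.sect 𝒜 ℳ n (op (ProjectiveSpectrum.basicOpen 𝒜 (f * a))) =>
      ((z.1 ⟨y, hyW⟩).1 : GrMod.LocMod 𝒜 (M := M) y)) ht'
    exact this
  change LocalizedModule.mk m ⟨f ^ ((k + 1) * j), pow_notMem_of_mem_basicOpen 𝒜 _ ⟨y, hyf⟩⟩ =
    (((r : (ProjectiveSpectrum.Proj.structureSheaf 𝒜).1.obj (op (Proj.basicOpen 𝒜 f))).1 ⟨y, hyf⟩) ^ j).val •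
      GrMod.val t ⟨y, hy'⟩
  rw [hty]
  refine Eq.trans ?_ (pow_val_smul_mk 𝒜 y _ a f k (pow_notMem_of_mem_basicOpen 𝒜 k ⟨y, hyf⟩)
    (hr ⟨y, hyf⟩) j m _).symm
  rw [LocalizedModule.mk_eq]
  refine ⟨1, ?_⟩
  change (1 : A) • ((f ^ k) ^ j * (f * a) ^ j) • m = (1 : A) • f ^ ((k + 1) * j) • a ^ j • m
  rw [smul_smul (f ^ ((k + 1) * j))]
  congr 2
  ring

include hd hf ha hr in
theorem tilde_loc_inj (s : Γ(GrMod.tilde 𝒜 ℳ n, Proj.basicOpen 𝒜 f))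
    (hs : (GrMod.tilde 𝒜 ℳ n).presheaf.map (homOfLE ((Proj 𝒜).basicOpen_le r)).op s = 0) :
    ∃ N : ℕ, r ^ N • s = 0 := by
  have hW : (Proj 𝒜).basicOpen r = Proj.basicOpen 𝒜 (f * a) := by
    rw [basicOpen_eq_of_frac 𝒜 r k a hr, Proj.basicOpen_mul]
  have hfa : f * a ∈ 𝒜 (d + k * d) := SetLike.mul_mem_graded hf ha
  obtain ⟨j, i, m, hm, hi, hs'⟩ := exists_eq_powSect 𝒜 ℳ n hd hf (toSect 𝒜 ℳ s)
  -- `(f a)^N m = 0`
  obtain ⟨N, hN⟩ : ∃ N : ℕ, (f * a) ^ N • m = 0 := by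
    refine exists_pow_smul_eq_zero 𝒜 ℳ (by omega : 0 < d + k * d) hfa hm fun y hy => ?_
    have hyW : y ∈ (Proj 𝒜).basicOpen r := hW ▸ hy
    have hyf : y ∈ Proj.basicOpen 𝒜 f := (Proj 𝒜).basicOpen_le r hyW
    have h0 : GrMod.val ((GrMod.tilde 𝒜 ℳ n).presheaf.map (homOfLE ((Proj 𝒜).basicOpen_le r)).op s)
        ⟨y, hyW⟩ = 0 := by rw [hs]; rfl
    rw [res_val] at h0
    have h1 : GrMod.val s ⟨y, hyf⟩ = LocalizedModule.mk m ⟨f ^ j,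
        pow_notMem_of_mem_basicOpen 𝒜 j ⟨y, hyf⟩⟩ := by
      have := congrArg (fun z : GrMod.sect 𝒜 ℳ n (op (ProjectiveSpectrum.basicOpen 𝒜 f)) =>
        ((z.1 ⟨y, hyf⟩).1 : GrMod.LocMod 𝒜 (M := M) y)) hs'
      exact this
    rw [h1, mk_eq_zero_iff] at h0
    obtain ⟨u, hu⟩ := h0
    exact ⟨u, u.2, hu⟩
  refine ⟨N, ?_⟩
  refine sect_ext 𝒜 ℳ (toSect 𝒜 ℳ (r ^ N • s)) 0 fun y => ?_
  have h1 : GrMod.val s y = LocalizedModule.mk m ⟨f ^ j, pow_notMem_of_mem_basicOpen 𝒜 j y⟩ := by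
    have := congrArg (fun z : GrMod.sect 𝒜 ℳ n (op (ProjectiveSpectrum.basicOpen 𝒜 f)) =>
      ((z.1 y).1 : GrMod.LocMod 𝒜 (M := M) y.1)) hs'
    exact this
  change (((r : (ProjectiveSpectrum.Proj.structureSheaf 𝒜).1.obj (op (Proj.basicOpen 𝒜 f))).1 y) ^ N).val •
      GrMod.val s y = 0
  rw [h1]
  refine (pow_val_smul_mk 𝒜 y.1 _ a f k (pow_notMem_of_mem_basicOpen 𝒜 k y) (hr y) N m _).trans ?_
  rw [mk_eq_zero_iff]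
  refine ⟨⟨f ^ N, pow_notMem_of_mem_basicOpen 𝒜 N y⟩, ?_⟩
  change f ^ N • a ^ N • m = 0
  rw [smul_smul, ← mul_pow]
  exact hN

end Loc

/-- **`M(n)~` is quasi-coherent.** -/
theorem tilde_isQuasicoherent (n : ℤ) : (GrMod.tilde 𝒜 ℳ n).IsQuasicoherent := by
  let ι : Type u := {p : A × ℕ // 0 < p.2 ∧ p.1 ∈ 𝒜 p.2}
  refine qc_of_affine_localizing (GrMod.tilde 𝒜 ℳ n) (fun p : ι => Proj.basicOpen 𝒜 p.1.1)
    (fun p => Proj.isAffineOpen_basicOpen 𝒜 p.1.1 p.2.2 p.2.1) ?_ ?_ ?_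
  · rw [IsOpenCover, eq_top_iff]
    intro x _
    obtain ⟨f, d, hf, hd, hfx⟩ := exists_homog_notMem 𝒜 x
    exact Opens.mem_iSup.mpr ⟨⟨(f, d), hd, hf⟩, (Proj.mem_basicOpen 𝒜 f x).mpr hfx⟩
  · intro p r t
    obtain ⟨k, a, ha, hr⟩ := exists_structureSheaf_frac 𝒜 p.2.1 p.2.2 r
    exact tilde_loc_surj 𝒜 ℳ n p.2.1 p.2.2 r k a ha hr t
  · intro p r s hs
    obtain ⟨k, a, ha, hr⟩ := exists_structureSheaf_frac 𝒜 p.2.1 p.2.2 r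
    exact tilde_loc_inj 𝒜 ℳ n p.2.1 p.2.2 r k a ha hr s hs

end Groth.Agent.H8.ProjTilde
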