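import Mathlib
import Groth.Prelude.Def_GrMod3
import Groth.Agent.Lib.Helper8.ProjTilde.Stalk

set_option autoImplicit false
universe u
open AlgebraicGeometry CategoryTheory Opposite TopologicalSpace DirectSum HomogeneousLocalization

namespace Groth.Agent.H8.ProjTilde

variable {A σ : Type u} [CommRing A] [SetLike σ A] [AddSubgroupClass σ A] (𝒜 : ℕ → σ) [GradedRing 𝒜]
variable {M τ : Type u} [AddCommGroup M] [Module A M] [SetLike τ M] [AddSubgroupClass τ M] (ℳ : ℕ → τ)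
variable [SetLike.GradedSMul 𝒜 ℳ] [DirectSum.Decomposition ℳ]

/-- `α(m) = 0` iff `m` dies in every localization at a point of `Proj`. -/
lemma alpha_eq_zero_iff (i : ℕ) (m : ℳ i) :
    GrMod.alpha 𝒜 ℳ i m = 0 ↔
      ∀ x : ProjectiveSpectrum 𝒜, ∃ u : A, u ∉ x.asHomogeneousIdeal ∧ u • (m : M) = 0 := by
  constructor
  · intro h x
    have h1 : (((GrMod.globalOf 𝒜 ℳ m).1 ⟨x, trivial⟩).1 : GrMod.LocMod 𝒜 (M := M) x) = 0 := by
      have : GrMod.globalOf 𝒜 ℳ m = 0 := h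
      rw [this]; rfl
    rw [GrMod.globalOf_apply_coe, mk_eq_zero_iff] at h1
    obtain ⟨u, hu⟩ := h1
    exact ⟨u, u.2, hu⟩
  · intro h
    refine sect_ext 𝒜 ℳ (GrMod.globalOf 𝒜 ℳ m) 0 fun x => ?_
    rw [GrMod.globalOf_apply_coe]
    change _ = (0 : GrMod.LocMod 𝒜 (M := M) x.1)
    rw [mk_eq_zero_iff]
    obtain ⟨u, hu, hu0⟩ := h x.1
    exact ⟨⟨u, hu⟩, hu0⟩

/-- **Kernel of `α`**: for f.g. irrelevant ideal, `α(m) = 0` iff a power of `A₊` kills `m`. -/
theorem alpha_eq_zero_iff_irrelevant_pow (hfg : (HomogeneousIdeal.irrelevant 𝒜).toIdeal.FG) (i : ℕ) (m : ℳ i) :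
    GrMod.alpha 𝒜 ℳ i m = 0 ↔
      ∃ k : ℕ, ∀ r : A, r ∈ (HomogeneousIdeal.irrelevant 𝒜).toIdeal ^ k → r • (m : M) = 0 := by
  classical
  rw [alpha_eq_zero_iff]
  let I : Ideal A := LinearMap.ker (LinearMap.toSpanSingleton A M (m : M))
  have hI : ∀ a : A, a ∈ I ↔ a • (m : M) = 0 := fun a => by
    simp [I, LinearMap.mem_ker, LinearMap.toSpanSingleton_apply]
  constructor
  · intro h
    have hle : (HomogeneousIdeal.irrelevant 𝒜).toIdeal ≤ I.radical := by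
      intro z hz
      rw [← DirectSum.sum_support_decompose 𝒜 z]
      refine Ideal.sum_mem _ fun j _ => ?_
      by_cases hj : j = 0
      · subst hj
        have hz' : z ∈ HomogeneousIdeal.irrelevant 𝒜 := hz
        rw [HomogeneousIdeal.mem_irrelevant_iff, GradedRing.proj_apply] at hz'
        rw [hz']
        exact zero_mem _
      · obtain ⟨N, hN⟩ := exists_pow_smul_eq_zero 𝒜 ℳ (Nat.pos_of_ne_zero hj)
          (DirectSum.decompose 𝒜 z j).2 m.2 (fun x _ => h x)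
        exact ⟨N, (hI _).2 hN⟩
    obtain ⟨k, hk⟩ := Ideal.exists_pow_le_of_le_radical_of_fg hle hfg
    exact ⟨k, fun r hr => (hI r).1 (hk hr)⟩
  · rintro ⟨k, hk⟩ x
    obtain ⟨f, d, hf, hd, hfx⟩ := exists_homog_notMem 𝒜 x
    refine ⟨f ^ k, fun hmem => hfx (x.isPrime.mem_of_pow_mem k hmem), hk _ ?_⟩
    exact Ideal.pow_mem_pow (mem_irrelevant_of_mem 𝒜 hd hf) k

end Groth.Agent.H8.ProjTilde
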