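import Mathlib
import Groth.Prelude.Def_GrMod3
import Groth.Agent.Lib.Helper8.ProjTilde.QCoh

set_option autoImplicit false
universe u
open AlgebraicGeometry CategoryTheory Opposite TopologicalSpace DirectSum HomogeneousLocalization

namespace Groth.Agent.H8.ProjTilde

variable {A σ : Type u} [CommRing A] [SetLike σ A] [AddSubgroupClass σ A] (𝒜 : ℕ → σ) [GradedRing 𝒜]
variable {M τ : Type u} [AddCommGroup M] [Module A M] [SetLike τ M] [AddSubgroupClass τ M] (ℳ : ℕ → τ)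
variable [SetLike.GradedSMul 𝒜 ℳ]

section Tools

variable (n : ℤ) {d : ℕ} {f : A} (hf : f ∈ 𝒜 d)

/-- `m ↦ m / f ^ k` as an additive map from the degree-`i` part to the sections over `D₊(f)`. -/
def powSectHom (k i : ℕ) (hi : (i : ℤ) = k * d + n) :
    ℳ i →+ Γ(GrMod.tilde 𝒜 ℳ n, Proj.basicOpen 𝒜 f) where
  toFun m := ofSect 𝒜 ℳ (powSect 𝒜 ℳ n hf k m.2 hi)
  map_zero' := by
    refine sect_ext 𝒜 ℳ _ 0 fun x => ?_
    rw [powSect_val]
    exact LocalizedModule.zero_mk _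
  map_add' m m' := by
    refine sect_ext 𝒜 ℳ _ (toSect 𝒜 ℳ (ofSect 𝒜 ℳ (powSect 𝒜 ℳ n hf k m.2 hi) +
      ofSect 𝒜 ℳ (powSect 𝒜 ℳ n hf k m'.2 hi))) fun x => ?_
    rw [powSect_val]
    change _ = (LocalizedModule.mk (m : M) _ + LocalizedModule.mk (m' : M) _ : GrMod.LocMod 𝒜 (M := M) x.1)
    rw [LocalizedModule.mk_add_mk, LocalizedModule.mk_eq]
    refine ⟨1, ?_⟩
    change (1 : A) • (f ^ k * f ^ k) • ((m : M) + (m' : M)) = (1 : A) • f ^ k • (f ^ k • (m : M) + f ^ k • (m' : M))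
    simp only [smul_add, smul_smul]

lemma powSectHom_val (k i : ℕ) (hi : (i : ℤ) = k * d + n) (m : ℳ i) (x : Proj.basicOpen 𝒜 f) :
    GrMod.val (powSectHom 𝒜 ℳ n hf k i hi m) x =
      LocalizedModule.mk (m : M) ⟨f ^ k, pow_notMem_of_mem_basicOpen 𝒜 k x⟩ := rfl

/-- The section `a / f ^ k` of the structure sheaf over `D₊(f)`. -/
def fracO (k : ℕ) {a : A} (ha : a ∈ 𝒜 (k * d)) : Γ(Proj 𝒜, Proj.basicOpen 𝒜 f) :=
  (Proj.awayToSection 𝒜 f).hom (Away.mk 𝒜 hf k a (by simpa [smul_eq_mul] using ha))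

lemma fracO_val (k : ℕ) {a : A} (ha : a ∈ 𝒜 (k * d)) (x : Proj.basicOpen 𝒜 f) :
    ((fracO 𝒜 hf k ha : (ProjectiveSpectrum.Proj.structureSheaf 𝒜).1.obj (op (Proj.basicOpen 𝒜 f))).1 x).val =
      (Localization.mk a ⟨f ^ k, pow_notMem_of_mem_basicOpen 𝒜 k x⟩ :
          Localization.AtPrime x.1.asHomogeneousIdeal.toIdeal) := rfl

lemma fracO_smul_powSectHom (k : ℕ) {a : A} (ha : a ∈ 𝒜 (k * d)) (j i : ℕ) (hi : (i : ℤ) = j * d + n)
    (m : ℳ i) (hi' : ((k * d + i : ℕ) : ℤ) = ((k + j : ℕ) : ℤ) * d + n) :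
    fracO 𝒜 hf k ha • powSectHom 𝒜 ℳ n hf j i hi m =
      powSectHom 𝒜 ℳ n hf (k + j) (k * d + i) hi' ⟨a • (m : M), SetLike.GradedSMul.smul_mem ha m.2⟩ := by
  refine sect_ext 𝒜 ℳ (toSect 𝒜 ℳ (fracO 𝒜 hf k ha • powSectHom 𝒜 ℳ n hf j i hi m)) _ fun x => ?_
  change ((fracO 𝒜 hf k ha : (ProjectiveSpectrum.Proj.structureSheaf 𝒜).1.obj
    (op (Proj.basicOpen 𝒜 f))).1 x).val • GrMod.val (powSectHom 𝒜 ℳ n hf j i hi m) x = _
  rw [powSectHom_val, fracO_val, LocalizedModule.mk_smul_mk]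
  change _ = LocalizedModule.mk (a • (m : M)) ⟨f ^ (k + j), _⟩
  congr 1
  exact Subtype.ext (pow_add f k j).symm

/-- changing the exponent: `m / f ^ k = f ^ N m / f ^ (k + N)`. -/
lemma powSectHom_mul_pow (k i : ℕ) (hi : (i : ℤ) = k * d + n) (m : ℳ i) (N : ℕ)
    (hi' : ((N * d + i : ℕ) : ℤ) = ((k + N : ℕ) : ℤ) * d + n) :
    powSectHom 𝒜 ℳ n hf k i hi m = powSectHom 𝒜 ℳ n hf (k + N) (N * d + i) hi'
      ⟨f ^ N • (m : M), SetLike.GradedSMul.smul_mem (pow_mem_graded' 𝒜 hf N) m.2⟩ := by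
  refine sect_ext 𝒜 ℳ _ _ fun x => ?_
  change GrMod.val (powSectHom 𝒜 ℳ n hf k i hi m) x = GrMod.val (powSectHom 𝒜 ℳ n hf (k + N) _ hi' _) x
  rw [powSectHom_val, powSectHom_val, LocalizedModule.mk_eq]
  refine ⟨1, ?_⟩
  change (1 : A) • f ^ (k + N) • (m : M) = (1 : A) • f ^ k • f ^ N • (m : M)
  rw [smul_smul (f ^ k), ← pow_add]

/-- transport along equality of degrees -/
lemma powSectHom_congr (k i i' : ℕ) (hi : (i : ℤ) = k * d + n) (hi' : (i' : ℤ) = k * d + n)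
    (m : ℳ i) (m' : ℳ i') (h : (m : M) = m') :
    powSectHom 𝒜 ℳ n hf k i hi m = powSectHom 𝒜 ℳ n hf k i' hi' m' := by
  refine sect_ext 𝒜 ℳ _ _ fun x => ?_
  change GrMod.val (powSectHom 𝒜 ℳ n hf k i hi m) x = GrMod.val (powSectHom 𝒜 ℳ n hf k i' hi' m') x
  rw [powSectHom_val, powSectHom_val, h]

end Tools

/-- component of `a • m` for homogeneous `m`. -/
lemma decompose_smul_of_mem [DirectSum.Decomposition ℳ] {e : ℕ} {m : M} (hm : m ∈ ℳ e) (a : A) (t : ℕ) :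
    ((DirectSum.decompose ℳ (a • m)) t : M) =
      if e ≤ t then (DirectSum.decompose 𝒜 a (t - e) : A) • m else 0 := by
  classical
  have hmem : ∀ k, (DirectSum.decompose 𝒜 a k : A) • m ∈ ℳ (k + e) := fun k =>
    SetLike.GradedSMul.smul_mem (DirectSum.decompose 𝒜 a k).2 hm
  conv_lhs => rw [← DirectSum.sum_support_decompose 𝒜 a, Finset.sum_smul, DirectSum.decompose_sum,
    DFinsupp.finsetSum_apply, AddSubmonoidClass.coe_finsetSum]
  split_ifs with hle
  · by_cases hj : (t - e) ∈ (DirectSum.decompose 𝒜 a).support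
    · rw [Finset.sum_eq_single (t - e)]
      · have h1 : t - e + e = t := by omega
        have h2 : (DirectSum.decompose 𝒜 a (t - e) : A) • m ∈ ℳ t := by
          have := hmem (t - e)
          rwa [h1] at this
        exact DirectSum.decompose_of_mem_same ℳ h2
      · intro k _ hk
        exact DirectSum.decompose_of_mem_ne ℳ (hmem k) (by omega)
      · intro h; exact absurd hj h
    · have h0 : DirectSum.decompose 𝒜 a (t - e) = 0 := by simpa [DFinsupp.mem_support_iff] using hj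
      rw [h0, ZeroMemClass.coe_zero, zero_smul]
      refine Finset.sum_eq_zero fun k hk => ?_
      refine DirectSum.decompose_of_mem_ne ℳ (hmem k) ?_
      intro h
      apply hj
      have : k = t - e := by omega
      exact this ▸ hk
  · refine Finset.sum_eq_zero fun k _ => ?_
    exact DirectSum.decompose_of_mem_ne ℳ (hmem k) (by omega)

end Groth.Agent.H8.ProjTilde
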