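import Mathlib
import Groth.Agent.Lib.Helper8.ProjTilde.Basic

set_option autoImplicit false
universe u
open DirectSum

namespace Groth.Agent.H8.ProjTilde

variable {A σ : Type u} [CommRing A] [SetLike σ A] [AddSubgroupClass σ A] (𝒜 : ℕ → σ) [GradedRing 𝒜]

/-- **Homogeneous generators of the irrelevant ideal** (when it is finitely generated). -/
theorem exists_homog_gens_irrelevant (hfg : (HomogeneousIdeal.irrelevant 𝒜).toIdeal.FG) :
    ∃ (s : ℕ) (g : Fin s → A) (dg : Fin s → ℕ), (∀ i, g i ∈ 𝒜 (dg i)) ∧ (∀ i, 0 < dg i) ∧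
      (HomogeneousIdeal.irrelevant 𝒜).toIdeal = Ideal.span (Set.range g) := by
  classical
  obtain ⟨T, hT⟩ := hfg
  let I₀ := Σ t : T, (DirectSum.decompose 𝒜 (t : A)).support
  let g₀ : I₀ → A := fun p => (DirectSum.decompose 𝒜 (p.1 : A) p.2 : A)
  let e := (Fintype.equivFin I₀).symm
  refine ⟨Fintype.card I₀, g₀ ∘ e, (fun p : I₀ => (p.2 : ℕ)) ∘ e,
    fun i => (DirectSum.decompose 𝒜 ((e i).1 : A) (e i).2).2, fun i => ?_, ?_⟩
  · -- positivity
    rw [Nat.pos_iff_ne_zero]
    intro h0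
    have ht : ((e i).1 : A) ∈ HomogeneousIdeal.irrelevant 𝒜 := by
      have : ((e i).1 : A) ∈ (HomogeneousIdeal.irrelevant 𝒜).toIdeal := hT ▸ Ideal.subset_span (e i).1.2
      exact this
    rw [HomogeneousIdeal.mem_irrelevant_iff, GradedRing.proj_apply] at ht
    have hsupp := (e i).2.2
    rw [DFinsupp.mem_support_iff] at hsupp
    apply hsupp
    have h0' : ((e i).2 : ℕ) = 0 := h0
    rw [h0']
    exact Subtype.ext ht
  · have hrange : Set.range (g₀ ∘ e) = Set.range g₀ := e.surjective.range_comp g₀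
    rw [hrange]
    apply le_antisymm
    · rw [← hT, Ideal.span_le]
      intro t ht
      rw [SetLike.mem_coe, ← DirectSum.sum_support_decompose 𝒜 t]
      exact Ideal.sum_mem _ fun k hk => Ideal.subset_span ⟨⟨⟨t, ht⟩, ⟨k, hk⟩⟩, rfl⟩
    · rw [Ideal.span_le]
      rintro _ ⟨p, rfl⟩
      have ht : (p.1 : A) ∈ (HomogeneousIdeal.irrelevant 𝒜).toIdeal := hT ▸ Ideal.subset_span p.1.2
      exact (HomogeneousIdeal.irrelevant 𝒜).isHomogeneous p.2 ht

variable {s : ℕ} (g : Fin s → A) (dg : Fin s → ℕ) (hg : ∀ i, g i ∈ 𝒜 (dg i)) (hdg : ∀ i, 0 < dg i)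
  (hspan : (HomogeneousIdeal.irrelevant 𝒜).toIdeal = Ideal.span (Set.range g))

include hg hspan in
/-- a homogeneous element of positive degree is a combination of the generators with homogeneous
coefficients of the complementary degrees. -/
lemma exists_homog_coeffs {e : ℕ} (he : 0 < e) {a : A} (ha : a ∈ 𝒜 e) :
    ∃ b : Fin s → A, (∀ i, b i ∈ 𝒜 (e - dg i)) ∧ (∀ i, e < dg i → b i = 0) ∧ a = ∑ i, b i * g i := by
  classical
  have ha' : a ∈ Ideal.span (Set.range g) := hspan ▸ mem_irrelevant_of_mem 𝒜 he ha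
  obtain ⟨c, hc⟩ := (Ideal.mem_span_range_iff_exists_fun).mp ha'
  refine ⟨fun i => if dg i ≤ e then (DirectSum.decompose 𝒜 (c i) (e - dg i) : A) else 0,
    fun i => ?_, fun i hi => ?_, ?_⟩
  · dsimp only
    split_ifs
    · exact (DirectSum.decompose 𝒜 (c i) (e - dg i)).2
    · exact zero_mem _
  · dsimp only
    rw [if_neg (not_le.mpr hi)]
  · have h1 := congrArg (fun z => (DirectSum.decompose 𝒜 z e : A)) hc
    simp only at h1
    rw [DirectSum.decompose_of_mem_same 𝒜 ha, DirectSum.decompose_sum, DFinsupp.finsetSum_apply,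
      AddSubmonoidClass.coe_finsetSum] at h1
    rw [← h1]
    refine Finset.sum_congr rfl fun i _ => ?_
    rw [DirectSum.coe_decompose_mul_of_right_mem 𝒜 e (hg i)]
    dsimp only
    split_ifs
    · rfl
    · rw [zero_mul]

include hg hdg hspan in
/-- `A` is generated over `A₀` by homogeneous generators of the irrelevant ideal. -/
theorem adjoin_eq_top_of_span_eq_irrelevant : Algebra.adjoin (𝒜 0) (Set.range g) = ⊤ := by
  classical
  have key : ∀ e : ℕ, ∀ a ∈ 𝒜 e, a ∈ Algebra.adjoin (𝒜 0) (Set.range g) := by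
    intro e
    induction e using Nat.strong_induction_on with
    | _ e ih =>
      intro a ha
      rcases Nat.eq_zero_or_pos e with rfl | he
      · exact Subalgebra.algebraMap_mem _ (⟨a, ha⟩ : 𝒜 0)
      · obtain ⟨b, hb, hb0, rfl⟩ := exists_homog_coeffs 𝒜 g dg hg hspan he ha
        refine Subalgebra.sum_mem _ fun i _ => ?_
        by_cases hi : dg i ≤ e
        · exact Subalgebra.mul_mem _ (ih (e - dg i) (by have := hdg i; omega) _ (hb i))
            (Algebra.subset_adjoin ⟨i, rfl⟩)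
        · rw [hb0 i (not_le.mp hi), zero_mul]
          exact Subalgebra.zero_mem _
  rw [eq_top_iff]
  intro a _
  rw [← DirectSum.sum_support_decompose 𝒜 a]
  exact Subalgebra.sum_mem _ fun k _ => key k _ (DirectSum.decompose 𝒜 a k).2

/-- **Graded prime avoidance** (for finitely many primes, none containing all homogeneous elements
of positive degree). -/
theorem exists_homog_avoid {ι : Type*} (t : Finset ι) (P : ι → Ideal A) [hP : ∀ i, (P i).IsPrime]
    (h : ∀ i ∈ t, ∃ n, 0 < n ∧ ∃ f ∈ 𝒜 n, f ∉ P i) :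
    ∃ n, 0 < n ∧ ∃ f ∈ 𝒜 n, ∀ i ∈ t, f ∉ P i := by
  classical
  induction t using Finset.strongInduction with
  | H t ih =>
    rcases t.eq_empty_or_nonempty with rfl | ⟨i₀, hi₀⟩
    · exact ⟨1, Nat.one_pos, 0, zero_mem _, fun i hi => absurd hi (Finset.notMem_empty i)⟩
    have hex : ∀ i ∈ t, ∃ n, 0 < n ∧ ∃ f ∈ 𝒜 n, ∀ j ∈ t.erase i, f ∉ P j := fun i hi =>
      ih (t.erase i) (Finset.erase_ssubset hi) (fun j hj => h j (Finset.mem_of_mem_erase hj))
    choose! n hn f hf hfa using hex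
    by_cases hgood : ∃ i ∈ t, f i ∉ P i
    · obtain ⟨i, hi, hne⟩ := hgood
      refine ⟨n i, hn i hi, f i, hf i hi, fun j hj => ?_⟩
      by_cases hji : j = i
      · subst hji; exact hne
      · exact hfa i hi j (Finset.mem_erase.2 ⟨hji, hj⟩)
    push Not at hgood
    by_cases hs1 : t.erase i₀ = ∅
    · obtain ⟨m, hm, g, hg, hne⟩ := h i₀ hi₀
      refine ⟨m, hm, g, hg, fun j hj => ?_⟩
      by_cases hji : j = i₀
      · subst hji; exact hne
      · exact absurd (Finset.mem_erase.2 ⟨hji, hj⟩) (by rw [hs1]; exact Finset.notMem_empty j)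
    have hs' : (t.erase i₀).Nonempty := Finset.nonempty_iff_ne_empty.2 hs1
    set e' := ∑ j ∈ t.erase i₀, n j with he'
    have he'pos : 0 < e' := by
      apply Finset.sum_pos _ hs'
      intro j hj
      exact hn j (Finset.mem_of_mem_erase hj)
    set g := ∏ j ∈ t.erase i₀, f j with hg
    have hgmem : g ∈ 𝒜 e' :=
      SetLike.prod_mem_graded 𝒜 n f (fun j hj => hf j (Finset.mem_of_mem_erase hj))
    have h1 : f i₀ ^ e' ∈ 𝒜 (n i₀ * e') := by
      have := SetLike.pow_mem_graded e' (hf i₀ hi₀)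
      rwa [smul_eq_mul, mul_comm] at this
    have h2 : g ^ n i₀ ∈ 𝒜 (n i₀ * e') := by
      have := SetLike.pow_mem_graded (n i₀) hgmem
      rwa [smul_eq_mul] at this
    refine ⟨n i₀ * e', Nat.mul_pos (hn i₀ hi₀) he'pos, f i₀ ^ e' + g ^ n i₀,
      add_mem h1 h2, fun i hi => ?_⟩
    by_cases hii : i = i₀
    · subst hii
      have hin : f i ^ e' ∈ P i := Ideal.pow_mem_of_mem _ (hgood i hi) _ he'pos
      rw [Ideal.add_mem_iff_right _ hin]
      intro hmem
      have := (hP i).mem_of_pow_mem _ hmem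
      rw [hg, (hP i).prod_mem_iff] at this
      obtain ⟨j, hj, hjmem⟩ := this
      have hj' := Finset.mem_erase.1 hj
      exact hfa j hj'.2 i (Finset.mem_erase.2 ⟨Ne.symm hj'.1, hi⟩) hjmem
    · have hi' : i ∈ t.erase i₀ := Finset.mem_erase.2 ⟨hii, hi⟩
      have hgin : g ^ n i₀ ∈ P i := by
        apply Ideal.pow_mem_of_mem _ _ _ (hn i₀ hi₀)
        rw [hg]
        exact (Ideal.IsPrime.prod_mem_iff (hp := hP i)).mpr ⟨i, hi', hgood i hi⟩
      rw [Ideal.add_mem_iff_left _ hgin]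
      intro hmem
      exact hfa i₀ hi₀ i hi' ((hP i).mem_of_pow_mem _ hmem)

end Groth.Agent.H8.ProjTilde
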