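import Mathlib
import Groth.Agent.Lib.Helper8.ProjTilde.GrAlg
import Groth.Agent.Lib.Helper8.ProjTilde.FinTools

set_option autoImplicit false
universe u
open DirectSum

namespace Groth.Agent.H8.ProjTilde

variable {A σ : Type u} [CommRing A] [SetLike σ A] [AddSubgroupClass σ A] (𝒜 : ℕ → σ) [GradedRing 𝒜]
variable {M τ : Type u} [AddCommGroup M] [Module A M] [SetLike τ M] [AddSubgroupClass τ M] (ℳ : ℕ → τ)
variable [SetLike.GradedSMul 𝒜 ℳ] [DirectSum.Decomposition ℳ]

/-- component of `a • m` for homogeneous `a`. -/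
lemma decompose_smul_of_left_mem {e : ℕ} {a : A} (ha : a ∈ 𝒜 e) (m : M) (t : ℕ) :
    ((DirectSum.decompose ℳ (a • m)) t : M) =
      if e ≤ t then a • (DirectSum.decompose ℳ m (t - e) : M) else 0 := by
  classical
  have hmem : ∀ k, a • (DirectSum.decompose ℳ m k : M) ∈ ℳ (e + k) := fun k =>
    SetLike.GradedSMul.smul_mem ha (DirectSum.decompose ℳ m k).2
  conv_lhs => rw [← DirectSum.sum_support_decompose ℳ m, Finset.smul_sum, DirectSum.decompose_sum,
    DFinsupp.finsetSum_apply, AddSubmonoidClass.coe_finsetSum]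
  split_ifs with hle
  · by_cases hj : (t - e) ∈ (DirectSum.decompose ℳ m).support
    · rw [Finset.sum_eq_single (t - e)]
      · have h1 : e + (t - e) = t := by omega
        have h2 : a • (DirectSum.decompose ℳ m (t - e) : M) ∈ ℳ t := by
          have := hmem (t - e)
          rwa [h1] at this
        exact DirectSum.decompose_of_mem_same ℳ h2
      · intro k _ hk
        exact DirectSum.decompose_of_mem_ne ℳ (hmem k) (by omega)
      · intro h; exact absurd hj h
    · have h0 : DirectSum.decompose ℳ m (t - e) = 0 := by simpa [DFinsupp.mem_support_iff] using hj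
      rw [h0, ZeroMemClass.coe_zero, smul_zero]
      refine Finset.sum_eq_zero fun k hk => ?_
      refine DirectSum.decompose_of_mem_ne ℳ (hmem k) ?_
      intro h
      apply hj
      have : k = t - e := by omega
      exact this ▸ hk
  · refine Finset.sum_eq_zero fun k _ => ?_
    exact DirectSum.decompose_of_mem_ne ℳ (hmem k) (by omega)

open Classical in
/-- component of `a • w` in general. -/
lemma decompose_smul_general (a : A) (w : M) (n : ℕ) :
    ((DirectSum.decompose ℳ (a • w)) n : M) =
      ∑ j ∈ (DirectSum.decompose ℳ w).support,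
        if j ≤ n then (DirectSum.decompose 𝒜 a (n - j) : A) • (DirectSum.decompose ℳ w j : M) else 0 := by
  classical
  conv_lhs => rw [← DirectSum.sum_support_decompose ℳ w, Finset.smul_sum, DirectSum.decompose_sum,
    DFinsupp.finsetSum_apply, AddSubmonoidClass.coe_finsetSum]
  refine Finset.sum_congr rfl fun j _ => ?_
  exact decompose_smul_of_mem 𝒜 ℳ (DirectSum.decompose ℳ w j).2 a n

/-- a homogeneous submodule: closed under taking homogeneous components. -/
def IsHomogSub (V : Submodule A M) : Prop := ∀ m ∈ V, ∀ j, (DirectSum.decompose ℳ m j : M) ∈ V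

omit [SetLike.GradedSMul 𝒜 ℳ] in
lemma isHomogSub_bot : IsHomogSub ℳ (⊥ : Submodule A M) := by
  intro m hm j
  rw [Submodule.mem_bot] at hm
  rw [hm, DirectSum.decompose_zero, DirectSum.zero_apply, ZeroMemClass.coe_zero]
  exact zero_mem _

section Sat

variable {s : ℕ} (g : Fin s → A) (dg : Fin s → ℕ) (hg : ∀ i, g i ∈ 𝒜 (dg i))

/-- elements all of whose `g i ^ k`-multiples lie in `V`. -/
def satK (V : Submodule A M) (k : ℕ) : Submodule A M where
  carrier := {w | ∀ i, g i ^ k • w ∈ V}
  zero_mem' i := by rw [smul_zero]; exact zero_mem _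
  add_mem' ha hb i := by rw [smul_add]; exact add_mem (ha i) (hb i)
  smul_mem' c w hw i := by rw [smul_comm]; exact V.smul_mem c (hw i)

omit [AddSubgroupClass τ M] in
lemma mem_satK {V : Submodule A M} {k : ℕ} {w : M} : w ∈ satK g V k ↔ ∀ i, g i ^ k • w ∈ V := Iff.rfl

omit [AddSubgroupClass τ M] in
lemma satK_mono (V : Submodule A M) {k k' : ℕ} (h : k ≤ k') : satK g V k ≤ satK g V k' := by
  intro w hw i
  obtain ⟨j, rfl⟩ := Nat.exists_eq_add_of_le h
  rw [pow_add, mul_comm, mul_smul]
  exact V.smul_mem _ (hw i)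

/-- the saturation of `V` with respect to the ideal generated by the `g i`. -/
def sat (V : Submodule A M) : Submodule A M where
  carrier := {w | ∃ k, w ∈ satK g V k}
  zero_mem' := ⟨0, zero_mem _⟩
  add_mem' := by
    rintro a b ⟨k, hk⟩ ⟨k', hk'⟩
    exact ⟨max k k', add_mem (satK_mono g V (le_max_left _ _) hk) (satK_mono g V (le_max_right _ _) hk')⟩
  smul_mem' := by
    rintro c w ⟨k, hk⟩
    exact ⟨k, Submodule.smul_mem _ c hk⟩

omit [AddSubgroupClass τ M] in
lemma mem_sat {V : Submodule A M} {w : M} : w ∈ sat g V ↔ ∃ k, ∀ i, g i ^ k • w ∈ V := Iff.rfl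

include hg in
lemma satK_homog {V : Submodule A M} (hV : IsHomogSub ℳ V) (k : ℕ) : IsHomogSub ℳ (satK g V k) := by
  intro w hw j i
  have h1 := hV _ (hw i) (k * dg i + j)
  rw [decompose_smul_of_left_mem 𝒜 ℳ (pow_mem_graded' 𝒜 (hg i) k) w, if_pos (by omega)] at h1
  have : k * dg i + j - k * dg i = j := by omega
  rwa [this] at h1

variable (hadj : Algebra.adjoin (𝒜 0) (Set.range g) = ⊤)

include hg hadj in
/-- (∗): homogeneous ring elements of large degree send `satK V k` into `V`. -/
lemma component_smul_mem_of_satK (V : Submodule A M) (k : ℕ) {w : M} (hw : w ∈ satK g V k) (a : A)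
    (e : ℕ) (he : k * ∑ i, dg i + 1 ≤ e) : (DirectSum.decompose 𝒜 a e : A) • w ∈ V := by
  classical
  have ha : a ∈ Submodule.span (𝒜 0) (Submonoid.closure (Set.range g) : Set A) := by
    rw [← Algebra.adjoin_eq_span, hadj]
    trivial
  induction ha using Submodule.span_induction with
  | mem a ha' =>
    obtain ⟨α, rfl⟩ := Submonoid.exists_of_mem_closure_range _ _ ha'
    have hmono : (∏ i, g i ^ α i) ∈ 𝒜 (∑ i, α i • dg i) :=
      SetLike.prod_pow_mem_graded 𝒜 dg g α fun i _ => hg i
    by_cases H : ∑ i, α i • dg i = e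
    · rw [DirectSum.decompose_of_mem_same 𝒜 (H ▸ hmono)]
      -- some exponent is `≥ k`
      obtain ⟨i₀, hi₀⟩ : ∃ i, k ≤ α i := by
        by_contra! hcon
        have : ∑ i, α i • dg i ≤ ∑ i, k * dg i := by
          refine Finset.sum_le_sum fun i _ => ?_
          rw [smul_eq_mul]
          exact Nat.mul_le_mul_right _ (hcon i).le
        rw [← Finset.mul_sum] at this
        omega
      have hsplit : (∏ i, g i ^ α i) = (∏ i, g i ^ (Function.update α i₀ (α i₀ - k) i)) * g i₀ ^ k := by
        rw [← Finset.mul_prod_erase Finset.univ _ (Finset.mem_univ i₀),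
          ← Finset.mul_prod_erase Finset.univ (fun i => g i ^ (Function.update α i₀ (α i₀ - k) i))
            (Finset.mem_univ i₀)]
        have h1 : ∏ x ∈ Finset.univ.erase i₀, g x ^ (Function.update α i₀ (α i₀ - k) x) =
            ∏ x ∈ Finset.univ.erase i₀, g x ^ α x := by
          refine Finset.prod_congr rfl fun x hx => ?_
          rw [Function.update_of_ne (Finset.ne_of_mem_erase hx)]
        rw [h1, Function.update_self]
        have h2 : g i₀ ^ α i₀ = g i₀ ^ (α i₀ - k) * g i₀ ^ k := by
          rw [← pow_add, Nat.sub_add_cancel hi₀]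
        rw [h2]
        ring
      rw [hsplit, mul_smul]
      exact V.smul_mem _ (hw i₀)
    · rw [DirectSum.decompose_of_mem_ne 𝒜 hmono H, zero_smul]
      exact zero_mem _
  | zero =>
    rw [DirectSum.decompose_zero, DirectSum.zero_apply, ZeroMemClass.coe_zero, zero_smul]
    exact zero_mem _
  | add a b _ _ iha ihb =>
    rw [DirectSum.decompose_add, DirectSum.add_apply, AddMemClass.coe_add, add_smul]
    exact add_mem iha ihb
  | smul c a _ iha =>
    have h1 : ((DirectSum.decompose 𝒜 (c • a) e : A)) = (c : A) * (DirectSum.decompose 𝒜 a e : A) := by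
      rw [Algebra.smul_def]
      exact DirectSum.coe_decompose_mul_of_left_mem_zero 𝒜 c.2
    rw [h1, mul_smul]
    exact V.smul_mem _ iha

include hg hadj in
/-- **Degree bound**: a finitely generated submodule inside the saturation of a homogeneous submodule
`V` agrees with `V` in large degrees. -/
theorem exists_deg_bound_of_le_sat {V : Submodule A M} (hV : IsHomogSub ℳ V) (W : Submodule A M)
    (hW : W.FG) (hWV : W ≤ sat g V) :
    ∃ n₂ : ℕ, ∀ n : ℕ, n₂ ≤ n → ∀ m ∈ W, m ∈ ℳ n → m ∈ V := by
  classical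
  obtain ⟨t, ht⟩ := hW
  have hk : ∀ w ∈ t, ∃ k, w ∈ satK g V k := fun w hw => hWV (ht ▸ Submodule.subset_span hw)
  choose! kf hkf using hk
  set k := t.sup kf with hkdef
  have hkw : ∀ w ∈ t, w ∈ satK g V k := fun w hw => satK_mono g V (Finset.le_sup hw) (hkf w hw)
  set Dt := t.sup (fun w => (DirectSum.decompose ℳ w).support.sup id) with hDt
  refine ⟨Dt + (k * ∑ i, dg i + 1), fun n hn m hmW hmn => ?_⟩
  rw [← ht] at hmW
  obtain ⟨c, -, hc⟩ := Submodule.mem_span_finset.mp hmW
  rw [← DirectSum.decompose_of_mem_same ℳ hmn, ← hc, DirectSum.decompose_sum, DFinsupp.finsetSum_apply,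
    AddSubmonoidClass.coe_finsetSum]
  refine Submodule.sum_mem _ fun w hw => ?_
  -- `(c w • w)_n = ∑_j (c w)_{n-j} • w_j`
  rw [decompose_smul_general 𝒜 ℳ (c w) w n]
  refine Submodule.sum_mem _ fun j hj => ?_
  have hjD : j ≤ Dt := by
    have h1 : j ≤ (DirectSum.decompose ℳ w).support.sup id := Finset.le_sup (f := id) hj
    have h2 : (DirectSum.decompose ℳ w).support.sup id ≤ Dt :=
      Finset.le_sup (f := fun w => (DirectSum.decompose ℳ w).support.sup id) hw
    exact h1.trans h2
  rw [if_pos (by omega)]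
  exact component_smul_mem_of_satK 𝒜 g dg hg hadj V k (satK_homog 𝒜 ℳ g dg hg hV k w (hkw w hw) j)
    (c w) (n - j) (by omega)

end Sat

end Groth.Agent.H8.ProjTilde
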