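import Mathlib
import Groth.Agent.Lib.Helper8.ProjTilde.Sat

set_option autoImplicit false
universe u
open DirectSum

namespace Groth.Agent.H8.ProjTilde

variable {A σ : Type u} [CommRing A] [SetLike σ A] [AddSubgroupClass σ A] (𝒜 : ℕ → σ) [GradedRing 𝒜]
variable {M : Type u} [AddCommGroup M] [Module A M]
variable {s : ℕ} (g : Fin s → A) (dg : Fin s → ℕ) (hg : ∀ i, g i ∈ 𝒜 (dg i)) (hdg : ∀ i, 0 < dg i)

include hg hdg in
/-- **A homogeneous element of positive degree which is regular modulo torsion** on a finitely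
generated submodule. -/
theorem exists_regular_mod_torsion [IsNoetherianRing A] (M' : Submodule A M) (hM' : M'.FG) :
    ∃ (d : ℕ) (_ : 0 < d) (x : A) (_ : x ∈ 𝒜 d),
      ∀ m ∈ M', x • m ∈ sat g (⊥ : Submodule A M) → m ∈ sat g (⊥ : Submodule A M) := by
  classical
  set T : Submodule A M := sat g (⊥ : Submodule A M) with hT
  let T' : Submodule A M' := T.comap M'.subtype
  haveI : Module.Finite A M' := Module.Finite.iff_fg.mpr hM'
  haveI : Module.Finite A (M' ⧸ T') := inferInstance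
  have hfin : (associatedPrimes A (M' ⧸ T')).Finite := associatedPrimes.finite A (M' ⧸ T')
  haveI := hfin.fintype
  -- no associated prime contains all the `g i`
  have hkey : ∀ P : associatedPrimes A (M' ⧸ T'), ∃ n, 0 < n ∧ ∃ f ∈ 𝒜 n, f ∉ P.1 := by
    intro P
    obtain ⟨hPprime, n, hPn⟩ := (isAssociatedPrime_iff).mp P.2
    by_contra! hcon
    have hall : ∀ i, g i ∈ P.1 := fun i => hcon (dg i) (hdg i) (g i) (hg i)
    obtain ⟨m, rfl⟩ := Submodule.Quotient.mk_surjective T' n
    have h1 : ∀ i, g i • (m : M) ∈ T := by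
      intro i
      have h2 := hall i
      rw [hPn, Submodule.mem_colon_singleton, Submodule.mem_bot, ← Submodule.Quotient.mk_smul,
        Submodule.Quotient.mk_eq_zero] at h2
      exact h2
    have h3 : ∀ i, ∃ k, g i ^ k • (m : M) = 0 := by
      intro i
      obtain ⟨k, hk⟩ := (mem_sat g).mp (h1 i)
      refine ⟨k + 1, ?_⟩
      have := hk i
      rw [Submodule.mem_bot, smul_smul, ← pow_succ] at this
      exact this
    choose kf hkf using h3
    have hmT : (m : M) ∈ T := by
      rw [hT, mem_sat]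
      refine ⟨Finset.univ.sup kf, fun i => ?_⟩
      rw [Submodule.mem_bot]
      have hle : kf i ≤ Finset.univ.sup kf := Finset.le_sup (Finset.mem_univ i)
      obtain ⟨j, hj⟩ := Nat.exists_eq_add_of_le hle
      rw [hj, pow_add, mul_comm, mul_smul, hkf i, smul_zero]
    have h0 : (Submodule.Quotient.mk m : M' ⧸ T') = 0 := (Submodule.Quotient.mk_eq_zero T').mpr hmT
    apply hPprime.ne_top
    rw [hPn, h0]
    ext r
    simp [Submodule.mem_colon_singleton]
  obtain ⟨d, hd, x, hx, hxP⟩ := exists_homog_avoid 𝒜 (Finset.univ : Finset (associatedPrimes A (M' ⧸ T')))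
    (fun P => P.1) (fun P _ => hkey P)
  refine ⟨d, hd, x, hx, fun m hm hxm => ?_⟩
  by_contra hmT
  have hne : (Submodule.Quotient.mk ⟨m, hm⟩ : M' ⧸ T') ≠ 0 := by
    rw [Ne, Submodule.Quotient.mk_eq_zero]
    exact hmT
  have hx0 : x • (Submodule.Quotient.mk ⟨m, hm⟩ : M' ⧸ T') = 0 := by
    rw [← Submodule.Quotient.mk_smul, Submodule.Quotient.mk_eq_zero]
    exact hxm
  have hzd : x ∈ {r : A | ∃ n : M' ⧸ T', n ≠ 0 ∧ r • n = 0} := ⟨_, hne, hx0⟩
  rw [← biUnion_associatedPrimes_eq_zero_divisors A (M' ⧸ T')] at hzd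
  obtain ⟨P, hP, hxmem⟩ := Set.mem_iUnion₂.mp hzd
  exact hxP ⟨P, hP⟩ (Finset.mem_univ _) hxmem

end Groth.Agent.H8.ProjTilde
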