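import Mathlib
import Groth.Prelude.Def_GrMod3
import Groth.Agent.Lib.Helper8.ProjTilde.Regular
import Groth.Agent.Lib.Helper8.ProjTilde.Alpha

set_option autoImplicit false
universe u
open AlgebraicGeometry CategoryTheory Opposite TopologicalSpace DirectSum

namespace Groth.Agent.H8.ProjTilde

variable {A σ : Type u} [CommRing A] [SetLike σ A] [AddSubgroupClass σ A] (𝒜 : ℕ → σ) [GradedRing 𝒜]
variable {M τ : Type u} [AddCommGroup M] [Module A M] [SetLike τ M] [AddSubgroupClass τ M] (ℳ : ℕ → τ)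
variable [SetLike.GradedSMul 𝒜 ℳ] [DirectSum.Decomposition ℳ]
variable {s : ℕ} (g : Fin s → A) (dg : Fin s → ℕ) (hg : ∀ i, g i ∈ 𝒜 (dg i)) (hdg : ∀ i, 0 < dg i)
  (hspan : (HomogeneousIdeal.irrelevant 𝒜).toIdeal = Ideal.span (Set.range g))

include hspan in
/-- (F0) every point of `Proj` misses one of the generators of the irrelevant ideal. -/
lemma exists_gen_notMem (y : ProjectiveSpectrum 𝒜) : ∃ i, g i ∉ y.asHomogeneousIdeal := by
  by_contra! hcon
  apply y.not_irrelevant_le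
  intro a ha
  have ha' : a ∈ Ideal.span (Set.range g) := hspan ▸ ha
  refine (Ideal.span_le.2 ?_) ha'
  rintro _ ⟨i, rfl⟩
  exact hcon i

include hg hdg hspan in
/-- (F1) a homogeneous element dies at every point of `Proj` iff it is torsion. -/
lemma forall_exists_smul_eq_zero_iff_mem_sat {i : ℕ} {m : M} (hm : m ∈ ℳ i) :
    (∀ y : ProjectiveSpectrum 𝒜, ∃ u : A, u ∉ y.asHomogeneousIdeal ∧ u • m = 0) ↔
      m ∈ sat g (⊥ : Submodule A M) := by
  constructor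
  · intro h
    have h1 : ∀ l, ∃ N : ℕ, g l ^ N • m = 0 := fun l =>
      exists_pow_smul_eq_zero 𝒜 ℳ (hdg l) (hg l) hm (fun y _ => h y)
    choose Nf hNf using h1
    rw [mem_sat]
    refine ⟨Finset.univ.sup Nf, fun l => ?_⟩
    rw [Submodule.mem_bot]
    have hle : Nf l ≤ Finset.univ.sup Nf := Finset.le_sup (Finset.mem_univ l)
    obtain ⟨j, hj⟩ := Nat.exists_eq_add_of_le hle
    rw [hj, pow_add, mul_comm, mul_smul, hNf l, smul_zero]
  · intro h y
    obtain ⟨k, hk⟩ := (mem_sat g).mp h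
    obtain ⟨l, hl⟩ := exists_gen_notMem 𝒜 g hspan y
    exact ⟨g l ^ k, fun hmem => hl (y.isPrime.mem_of_pow_mem k hmem), (Submodule.mem_bot A).mp (hk l)⟩

/-- the submodule generated by the homogeneous elements of degree `≥ k₀`. -/
def highSub (A : Type u) [CommRing A] {M τ : Type u} [AddCommGroup M] [Module A M] [SetLike τ M]
    (ℳ : ℕ → τ) (k₀ : ℕ) : Submodule A M := Submodule.span A (⋃ i ∈ Set.Ici k₀, (ℳ i : Set M))

omit [AddSubgroupClass τ M] [DirectSum.Decomposition ℳ] in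
lemma mem_highSub_of_mem {k₀ n : ℕ} (hn : k₀ ≤ n) {m : M} (hm : m ∈ ℳ n) : m ∈ highSub A ℳ k₀ :=
  Submodule.subset_span (Set.mem_biUnion (Set.mem_Ici.mpr hn) hm)

/-- multiplying by a homogeneous element of degree `≥ k₀` lands in `highSub`. -/
lemma smul_mem_highSub {k₀ e : ℕ} (he : k₀ ≤ e) {a : A} (ha : a ∈ 𝒜 e) (z : M) :
    a • z ∈ highSub A ℳ k₀ := by
  classical
  rw [← DirectSum.sum_support_decompose ℳ z, Finset.smul_sum]
  refine Submodule.sum_mem _ fun j _ => ?_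
  exact mem_highSub_of_mem (A := A) ℳ (by omega : k₀ ≤ e + j)
    (SetLike.GradedSMul.smul_mem ha (DirectSum.decompose ℳ z j).2)

include hg hdg hspan in
/-- (F3) pointwise injectivity of multiplication by an element regular modulo torsion. -/
lemma smul_injective_at_point {k₀ : ℕ} {x : A}
    (hreg : ∀ m ∈ highSub A ℳ k₀, x • m ∈ sat g (⊥ : Submodule A M) → m ∈ sat g (⊥ : Submodule A M))
    (y : ProjectiveSpectrum 𝒜) (q : GrMod.LocMod 𝒜 (M := M) y)
    (hq : (Localization.mk x (1 : y.asHomogeneousIdeal.toIdeal.primeCompl) : GrTwist.Loc 𝒜 y) • q = 0) :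
    q = 0 := by
  induction q using LocalizedModule.induction_on with
  | h m u =>
    rw [LocalizedModule.mk_smul_mk, one_mul, mk_eq_zero_iff] at hq
    obtain ⟨u', hu'⟩ := hq
    obtain ⟨l, hl⟩ := exists_gen_notMem 𝒜 g hspan y
    have hgl : g l ^ k₀ ∈ 𝒜 (k₀ * dg l) := pow_mem_graded' 𝒜 (hg l) k₀
    have hk₀ : k₀ ≤ k₀ * dg l := Nat.le_mul_of_pos_right k₀ (hdg l)
    have hm₂ : g l ^ k₀ • ((u' : A) • m) ∈ highSub A ℳ k₀ := smul_mem_highSub 𝒜 ℳ hk₀ hgl _
    have hx0 : x • (g l ^ k₀ • ((u' : A) • m)) = 0 := by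
      rw [smul_comm x, smul_comm x, hu', smul_zero]
    have hT := hreg _ hm₂ (by rw [hx0]; exact zero_mem _)
    obtain ⟨k, hk⟩ := (mem_sat g).mp hT
    have hk' := (Submodule.mem_bot A).mp (hk l)
    rw [mk_eq_zero_iff]
    refine ⟨⟨g l ^ k * g l ^ k₀ * u', ?_⟩, ?_⟩
    · intro hmem
      rcases y.isPrime.mem_or_mem hmem with h1 | h1
      · rcases y.isPrime.mem_or_mem h1 with h2 | h2
        · exact hl (y.isPrime.mem_of_pow_mem k h2)
        · exact hl (y.isPrime.mem_of_pow_mem k₀ h2)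
      · exact u'.2 h1
    · change (g l ^ k * g l ^ k₀ * (u' : A)) • m = 0
      rw [mul_smul, mul_smul]
      exact hk'


/-- value of a global section at a point -/
abbrev gval {n : ℤ} (s : GrMod.sect 𝒜 ℳ n (op ⊤)) (y : ProjectiveSpectrum 𝒜) : GrMod.LocMod 𝒜 (M := M) y :=
  ((s.1 ⟨y, trivial⟩ : GrMod.tildeAt 𝒜 ℳ n y) : GrMod.LocMod 𝒜 (M := M) y)

/-- `f ^ k` as an element of the complement of a homogeneous prime not containing `f`. -/
abbrev powPC (y : ProjectiveSpectrum 𝒜) {f : A} (hy : f ∉ y.asHomogeneousIdeal) (k : ℕ) :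
    y.asHomogeneousIdeal.toIdeal.primeCompl :=
  ⟨f ^ k, fun h => hy (y.isPrime.mem_of_pow_mem k h)⟩

/-- a global section is a single fraction on each `D₊(f)`. -/
lemma exists_frac_global (n : ℤ) (s : GrMod.sect 𝒜 ℳ n (op ⊤)) {d : ℕ} (hd : 0 < d) {f : A} (hf : f ∈ 𝒜 d) :
    ∃ (k i : ℕ) (m : M) (_ : m ∈ ℳ i), (i : ℤ) = k * d + n ∧
      ∀ (y : ProjectiveSpectrum 𝒜) (hy : f ∉ y.asHomogeneousIdeal),
        gval 𝒜 ℳ s y = LocalizedModule.mk m (powPC 𝒜 y hy k) := by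
  obtain ⟨k, i, m, hm, hi, h⟩ := exists_frac 𝒜 ℳ n hd hf
    (GrMod.res 𝒜 ℳ n (homOfLE (le_top : ProjectiveSpectrum.basicOpen 𝒜 f ≤ ⊤)).op s)
  refine ⟨k, i, m, hm, hi, fun y hy => ?_⟩
  exact h ⟨y, (ProjectiveSpectrum.mem_basicOpen 𝒜 f y).mpr hy⟩ _

include hg hdg hspan in
/-- (F4) **Claim C**: a power of `x` moves any global section into the image of `α`. -/
lemma exists_pow_smul_eq_alpha (n : ℤ) (s : GrMod.sect 𝒜 ℳ n (op ⊤)) {d : ℕ} (hd : 0 < d) {x : A}
    (hx : x ∈ 𝒜 d) :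
    ∃ (K i₀ : ℕ) (m₀ : M) (_ : m₀ ∈ ℳ i₀), (i₀ : ℤ) = n + K * d ∧
      ∀ y : ProjectiveSpectrum 𝒜,
        (Localization.mk (x ^ K) (1 : y.asHomogeneousIdeal.toIdeal.primeCompl) : GrTwist.Loc 𝒜 y) •
          gval 𝒜 ℳ s y = LocalizedModule.mk m₀ 1 := by
  classical
  obtain ⟨k, i, m, hm, hi, hs⟩ := exists_frac_global 𝒜 ℳ n s hd hx
  have hloc : ∀ l, ∃ (k_l i_l : ℕ) (m_l : M) (_ : m_l ∈ ℳ i_l), (i_l : ℤ) = k_l * dg l + n ∧
      ∀ (y : ProjectiveSpectrum 𝒜) (hy : g l ∉ y.asHomogeneousIdeal),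
        gval 𝒜 ℳ s y = LocalizedModule.mk m_l (powPC 𝒜 y hy k_l) := fun l =>
    exists_frac_global 𝒜 ℳ n s (hdg l) (hg l)
  choose kl il ml hml hil hsl using hloc
  -- compatibility elements
  have hxk : x ^ k ∈ 𝒜 (k * d) := pow_mem_graded' 𝒜 hx k
  have hglk : ∀ l, g l ^ kl l ∈ 𝒜 (kl l * dg l) := fun l => pow_mem_graded' 𝒜 (hg l) (kl l)
  have hz : ∀ l, ∃ p : ℕ, (x * g l) ^ p • (x ^ k • ml l - g l ^ kl l • m) = 0 := by
    intro l
    have hdeg : kl l * dg l + i = k * d + il l := by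
      have h1 := hil l
      zify
      rw [hi, h1]; ring
    have hmem : x ^ k • ml l - g l ^ kl l • m ∈ ℳ (k * d + il l) := by
      refine sub_mem (SetLike.GradedSMul.smul_mem hxk (hml l)) ?_
      rw [← hdeg]
      exact SetLike.GradedSMul.smul_mem (hglk l) hm
    refine exists_pow_smul_eq_zero 𝒜 ℳ (d := d + dg l) (by omega) (SetLike.mul_mem_graded hx (hg l)) hmem ?_
    intro y hy
    have hy' : x * g l ∉ y.asHomogeneousIdeal := (ProjectiveSpectrum.mem_basicOpen 𝒜 _ y).mp hy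
    have hy1 : x ∉ y.asHomogeneousIdeal := fun hmem => hy' (Ideal.mul_mem_right _ _ hmem)
    have hy2 : g l ∉ y.asHomogeneousIdeal := fun hmem => hy' (Ideal.mul_mem_left _ _ hmem)
    have e1 := hs y hy1
    have e2 := hsl l y hy2
    rw [e1, LocalizedModule.mk_eq] at e2
    obtain ⟨u, hu⟩ := e2
    refine ⟨u, u.2, ?_⟩
    have hu' : (u : A) • g l ^ kl l • m = (u : A) • x ^ k • ml l := hu
    rw [smul_sub, hu', sub_self]
  choose pf hpf using hz
  set p := Finset.univ.sup pf with hp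
  have hpz : ∀ l, (x * g l) ^ p • (x ^ k • ml l - g l ^ kl l • m) = 0 := by
    intro l
    have hle : pf l ≤ p := Finset.le_sup (Finset.mem_univ l)
    obtain ⟨j, hj⟩ := Nat.exists_eq_add_of_le hle
    rw [hj, pow_add, mul_comm, mul_smul, hpf l, smul_zero]
  refine ⟨p + k, p * d + i, x ^ p • m, SetLike.GradedSMul.smul_mem (pow_mem_graded' 𝒜 hx p) hm,
    by push_cast; rw [hi]; ring, fun y => ?_⟩
  obtain ⟨l, hl⟩ := exists_gen_notMem 𝒜 g hspan y
  rw [hsl l y hl, LocalizedModule.mk_smul_mk, one_mul, LocalizedModule.mk_eq]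
  refine ⟨⟨g l ^ p, fun hmem => hl (y.isPrime.mem_of_pow_mem p hmem)⟩, ?_⟩
  change g l ^ p • (1 : A) • x ^ (p + k) • ml l = g l ^ p • g l ^ kl l • x ^ p • m
  have h0 := hpz l
  rw [mul_pow, smul_sub, sub_eq_zero] at h0
  rw [one_smul]
  calc g l ^ p • x ^ (p + k) • ml l = (x ^ p * g l ^ p) • x ^ k • ml l := by
        rw [smul_smul, smul_smul]; congr 1; ring
    _ = (x ^ p * g l ^ p) • g l ^ kl l • m := h0
    _ = g l ^ p • g l ^ kl l • x ^ p • m := by
        rw [smul_smul, smul_smul, smul_smul]; congr 1; ring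

end Groth.Agent.H8.ProjTilde
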