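import Mathlib
import Groth.Prelude.Def_GrMod3
import Groth.Agent.Lib.Helper8.ProjTilde.FinTools

set_option autoImplicit false
universe u
open AlgebraicGeometry CategoryTheory Opposite TopologicalSpace DirectSum HomogeneousLocalization

namespace Groth.Agent.H8.ProjTilde

variable {A σ : Type u} [CommRing A] [SetLike σ A] [AddSubgroupClass σ A] (𝒜 : ℕ → σ) [GradedRing 𝒜]
variable {M τ : Type u} [AddCommGroup M] [Module A M] [SetLike τ M] [AddSubgroupClass τ M] (ℳ : ℕ → τ)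
variable [SetLike.GradedSMul 𝒜 ℳ]

section PS

variable (n : ℤ) {d : ℕ} {f : A} (hf : f ∈ 𝒜 d)

/-- `m` is homogeneous of the degree `k d + n`. -/
def HasDeg (d : ℕ) (k : ℕ) (m : M) : Prop := ∃ i : ℕ, (i : ℤ) = k * d + n ∧ m ∈ ℳ i

open Classical in
/-- total version of `m ↦ m / f ^ k` (zero when `m` is not homogeneous of degree `k d + n`). -/
noncomputable def pS (k : ℕ) (m : M) : Γ(GrMod.tilde 𝒜 ℳ n, Proj.basicOpen 𝒜 f) :=
  if h : HasDeg ℳ n d k m then powSectHom 𝒜 ℳ n hf k h.choose h.choose_spec.1 ⟨m, h.choose_spec.2⟩ else 0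

lemma pS_eq (k i : ℕ) (hi : (i : ℤ) = k * d + n) {m : M} (hm : m ∈ ℳ i) :
    pS 𝒜 ℳ n hf k m = powSectHom 𝒜 ℳ n hf k i hi ⟨m, hm⟩ := by
  have h : HasDeg ℳ n d k m := ⟨i, hi, hm⟩
  rw [pS, dif_pos h]
  exact powSectHom_congr 𝒜 ℳ n hf k _ _ _ _ _ _ rfl

lemma pS_zero (k : ℕ) : pS 𝒜 ℳ n hf k (0 : M) = 0 := by
  by_cases h : HasDeg ℳ n d k (0 : M)
  · obtain ⟨i, hi, hm⟩ := h
    rw [pS_eq 𝒜 ℳ n hf k i hi hm]
    exact map_zero _
  · rw [pS, dif_neg h]

lemma pS_add (k i : ℕ) (hi : (i : ℤ) = k * d + n) {m m' : M} (hm : m ∈ ℳ i) (hm' : m' ∈ ℳ i) :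
    pS 𝒜 ℳ n hf k (m + m') = pS 𝒜 ℳ n hf k m + pS 𝒜 ℳ n hf k m' := by
  rw [pS_eq 𝒜 ℳ n hf k i hi hm, pS_eq 𝒜 ℳ n hf k i hi hm', pS_eq 𝒜 ℳ n hf k i hi (add_mem hm hm'),
    ← map_add]
  rfl

lemma pS_sum (k i : ℕ) (hi : (i : ℤ) = k * d + n) {J : Type*} (s : Finset J) (x : J → M)
    (hx : ∀ j ∈ s, x j ∈ ℳ i) :
    pS 𝒜 ℳ n hf k (∑ j ∈ s, x j) = ∑ j ∈ s, pS 𝒜 ℳ n hf k (x j) := by
  classical
  induction s using Finset.induction_on with
  | empty => simp [pS_zero]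
  | insert a s ha ih =>
    rw [Finset.sum_insert ha, Finset.sum_insert ha,
      pS_add 𝒜 ℳ n hf k i hi (hx a (Finset.mem_insert_self a s))
        (sum_mem fun j hj => hx j (Finset.mem_insert_of_mem hj)),
      ih fun j hj => hx j (Finset.mem_insert_of_mem hj)]

lemma fracO_smul_pS (k : ℕ) {a : A} (ha : a ∈ 𝒜 (k * d)) (j i : ℕ) (hi : (i : ℤ) = j * d + n)
    {m : M} (hm : m ∈ ℳ i) :
    fracO 𝒜 hf k ha • pS 𝒜 ℳ n hf j m = pS 𝒜 ℳ n hf (k + j) (a • m) := by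
  have hi' : ((k * d + i : ℕ) : ℤ) = ((k + j : ℕ) : ℤ) * d + n := by push_cast; rw [hi]; ring
  rw [pS_eq 𝒜 ℳ n hf j i hi hm, pS_eq 𝒜 ℳ n hf (k + j) (k * d + i) hi' (SetLike.GradedSMul.smul_mem ha hm)]
  exact fracO_smul_powSectHom 𝒜 ℳ n hf k ha j i hi ⟨m, hm⟩ hi'

lemma pS_mul_pow (k i : ℕ) (hi : (i : ℤ) = k * d + n) {m : M} (hm : m ∈ ℳ i) (N : ℕ) :
    pS 𝒜 ℳ n hf k m = pS 𝒜 ℳ n hf (k + N) (f ^ N • m) := by
  have hi' : ((N * d + i : ℕ) : ℤ) = ((k + N : ℕ) : ℤ) * d + n := by push_cast; rw [hi]; ring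
  rw [pS_eq 𝒜 ℳ n hf k i hi hm, pS_eq 𝒜 ℳ n hf (k + N) (N * d + i) hi'
    (SetLike.GradedSMul.smul_mem (pow_mem_graded' 𝒜 hf N) hm)]
  exact powSectHom_mul_pow 𝒜 ℳ n hf k i hi ⟨m, hm⟩ N hi'

/-- every section over `D₊(f)` is a `pS`. -/
lemma exists_eq_pS [DirectSum.Decomposition ℳ] (hd : 0 < d)
    (s : Γ(GrMod.tilde 𝒜 ℳ n, Proj.basicOpen 𝒜 f)) :
    ∃ (k i : ℕ) (m : M) (_ : m ∈ ℳ i) (_ : (i : ℤ) = k * d + n), s = pS 𝒜 ℳ n hf k m := by
  obtain ⟨k, i, m, hm, hi, hs⟩ := exists_eq_powSect 𝒜 ℳ n hd hf (toSect 𝒜 ℳ s)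
  refine ⟨k, i, m, hm, hi, ?_⟩
  rw [pS_eq 𝒜 ℳ n hf k i hi hm]
  exact hs

end PS


section Fin

variable [DirectSum.Decomposition ℳ]
variable (n : ℤ) (hn : n ≤ 0) {d : ℕ} (hd : 0 < d) {f : A} (hf : f ∈ 𝒜 d)
variable {ι : Type*} [Fintype ι] (g : ι → A) (dg : ι → ℕ) (hg : ∀ i, g i ∈ 𝒜 (dg i))
  (hadj : Algebra.adjoin (𝒜 0) (Set.range g) = ⊤)
variable {J : Type*} (mm : J → M) (e : J → ℕ) (hmm : ∀ j, mm j ∈ ℳ (e j))

/-- the monomial `∏ g_i ^ α_i` -/
abbrev mono (α : ι → ℕ) : A := ∏ i, g i ^ α i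

include hg in
lemma mono_mem (α : ι → ℕ) : mono g α ∈ 𝒜 (∑ i, α i • dg i) :=
  SetLike.prod_pow_mem_graded 𝒜 dg g α fun i _ => hg i

open Classical in
/-- the finitely many generating sections -/
noncomputable def genFun (p : (ι → Fin d) × J) : Γ(GrMod.tilde 𝒜 ℳ n, Proj.basicOpen 𝒜 f) :=
  if h : ∃ k : ℕ, ((∑ i, (p.1 i : ℕ) • dg i + e p.2 : ℕ) : ℤ) = k * d + n then
    pS 𝒜 ℳ n hf h.choose (mono g (fun i => (p.1 i : ℕ)) • mm p.2)
  else 0

include hn hd hg hmm in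
/-- Step 1: monomial multiples of the module generators. -/
lemma pS_mono_mem (N : ℕ) : ∀ (α : ι → ℕ), ∑ i, α i = N → ∀ (j : J) (k : ℕ),
    ((∑ i, α i • dg i + e j : ℕ) : ℤ) = k * d + n →
    pS 𝒜 ℳ n hf k (mono g α • mm j) ∈
      Submodule.span Γ(Proj 𝒜, Proj.basicOpen 𝒜 f) (Set.range (genFun 𝒜 ℳ n hf g dg mm e)) := by
  classical
  induction N using Nat.strong_induction_on with
  | _ N ih =>
    intro α hα j k hk
    by_cases hsmall : ∀ i, α i < d
    · refine Submodule.subset_span ⟨(fun i => ⟨α i, hsmall i⟩, j), ?_⟩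
      have hex : ∃ k' : ℕ, ((∑ i, α i • dg i + e j : ℕ) : ℤ) = k' * d + n := ⟨k, hk⟩
      rw [genFun]
      simp only []
      rw [dif_pos hex]
      have hkk : hex.choose = k := by
        have h1 := hk.symm.trans hex.choose_spec
        have h2 : (k : ℤ) * d = (hex.choose : ℤ) * d := by linarith
        have hd' : (d : ℤ) ≠ 0 := by exact_mod_cast hd.ne'
        exact_mod_cast (mul_right_cancel₀ hd' h2).symm
      rw [hkk]
    · push Not at hsmall
      obtain ⟨i₀, hi₀⟩ := hsmall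
      let α' : ι → ℕ := Function.update α i₀ (α i₀ - d)
      have hα' : ∀ i, α i = α' i + (if i = i₀ then d else 0) := by
        intro i
        by_cases h : i = i₀
        · subst h; simp [α']; omega
        · simp [α', h]
      have hsum : ∑ i, α i = ∑ i, α' i + d := by
        rw [Finset.sum_congr rfl (fun i _ => hα' i), Finset.sum_add_distrib]
        simp
      have hsumdeg : ∑ i, α i • dg i = ∑ i, α' i • dg i + d * dg i₀ := by
        rw [Finset.sum_congr rfl (fun i _ => congrArg (· • dg i) (hα' i))]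
        simp only [smul_eq_mul, add_mul, Finset.sum_add_distrib, ite_mul, zero_mul,
          Finset.sum_ite_eq', Finset.mem_univ, if_true]
      have hmono : mono g α = g i₀ ^ d * mono g α' := by
        unfold mono
        rw [Finset.prod_congr rfl (fun i _ => congrArg (g i ^ ·) (hα' i))]
        simp only [pow_add, Finset.prod_mul_distrib]
        rw [mul_comm]
        congr 1
        simp only [pow_ite, pow_zero, Finset.prod_ite_eq', Finset.mem_univ, if_true]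
      -- `dg i₀ ≤ k`
      have hk' : dg i₀ ≤ k := by
        have h1 : ((∑ i, α' i • dg i + d * dg i₀ + e j : ℕ) : ℤ) = k * d + n := by rw [← hsumdeg]; exact hk
        have h2 : ((d * dg i₀ : ℕ) : ℤ) ≤ k * d := by
          push_cast at h1 ⊢
          have : (0 : ℤ) ≤ ((∑ i, α' i • dg i : ℕ) : ℤ) + (e j : ℤ) := by positivity
          push_cast at this
          linarith
        have h3 : d * dg i₀ ≤ k * d := by exact_mod_cast h2
        rw [mul_comm] at h3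
        exact Nat.le_of_mul_le_mul_right h3 hd
      obtain ⟨k₁, rfl⟩ := Nat.exists_eq_add_of_le hk'
      have hk₁ : ((∑ i, α' i • dg i + e j : ℕ) : ℤ) = k₁ * d + n := by
        have h1 : ((∑ i, α' i • dg i + d * dg i₀ + e j : ℕ) : ℤ) = ((dg i₀ + k₁ : ℕ) : ℤ) * d + n := by
          rw [← hsumdeg]; exact hk
        push_cast at h1 ⊢
        linarith
      have ih' := ih (∑ i, α' i) (by omega) α' rfl j k₁ hk₁
      have hgd : g i₀ ^ d ∈ 𝒜 (dg i₀ * d) := by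
        have := pow_mem_graded' 𝒜 (hg i₀) d
        rwa [mul_comm] at this
      have hmem : mono g α' • mm j ∈ ℳ (∑ i, α' i • dg i + e j) :=
        SetLike.GradedSMul.smul_mem (mono_mem 𝒜 g dg hg α') (hmm j)
      have := fracO_smul_pS 𝒜 ℳ n hf (dg i₀) hgd k₁ _ hk₁ hmem
      rw [hmono, mul_smul, ← this]
      exact Submodule.smul_mem _ _ ih'


include hn hd hg hadj hmm in
/-- Step 2: arbitrary homogeneous ring multiples of the module generators. -/
lemma pS_smul_gen_mem (j : J) (a : A) (t k : ℕ) (hk : ((t + e j : ℕ) : ℤ) = k * d + n) :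
    pS 𝒜 ℳ n hf k ((DirectSum.decompose 𝒜 a t : A) • mm j) ∈
      Submodule.span Γ(Proj 𝒜, Proj.basicOpen 𝒜 f) (Set.range (genFun 𝒜 ℳ n hf g dg mm e)) := by
  classical
  have ha : a ∈ Submodule.span (𝒜 0) (Submonoid.closure (Set.range g) : Set A) := by
    rw [← Algebra.adjoin_eq_span, hadj]
    trivial
  induction ha using Submodule.span_induction with
  | mem a ha' =>
    obtain ⟨α, rfl⟩ := Submonoid.exists_of_mem_closure_range _ _ ha'
    by_cases H : ∑ i, α i • dg i = t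
    · rw [DirectSum.decompose_of_mem_same 𝒜 (H ▸ mono_mem 𝒜 g dg hg α)]
      exact pS_mono_mem 𝒜 ℳ n hn hd hf g dg hg mm e hmm _ α rfl j k (by rw [H]; exact hk)
    · rw [DirectSum.decompose_of_mem_ne 𝒜 (mono_mem 𝒜 g dg hg α) H, zero_smul, pS_zero]
      exact zero_mem _
  | zero =>
    rw [DirectSum.decompose_zero, DirectSum.zero_apply, ZeroMemClass.coe_zero, zero_smul, pS_zero]
    exact zero_mem _
  | add a b _ _ iha ihb =>
    rw [DirectSum.decompose_add, DirectSum.add_apply, AddMemClass.coe_add, add_smul,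
      pS_add 𝒜 ℳ n hf k (t + e j) hk
        (SetLike.GradedSMul.smul_mem (DirectSum.decompose 𝒜 a t).2 (hmm j))
        (SetLike.GradedSMul.smul_mem (DirectSum.decompose 𝒜 b t).2 (hmm j))]
    exact add_mem iha ihb
  | smul c a _ iha =>
    have hc : (c : A) ∈ 𝒜 (0 * d) := by rw [zero_mul]; exact c.2
    have h1 : ((DirectSum.decompose 𝒜 (c • a) t : A)) = (c : A) * (DirectSum.decompose 𝒜 a t : A) := by
      rw [Algebra.smul_def]
      exact DirectSum.coe_decompose_mul_of_left_mem_zero 𝒜 c.2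
    rw [h1, mul_smul]
    have h2 := fracO_smul_pS 𝒜 ℳ n hf 0 hc k (t + e j) hk
      (SetLike.GradedSMul.smul_mem (DirectSum.decompose 𝒜 a t).2 (hmm j))
    rw [Nat.zero_add] at h2
    rw [← h2]
    exact Submodule.smul_mem _ _ iha

include hn hd hf hg hadj hmm in
/-- **Finiteness of sections over `D₊(f)`.** -/
theorem finite_sections_basicOpen [Finite J]
    (hTF : ∃ n₀ : ℕ, ∀ t : ℕ, n₀ ≤ t → ∀ m ∈ ℳ t, m ∈ Submodule.span A (Set.range mm)) :
    Module.Finite Γ(Proj 𝒜, Proj.basicOpen 𝒜 f) Γ(GrMod.tilde 𝒜 ℳ n, Proj.basicOpen 𝒜 f) := by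
  classical
  haveI := Fintype.ofFinite J
  obtain ⟨n₀, hTF⟩ := hTF
  have hfin : (Set.range (genFun 𝒜 ℳ n hf g dg mm e)).Finite := Set.finite_range _
  refine Module.finite_def.2 ⟨hfin.toFinset, ?_⟩
  rw [Set.Finite.coe_toFinset, eq_top_iff]
  rintro s -
  obtain ⟨k, i, m, hm, hi, rfl⟩ := exists_eq_pS 𝒜 ℳ n hf hd s
  -- increase the degree
  rw [pS_mul_pow 𝒜 ℳ n hf k i hi hm n₀]
  have hm' : f ^ n₀ • m ∈ ℳ (n₀ * d + i) := SetLike.GradedSMul.smul_mem (pow_mem_graded' 𝒜 hf n₀) hm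
  have hi' : ((n₀ * d + i : ℕ) : ℤ) = ((k + n₀ : ℕ) : ℤ) * d + n := by push_cast; rw [hi]; ring
  have hge : n₀ ≤ n₀ * d + i := by
    have := Nat.le_mul_of_pos_right n₀ hd
    omega
  generalize f ^ n₀ • m = m₁ at hm'
  generalize n₀ * d + i = i₁ at hm' hi' hge
  generalize k + n₀ = k₁ at hi'
  obtain ⟨c, hc⟩ := (Submodule.mem_span_range_iff_exists_fun A).mp (hTF i₁ hge m₁ hm')
  have h1 : m₁ = ∑ j, (if e j ≤ i₁ then (DirectSum.decompose 𝒜 (c j) (i₁ - e j) : A) • mm j else 0) := by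
    conv_lhs => rw [← DirectSum.decompose_of_mem_same ℳ hm', ← hc, DirectSum.decompose_sum,
      DFinsupp.finsetSum_apply, AddSubmonoidClass.coe_finsetSum]
    refine Finset.sum_congr rfl fun j _ => ?_
    exact decompose_smul_of_mem 𝒜 ℳ (hmm j) (c j) i₁
  rw [h1, pS_sum 𝒜 ℳ n hf k₁ i₁ hi']
  · refine Submodule.sum_mem _ fun j _ => ?_
    split_ifs with hle
    · exact pS_smul_gen_mem 𝒜 ℳ n hn hd hf g dg hg hadj mm e hmm j (c j) (i₁ - e j) k₁
        (by rw [Nat.sub_add_cancel hle]; exact hi')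
    · rw [pS_zero]; exact zero_mem _
  · intro j _
    split_ifs with hle
    · have : (DirectSum.decompose 𝒜 (c j) (i₁ - e j) : A) • mm j ∈ ℳ ((i₁ - e j) + e j) :=
        SetLike.GradedSMul.smul_mem (DirectSum.decompose 𝒜 (c j) (i₁ - e j)).2 (hmm j)
      rwa [Nat.sub_add_cancel hle] at this
    · exact zero_mem _

end Fin

end Groth.Agent.H8.ProjTilde
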