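import Mathlib
import Groth.Prelude.Def_GrMod3
import Groth.Prelude.Def_GrMod2
import Groth.Agent.Lib.Helper8.ProjTilde.FinSect
import Groth.Agent.Lib.Helper1.GradedFG
import Groth.Agent.Lib.Lead.QC.FinType

set_option autoImplicit false
universe u
open AlgebraicGeometry CategoryTheory Opposite TopologicalSpace DirectSum HomogeneousLocalization

namespace Groth.Agent.H8.ProjTilde

section General

variable {A σ : Type u} [CommRing A] [SetLike σ A] [AddSubgroupClass σ A] (𝒜 : ℕ → σ) [GradedRing 𝒜]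
variable {M τ : Type u} [AddCommGroup M] [Module A M] [SetLike τ M] [AddSubgroupClass τ M] (ℳ : ℕ → τ)
variable [SetLike.GradedSMul 𝒜 ℳ] [DirectSum.Decomposition ℳ]

/-- **`M(n)~` is of finite type** (`n ≤ 0`) when `A` is generated over `A₀` by finitely many homogeneous
elements and `M` is generated in high degrees by finitely many homogeneous elements. -/
theorem tilde_isFiniteType (n : ℤ) (hn : n ≤ 0)
    {ι : Type*} [Fintype ι] (g : ι → A) (dg : ι → ℕ) (hg : ∀ i, g i ∈ 𝒜 (dg i))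
    (hadj : Algebra.adjoin (𝒜 0) (Set.range g) = ⊤)
    {J : Type*} [Finite J] (mm : J → M) (e : J → ℕ) (hmm : ∀ j, mm j ∈ ℳ (e j))
    (hTF : ∃ n₀ : ℕ, ∀ t : ℕ, n₀ ≤ t → ∀ m ∈ ℳ t, m ∈ Submodule.span A (Set.range mm)) :
    (GrMod.tilde 𝒜 ℳ n).IsFiniteType := by
  haveI := tilde_isQuasicoherent 𝒜 ℳ n
  refine Groth.Agent.LD.QC.isFiniteType_of_finite_sections _ fun x => ?_
  obtain ⟨f, d, hf, hd, hfx⟩ := exists_homog_notMem 𝒜 x
  exact ⟨Proj.basicOpen 𝒜 f, Proj.isAffineOpen_basicOpen 𝒜 f hf hd, (Proj.mem_basicOpen 𝒜 f x).mpr hfx,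
    finite_sections_basicOpen 𝒜 ℳ n hn hd hf g dg hg hadj mm e hmm hTF⟩

end General

section Sub

variable {R A : Type u} [CommRing R] [CommRing A] [Algebra R A] (𝒜 : ℕ → Submodule R A) [GradedAlgebra 𝒜]
variable {M : Type u} [AddCommGroup M] [Module R M] [Module A M] (ℳ : ℕ → Submodule R M)
  [DirectSum.Decomposition ℳ] [SetLike.GradedSMul 𝒜 ℳ]

/-- EGA II 2.7.3 (i): `(TF)` implies `M~` of finite type, when `S₊` is finitely generated. -/
theorem tilde_isFiniteType_of_TF (hfg : (HomogeneousIdeal.irrelevant 𝒜).toIdeal.FG) (n : ℤ) (hn : n ≤ 0)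
    (hTF : ∃ n₀ : ℕ, (Submodule.span A (⋃ k ∈ Set.Ici n₀, (ℳ k : Set M))).FG) :
    (GrMod.tilde 𝒜 ℳ n).IsFiniteType := by
  classical
  haveI : Algebra.FiniteType (𝒜 0) A := (Groth.Agent.H1.GFG.irrelevant_fg_iff_finiteType 𝒜).mp hfg
  obtain ⟨s, hs, hs'⟩ := GradedAlgebra.exists_finset_adjoin_eq_top_and_homogeneous 𝒜
  choose! dg hdg using hs'
  obtain ⟨n₀, T, hT⟩ := hTF
  let J := Σ x : T, (DirectSum.decompose ℳ (x : M)).support
  let mm : J → M := fun p => (DirectSum.decompose ℳ (p.1 : M) p.2 : M)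
  refine tilde_isFiniteType 𝒜 ℳ n hn (ι := s) (fun i => (i : A)) (fun i => dg i) (fun i => hdg i i.2)
    (by
      have : (Set.range fun i : s => (i : A)) = (s : Set A) := Subtype.range_coe
      rw [this]; exact hs) mm (fun p => p.2) (fun p => (DirectSum.decompose ℳ (p.1 : M) p.2).2)
    ⟨n₀, fun t ht m hm => ?_⟩
  have h1 : m ∈ Submodule.span A (⋃ k ∈ Set.Ici n₀, (ℳ k : Set M)) :=
    Submodule.subset_span (Set.mem_biUnion (Set.mem_Ici.mpr ht) hm)
  rw [← hT] at h1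
  refine Submodule.span_le.mpr ?_ h1
  intro x hx
  rw [SetLike.mem_coe, ← DirectSum.sum_support_decompose ℳ x]
  refine Submodule.sum_mem _ fun k hk => Submodule.subset_span ⟨⟨⟨x, hx⟩, ⟨k, hk⟩⟩, rfl⟩

end Sub

end Groth.Agent.H8.ProjTilde
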