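import Mathlib

/-! # Base change of modules of fractions: abstract form

Two purely algebraic lemmas:
* `isBaseChange_of_fractions`: for `B = A ⊗_{R₀} R₁` graded, a module `P₁` of "fractions `b / g ^ k`" over `B`
  is the base change of the corresponding module `P₀` of fractions `a / f ^ k` over `A`;
* `existsUnique_semilinear_lift`: upgrading an `R₀ → R₁` base change to an `S₀ → S₁` base change when
  `S₁` is generated by `S₀` over `R₁`. -/

set_option autoImplicit false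
universe u
open TensorProduct

namespace Groth.Agent.H8.ProjTilde

theorem isBaseChange_of_fractions
    {R₀ R₁ A B : Type u} [CommRing R₀] [CommRing R₁] [Algebra R₀ R₁]
    [CommRing A] [Algebra R₀ A] (𝒜 : ℕ → Submodule R₀ A) [GradedAlgebra 𝒜]
    [CommRing B] [Algebra R₁ B] [Algebra R₀ B] [IsScalarTower R₀ R₁ B]
    (ℬ : ℕ → Submodule R₁ B) [GradedAlgebra ℬ]
    [Algebra A B] [IsScalarTower R₀ A B] [Algebra.IsPushout R₀ R₁ A B]
    (ψ : 𝒜 →+*ᵍ ℬ) (hψA : ∀ a : A, ψ a = algebraMap A B a) (f : A)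
    {P₀ P₁ : Type u} [AddCommGroup P₀] [Module R₀ P₀] [AddCommGroup P₁] [Module R₀ P₁] [Module R₁ P₁]
    [IsScalarTower R₀ R₁ P₁]
    (α : P₀ →ₗ[R₀] P₁) (deg : ℕ → ℕ)
    (jA : ℕ → A →ₗ[R₀] P₀) (jB : ℕ → B →ₗ[R₁] P₁)
    (hα : ∀ k a, α (jA k a) = jB k (ψ a))
    (hshift : ∀ m k a, jA (m + k) (f ^ m * a) = jA k a)
    (hproj : ∀ k a, jA k (GradedAlgebra.proj 𝒜 (deg k) a) = jA k a)
    (hsurjA : ∀ s : P₀, ∃ k a, jA k a = s)
    (hsurjB : ∀ s : P₁, ∃ k b, jB k b = s)
    (hker : ∀ k, jA k = 0 ∨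
      ∀ b, jB k b = 0 → ∃ m : ℕ, ψ f ^ m * GradedAlgebra.proj ℬ (deg k) b = 0) :
    IsBaseChange R₁ α := by
  classical
  let E : R₁ ⊗[R₀] A ≃ₗ[R₁] B :=
    (Algebra.IsPushout.out (R := R₀) (S := R₁) (R' := A) (S' := B)).equiv
  have hE : ∀ (r : R₁) (a : A), E (r ⊗ₜ a) = r • ψ a := fun r a => by
    rw [hψA]; exact IsBaseChange.equiv_tmul _ r a
  let L : R₁ ⊗[R₀] P₀ →ₗ[R₁] P₁ := α.liftBaseChange R₁
  have key1 : ∀ k (y : R₁ ⊗[R₀] A), L ((jA k).baseChange R₁ y) = jB k (E y) := fun k y => by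
    induction y using TensorProduct.induction_on with
    | zero => simp
    | tmul r a =>
      rw [LinearMap.baseChange_tmul, LinearMap.liftBaseChange_tmul, hE, hα, map_smul]
    | add y y' h h' => rw [map_add, map_add, h, h', map_add, map_add]
  have hjshift : ∀ m k, jA (m + k) ∘ₗ LinearMap.mulLeft R₀ (f ^ m) = jA k := fun m k => by
    ext a
    simp only [LinearMap.comp_apply, LinearMap.mulLeft_apply, hshift]
  have hjproj : ∀ k, jA k ∘ₗ GradedAlgebra.proj 𝒜 (deg k) = jA k := fun k => by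
    ext a
    simp only [LinearMap.comp_apply, hproj]
  have hshiftT : ∀ m k (y : R₁ ⊗[R₀] A),
      (jA (m + k)).baseChange R₁ ((LinearMap.mulLeft R₀ (f ^ m)).baseChange R₁ y) =
        (jA k).baseChange R₁ y := fun m k y => by
    rw [← LinearMap.comp_apply, ← LinearMap.baseChange_comp, hjshift]
  have key2 : ∀ x : R₁ ⊗[R₀] P₀, ∃ k y, x = (jA k).baseChange R₁ y := fun x => by
    induction x using TensorProduct.induction_on with
    | zero => exact ⟨0, 0, by simp⟩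
    | tmul r s =>
      obtain ⟨k, a, rfl⟩ := hsurjA s
      exact ⟨k, r ⊗ₜ a, rfl⟩
    | add x x' h h' =>
      obtain ⟨k, y, rfl⟩ := h
      obtain ⟨l, y', rfl⟩ := h'
      refine ⟨l + k, (LinearMap.mulLeft R₀ (f ^ l)).baseChange R₁ y +
        (LinearMap.mulLeft R₀ (f ^ k)).baseChange R₁ y', ?_⟩
      rw [map_add, hshiftT l k y, add_comm l k, hshiftT k l y']
  have hEproj : ∀ i (y : R₁ ⊗[R₀] A),
      E ((GradedAlgebra.proj 𝒜 i).baseChange R₁ y) = GradedAlgebra.proj ℬ i (E y) := fun i y => by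
    induction y using TensorProduct.induction_on with
    | zero => simp
    | tmul r a =>
      rw [LinearMap.baseChange_tmul, hE, hE, map_smul, GradedAlgebra.proj_apply,
        GradedAlgebra.proj_apply, GradedRingHom.map_directSumDecompose]
    | add y y' h h' => rw [map_add, map_add, h, h', map_add, map_add]
  have hEmul : ∀ m (y : R₁ ⊗[R₀] A),
      E ((LinearMap.mulLeft R₀ (f ^ m)).baseChange R₁ y) = (ψ f) ^ m * E y := fun m y => by
    induction y using TensorProduct.induction_on with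
    | zero => simp
    | tmul r a =>
      rw [LinearMap.baseChange_tmul, hE, hE, LinearMap.mulLeft_apply, map_mul, map_pow,
        mul_smul_comm]
    | add y y' h h' => rw [map_add, map_add, h, h', map_add, mul_add]
  have hL : Function.Bijective L := by
    constructor
    · rw [injective_iff_map_eq_zero]
      intro x hx
      obtain ⟨k, y, rfl⟩ := key2 x
      rw [key1] at hx
      rcases hker k with h0 | hk
      · rw [h0, LinearMap.baseChange_zero, LinearMap.zero_apply]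
      · obtain ⟨m, hm⟩ := hk (E y) hx
        set y' := (GradedAlgebra.proj 𝒜 (deg k)).baseChange R₁ y with hy'
        have h1 : (jA k).baseChange R₁ y = (jA k).baseChange R₁ y' := by
          rw [hy', ← LinearMap.comp_apply, ← LinearMap.baseChange_comp, hjproj]
        have h2 : (LinearMap.mulLeft R₀ (f ^ m)).baseChange R₁ y' = 0 := by
          apply E.injective
          rw [hEmul, hy', hEproj, hm, map_zero]
        rw [h1, ← hshiftT m k y', h2, map_zero]
    · intro z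
      obtain ⟨k, b, rfl⟩ := hsurjB z
      exact ⟨(jA k).baseChange R₁ (E.symm b), by rw [key1, E.apply_symm_apply]⟩
  exact IsBaseChange.of_equiv (LinearEquiv.ofBijective L hL) (fun x => by simp [L])

theorem existsUnique_semilinear_lift
    {R₀ R₁ S₀ S₁ : Type u} [CommRing R₀] [CommRing R₁] [Algebra R₀ R₁] [CommRing S₀] [CommRing S₁]
    (ι₀ : R₀ →+* S₀) (ι₁ : R₁ →+* S₁) (ρ : S₀ →+* S₁)
    (hι : ∀ r, ρ (ι₀ r) = ι₁ (algebraMap R₀ R₁ r))
    (hgen : ∀ Q : S₁ → Prop, Q 0 → (∀ c₀, Q (ρ c₀)) → (∀ r c, Q c → Q (ι₁ r * c)) →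
      (∀ c c', Q c → Q c' → Q (c + c')) → ∀ c, Q c)
    {P₀ P₁ : Type u} [AddCommGroup P₀] [Module S₀ P₀] [AddCommGroup P₁] [Module S₁ P₁]
    [Module R₀ P₀] [Module R₀ P₁] [Module R₁ P₁] [IsScalarTower R₀ R₁ P₁]
    (h₀ : ∀ (r : R₀) (s : P₀), r • s = ι₀ r • s) (h₁ : ∀ (r : R₁) (s : P₁), r • s = ι₁ r • s)
    (α : P₀ →ₗ[R₀] P₁) (hα : ∀ (c : S₀) (s : P₀), α (c • s) = ρ c • α s) (hbc : IsBaseChange R₁ α)
    (T : Type u) [AddCommGroup T] [Module S₁ T] (g : P₀ →+ T)
    (hg : ∀ (c : S₀) (s : P₀), g (c • s) = ρ c • g s) :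
    ∃! g' : P₁ →ₗ[S₁] T, ∀ s, g' (α s) = g s := by
  classical
  letI mT₁ : Module R₁ T := Module.compHom T ι₁
  letI mT₀ : Module R₀ T := Module.compHom T (ι₁.comp (algebraMap R₀ R₁))
  haveI twT : IsScalarTower R₀ R₁ T := ⟨fun r r' t => by
    change ι₁ (r • r') • t = ι₁ (algebraMap R₀ R₁ r) • (ι₁ r' • t)
    rw [Algebra.smul_def, map_mul, mul_smul]⟩
  have hT₁ : ∀ (r : R₁) (t : T), r • t = ι₁ r • t := fun _ _ => rfl
  have hT₀ : ∀ (r : R₀) (t : T), r • t = ι₁ (algebraMap R₀ R₁ r) • t := fun _ _ => rfl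
  let glin : P₀ →ₗ[R₀] T :=
    { toFun := g
      map_add' := map_add g
      map_smul' := fun r s => by
        rw [RingHom.id_apply, h₀, hg, hι, hT₀] }
  have hglin : ∀ s, glin s = g s := fun _ => rfl
  obtain ⟨G₀, hG₀def⟩ : ∃ G₀ : P₁ →ₗ[R₁] T, G₀ = hbc.lift glin := ⟨_, rfl⟩
  have hG₀ : ∀ s, G₀ (α s) = g s := fun s => by
    rw [hG₀def, hbc.lift_eq glin s, hglin]
  have step1 : ∀ (c₀ : S₀) (s : P₁), G₀ (ρ c₀ • s) = ρ c₀ • G₀ s := by
    intro c₀ s
    refine hbc.inductionOn s (fun s => G₀ (ρ c₀ • s) = ρ c₀ • G₀ s) ?_ ?_ ?_ ?_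
    · rw [smul_zero, map_zero, smul_zero]
    · intro s₀
      rw [← hα, hG₀, hG₀, hg]
    · intro r s ih
      calc G₀ (ρ c₀ • r • s) = G₀ (r • (ρ c₀ • s)) := by
            congr 1
            rw [h₁ r s, h₁ r (ρ c₀ • s), ← mul_smul, ← mul_smul, mul_comm]
        _ = r • G₀ (ρ c₀ • s) := map_smul G₀ r _
        _ = r • (ρ c₀ • G₀ s) := by rw [ih]
        _ = ρ c₀ • (r • G₀ s) := by
            rw [hT₁ r (ρ c₀ • G₀ s), hT₁ r (G₀ s), ← mul_smul, ← mul_smul, mul_comm]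
        _ = ρ c₀ • G₀ (r • s) := by rw [map_smul]
    · intro s s' ih ih'
      rw [smul_add, map_add, ih, ih', map_add, smul_add]
  have step2 : ∀ (c : S₁) (s : P₁), G₀ (c • s) = c • G₀ s := by
    intro c
    refine hgen (fun c => ∀ s, G₀ (c • s) = c • G₀ s) ?_ ?_ ?_ ?_ c
    · intro s; rw [zero_smul, map_zero, zero_smul]
    · exact step1
    · intro r c ih s
      rw [mul_smul, ← h₁, map_smul, ih, hT₁, ← mul_smul]
    · intro c c' ih ih' s
      rw [add_smul, map_add, ih, ih', add_smul]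
  let G : P₁ →ₗ[S₁] T :=
    { toFun := G₀
      map_add' := map_add G₀
      map_smul' := fun c s => step2 c s }
  refine ⟨G, fun s => hG₀ s, ?_⟩
  intro G' hG'
  let G'₁ : P₁ →ₗ[R₁] T :=
    { toFun := G'
      map_add' := map_add G'
      map_smul' := fun r s => by
        rw [RingHom.id_apply, h₁, map_smul, hT₁] }
  have e : G'₁ = G₀ := hbc.algHom_ext G'₁ G₀ (fun s => by
    change G' (α s) = G₀ (α s)
    rw [hG', hG₀])
  refine LinearMap.ext fun s => ?_
  change G'₁ s = G₀ s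
  rw [e]

end Groth.Agent.H8.ProjTilde
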