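import Mathlib
import Groth.Prelude.Def_GrMod3
import Groth.Agent.Lib.Helper8.ProjTilde.FinSect
import Groth.Agent.Lib.Helper8.ProjTilde.StrSheaf

/-! # Dehomogenization along a degree-one element

For `f ∈ 𝒜 1` the ring homomorphism `A → Γ(Proj 𝒜, D₊(f))`, `a ↦ a / f ^ deg a`, and, for a graded module `M`,
the semilinear surjection `M → Γ(M(n)~, D₊(f))`, `m ↦ m / f ^ (deg m - n)`, whose kernel is `(f - 1) M`. -/

set_option autoImplicit false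
universe u
open AlgebraicGeometry CategoryTheory Opposite TopologicalSpace DirectSum HomogeneousLocalization

namespace Groth.Agent.H8.ProjTilde

section ring
variable {A σ : Type u} [CommRing A] [SetLike σ A] [AddSubgroupClass σ A] (𝒜 : ℕ → σ) [GradedRing 𝒜]
variable {f : A} (hf : f ∈ 𝒜 1)

/-- `a ↦ a / f ^ e` on the degree-`e` part (`f` of degree one). -/
def dehomFun (e : ℕ) (a : 𝒜 e) : Away 𝒜 f :=
  Away.mk 𝒜 hf e (a : A) (by rw [smul_eq_mul, mul_one]; exact a.2)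

lemma dehomFun_val (e : ℕ) (a : 𝒜 e) :
    (dehomFun 𝒜 hf e a).val = Localization.mk (a : A) ⟨f ^ e, pow_mem (Submonoid.mem_powers f) e⟩ :=
  Away.val_mk 𝒜 e hf _ _

lemma dehomFun_zero (e : ℕ) : dehomFun 𝒜 hf e 0 = 0 := by
  apply HomogeneousLocalization.val_injective
  rw [dehomFun_val, HomogeneousLocalization.val_zero]
  exact Localization.mk_zero _

lemma dehomFun_add (e : ℕ) (a b : 𝒜 e) :
    dehomFun 𝒜 hf e (a + b) = dehomFun 𝒜 hf e a + dehomFun 𝒜 hf e b := by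
  apply HomogeneousLocalization.val_injective
  rw [HomogeneousLocalization.val_add, dehomFun_val, dehomFun_val, dehomFun_val, Localization.add_mk_self]
  rfl

lemma dehomFun_one :
    dehomFun 𝒜 hf 0 (GradedMonoid.GOne.one (A := fun i => ↥(𝒜 i))) = 1 := by
  apply HomogeneousLocalization.val_injective
  rw [dehomFun_val, HomogeneousLocalization.val_one, Localization.mk_eq_mk',
    IsLocalization.mk'_eq_iff_eq_mul, one_mul]
  congr 1
  exact (pow_zero f).symm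

lemma dehomFun_mul {i j : ℕ} (a : 𝒜 i) (b : 𝒜 j) :
    dehomFun 𝒜 hf (i + j) (GradedMonoid.GMul.mul (A := fun i => ↥(𝒜 i)) a b) =
      dehomFun 𝒜 hf i a * dehomFun 𝒜 hf j b := by
  apply HomogeneousLocalization.val_injective
  rw [HomogeneousLocalization.val_mul, dehomFun_val, dehomFun_val, dehomFun_val, Localization.mk_mul]
  congr 1
  exact Subtype.ext (pow_add f i j)

lemma dehomFun_self : dehomFun 𝒜 hf 1 ⟨f, hf⟩ = 1 := by
  apply HomogeneousLocalization.val_injective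
  rw [dehomFun_val, HomogeneousLocalization.val_one, Localization.mk_eq_mk',
    IsLocalization.mk'_eq_iff_eq_mul, one_mul]
  congr 1
  exact (pow_one f).symm

/-- `dehomFun` as an additive map. -/
def dehomDeg (e : ℕ) : 𝒜 e →+ Away 𝒜 f where
  toFun := dehomFun 𝒜 hf e
  map_zero' := dehomFun_zero 𝒜 hf e
  map_add' := dehomFun_add 𝒜 hf e

/-- the dehomogenization ring homomorphism `A → A_(f)`, `a ↦ a / f ^ deg a`. -/
def dehomAway : A →+* Away 𝒜 f :=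
  (DirectSum.toSemiring (fun e => dehomDeg 𝒜 hf e) (dehomFun_one 𝒜 hf)
    (fun {i j} a b => dehomFun_mul 𝒜 hf a b)).comp (DirectSum.decomposeRingEquiv 𝒜).toRingHom

lemma dehomAway_of_mem {e : ℕ} {a : A} (ha : a ∈ 𝒜 e) :
    dehomAway 𝒜 hf a = dehomFun 𝒜 hf e ⟨a, ha⟩ := by
  have h1 : (DirectSum.decomposeRingEquiv 𝒜).toRingHom a = DirectSum.of (fun i => ↥(𝒜 i)) e ⟨a, ha⟩ :=
    DirectSum.decompose_of_mem 𝒜 ha
  rw [dehomAway, RingHom.comp_apply, h1, DirectSum.toSemiring_of]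
  rfl

/-- the dehomogenization ring homomorphism `A → Γ(Proj 𝒜, D₊(f))`. -/
def dehom : A →+* Γ(Proj 𝒜, Proj.basicOpen 𝒜 f) :=
  (Proj.awayToSection 𝒜 f).hom.comp (dehomAway 𝒜 hf)

lemma dehom_apply (a : A) : dehom 𝒜 hf a = (Proj.awayToSection 𝒜 f).hom (dehomAway 𝒜 hf a) := rfl

lemma dehom_of_mem {e : ℕ} {a : A} (ha : a ∈ 𝒜 e) :
    dehom 𝒜 hf a = fracO 𝒜 hf e (show a ∈ 𝒜 (e * 1) by rwa [mul_one]) := by
  rw [dehom_apply, dehomAway_of_mem 𝒜 hf ha]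
  rfl

lemma dehom_self : dehom 𝒜 hf f = 1 := by
  rw [dehom_apply, dehomAway_of_mem 𝒜 hf hf, dehomFun_self, map_one]

lemma dehomAway_surjective : Function.Surjective (dehomAway 𝒜 hf) := by
  intro s
  obtain ⟨k, a, ha, rfl⟩ := Away.mk_surjective 𝒜 hf s
  have ha' : a ∈ 𝒜 k := by simpa [smul_eq_mul] using ha
  refine ⟨a, ?_⟩
  rw [dehomAway_of_mem 𝒜 hf ha']
  rfl

lemma dehom_surjective : Function.Surjective (dehom 𝒜 hf) := by
  have hiso : IsIso (Proj.awayToSection 𝒜 f) := by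
    have : (Proj.basicOpenIsoAway 𝒜 f hf Nat.one_pos).hom = Proj.awayToSection 𝒜 f := rfl
    rw [← this]; infer_instance
  have hsurj : Function.Surjective (Proj.awayToSection 𝒜 f).hom :=
    (ConcreteCategory.bijective_of_isIso (Proj.awayToSection 𝒜 f)).2
  intro r
  obtain ⟨s, rfl⟩ := hsurj r
  obtain ⟨a, rfl⟩ := dehomAway_surjective 𝒜 hf s
  exact ⟨a, rfl⟩

end ring

section kernel
variable {A : Type u} [CommRing A] (M : Type u) [AddCommGroup M] [Module A M]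

/-- the submodule `(f - 1) M`. -/
def dehomKer (f : A) : Submodule A M := LinearMap.range (LinearMap.lsmul A M (f - 1))

variable {M}

lemma mem_dehomKer {f : A} {x : M} : x ∈ dehomKer M f ↔ ∃ y : M, (f - 1) • y = x := Iff.rfl

lemma sub_pow_smul_mem (f : A) (m : M) (k : ℕ) : m - f ^ k • m ∈ dehomKer M f := by
  induction k with
  | zero => rw [pow_zero, one_smul, sub_self]; exact Submodule.zero_mem _
  | succ k ih =>
    have e : m - f ^ (k + 1) • m = (m - f ^ k • m) + (f - 1) • (-(f ^ k • m)) := by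
      rw [pow_succ', mul_smul, sub_smul, one_smul, smul_neg]
      abel
    rw [e]
    exact Submodule.add_mem _ ih (mem_dehomKer.mpr ⟨_, rfl⟩)

end kernel

section module
variable {A σ : Type u} [CommRing A] [SetLike σ A] [AddSubgroupClass σ A] (𝒜 : ℕ → σ) [GradedRing 𝒜]
variable {M τ : Type u} [AddCommGroup M] [Module A M] [SetLike τ M] [AddSubgroupClass τ M] (ℳ : ℕ → τ)
variable [SetLike.GradedSMul 𝒜 ℳ]
variable (n : ℤ) {f : A} (hf : f ∈ 𝒜 1)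

lemma deg_aux (n : ℤ) (i : ℕ) :
    ((((n - (i : ℤ)).toNat * 1 + i : ℕ)) : ℤ) = ((((i : ℤ) - n).toNat : ℕ) : ℤ) * ((1 : ℕ) : ℤ) + n := by
  push_cast; omega

include hf in
lemma pow_smul_mem {i : ℕ} {m : M} (hm : m ∈ ℳ i) (e : ℕ) : f ^ e • m ∈ ℳ (e * 1 + i) :=
  SetLike.GradedSMul.smul_mem (pow_mem_graded' 𝒜 hf e) hm

/-- `m ↦ m / f ^ (i - n)` for `m` of degree `i`, totalized. -/
noncomputable def qD (i : ℕ) (m : M) : Γ(GrMod.tilde 𝒜 ℳ n, Proj.basicOpen 𝒜 f) :=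
  pS 𝒜 ℳ n hf ((i : ℤ) - n).toNat (f ^ (n - (i : ℤ)).toNat • m)

lemma qD_eq {i : ℕ} {m : M} (hm : m ∈ ℳ i) (k e : ℕ) (h : (i : ℤ) + e = k + n) :
    qD 𝒜 ℳ n hf i m = pS 𝒜 ℳ n hf k (f ^ e • m) := by
  obtain ⟨N, rfl, rfl⟩ : ∃ N : ℕ, k = ((i : ℤ) - n).toNat + N ∧ e = (n - (i : ℤ)).toNat + N :=
    ⟨k - ((i : ℤ) - n).toNat, by omega, by omega⟩
  rw [qD, pS_mul_pow 𝒜 ℳ n hf _ _ (deg_aux n i) (pow_smul_mem 𝒜 ℳ hf hm _) N, smul_smul, ← pow_add,
    add_comm N]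

lemma qD_zero (i : ℕ) : qD 𝒜 ℳ n hf i (0 : M) = 0 := by
  rw [qD, smul_zero, pS_zero]

lemma qD_add {i : ℕ} {m m' : M} (hm : m ∈ ℳ i) (hm' : m' ∈ ℳ i) :
    qD 𝒜 ℳ n hf i (m + m') = qD 𝒜 ℳ n hf i m + qD 𝒜 ℳ n hf i m' := by
  rw [qD, qD, qD, smul_add, pS_add 𝒜 ℳ n hf _ _ (deg_aux n i) (pow_smul_mem 𝒜 ℳ hf hm _)
    (pow_smul_mem 𝒜 ℳ hf hm' _)]

/-- `qD` as an additive map on the degree-`i` part. -/
noncomputable def qDHom (i : ℕ) : ℳ i →+ Γ(GrMod.tilde 𝒜 ℳ n, Proj.basicOpen 𝒜 f) where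
  toFun m := qD 𝒜 ℳ n hf i (m : M)
  map_zero' := qD_zero 𝒜 ℳ n hf i
  map_add' m m' := qD_add 𝒜 ℳ n hf m.2 m'.2

variable [DirectSum.Decomposition ℳ]

/-- the dehomogenization `M → Γ(M(n)~, D₊(f))`, `m ↦ m / f ^ (deg m - n)`. -/
noncomputable def dehomM : M →+ Γ(GrMod.tilde 𝒜 ℳ n, Proj.basicOpen 𝒜 f) :=
  (DirectSum.toAddMonoid (fun i => qDHom 𝒜 ℳ n hf i)).comp (DirectSum.decomposeAddEquiv ℳ).toAddMonoidHom

lemma dehomM_of_mem {i : ℕ} {m : M} (hm : m ∈ ℳ i) : dehomM 𝒜 ℳ n hf m = qD 𝒜 ℳ n hf i m := by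
  have h1 : (DirectSum.decomposeAddEquiv ℳ).toAddMonoidHom m = DirectSum.of (fun i => ↥(ℳ i)) i ⟨m, hm⟩ :=
    DirectSum.decompose_of_mem ℳ hm
  rw [dehomM, AddMonoidHom.comp_apply, h1, DirectSum.toAddMonoid_of]
  rfl

lemma dehomM_smul_homog {e i : ℕ} {a : A} (ha : a ∈ 𝒜 e) {m : M} (hm : m ∈ ℳ i) :
    dehomM 𝒜 ℳ n hf (a • m) = dehom 𝒜 hf a • dehomM 𝒜 ℳ n hf m := by
  have ham : a • m ∈ ℳ (e + i) := SetLike.GradedSMul.smul_mem ha hm
  rw [dehomM_of_mem 𝒜 ℳ n hf ham, dehomM_of_mem 𝒜 ℳ n hf hm, dehom_of_mem 𝒜 hf ha,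
    qD_eq 𝒜 ℳ n hf ham (e + ((i : ℤ) - n).toNat) (n - (i : ℤ)).toNat (by push_cast; omega), qD,
    fracO_smul_pS 𝒜 ℳ n hf e _ _ _ (deg_aux n i) (pow_smul_mem 𝒜 ℳ hf hm _), smul_comm]

/-- **the dehomogenization is semilinear over the dehomogenization of the ring**. -/
lemma dehomM_smul (a : A) (m : M) :
    dehomM 𝒜 ℳ n hf (a • m) = dehom 𝒜 hf a • dehomM 𝒜 ℳ n hf m := by
  classical
  refine DirectSum.Decomposition.inductionOn ℳ
    (motive := fun m => dehomM 𝒜 ℳ n hf (a • m) = dehom 𝒜 hf a • dehomM 𝒜 ℳ n hf m) ?_ ?_ ?_ m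
  · simp only [smul_zero, map_zero]
  · intro i mi
    refine DirectSum.Decomposition.inductionOn 𝒜
      (motive := fun a => dehomM 𝒜 ℳ n hf (a • (mi : M)) = dehom 𝒜 hf a • dehomM 𝒜 ℳ n hf (mi : M))
      ?_ ?_ ?_ a
    · simp only [zero_smul, map_zero]
    · intro e ae
      exact dehomM_smul_homog 𝒜 ℳ n hf ae.2 mi.2
    · intro a a' h h'
      rw [add_smul, map_add, h, h', map_add, add_smul]
  · intro m m' h h'
    rw [smul_add, map_add, h, h', map_add, smul_add]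

/-- every section over `D₊(f)` is the dehomogenization of a homogeneous element. -/
lemma exists_homog_dehomM_eq (s : Γ(GrMod.tilde 𝒜 ℳ n, Proj.basicOpen 𝒜 f)) :
    ∃ (i : ℕ) (m : M), m ∈ ℳ i ∧ dehomM 𝒜 ℳ n hf m = s := by
  obtain ⟨k, i, m, hm, hi, rfl⟩ := exists_eq_pS 𝒜 ℳ n hf Nat.one_pos s
  refine ⟨i, m, hm, ?_⟩
  rw [dehomM_of_mem 𝒜 ℳ n hf hm, qD_eq 𝒜 ℳ n hf hm k 0 (by push_cast at hi ⊢; omega), pow_zero, one_smul]

lemma dehomM_surjective : Function.Surjective (dehomM 𝒜 ℳ n hf) := fun s => by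
  obtain ⟨i, m, -, h⟩ := exists_homog_dehomM_eq 𝒜 ℳ n hf s
  exact ⟨m, h⟩

/-- core of the kernel computation. -/
theorem sum_mem_dehomKer (s : Finset ℕ) (xi : ℕ → M) (hxi : ∀ i ∈ s, xi i ∈ ℳ i)
    (h0 : ∑ i ∈ s, qD 𝒜 ℳ n hf i (xi i) = 0) : ∑ i ∈ s, xi i ∈ dehomKer M f := by
  obtain ⟨K, hK⟩ : ∃ K : ℕ, K = s.sup id + n.toNat := ⟨_, rfl⟩
  have hKi : ∀ i ∈ s, i ≤ K := fun i hi => by
    have := Finset.le_sup (f := id) hi
    simp only [id] at this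
    omega
  have hKn : n ≤ (K : ℤ) := by omega
  have hk0 : ((K : ℕ) : ℤ) = ((((K : ℤ) - n).toNat : ℕ) : ℤ) * ((1 : ℕ) : ℤ) + n := by push_cast; omega
  have hmem : ∀ i ∈ s, f ^ (K - i) • xi i ∈ ℳ K := by
    intro i hi
    have h := pow_smul_mem 𝒜 ℳ hf (hxi i hi) (K - i)
    have e : (K - i) * 1 + i = K := by have := hKi i hi; omega
    rwa [e] at h
  have hq : ∑ i ∈ s, qD 𝒜 ℳ n hf i (xi i) =
      pS 𝒜 ℳ n hf ((K : ℤ) - n).toNat (∑ i ∈ s, f ^ (K - i) • xi i) := by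
    rw [pS_sum 𝒜 ℳ n hf _ K hk0 s _ hmem]
    refine Finset.sum_congr rfl fun i hi => ?_
    exact qD_eq 𝒜 ℳ n hf (hxi i hi) _ (K - i) (by have := hKi i hi; omega)
  rw [hq, pS_eq 𝒜 ℳ n hf _ K hk0 (sum_mem hmem)] at h0
  obtain ⟨N, hN⟩ := (powSect_eq_zero_iff 𝒜 ℳ n Nat.one_pos hf _ (sum_mem hmem) hk0).mp h0
  have h1 : ∑ i ∈ s, xi i - ∑ i ∈ s, f ^ (K - i) • xi i ∈ dehomKer M f := by
    rw [← Finset.sum_sub_distrib]
    exact Submodule.sum_mem _ fun i _ => sub_pow_smul_mem f (xi i) (K - i)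
  have h2 : ∑ i ∈ s, f ^ (K - i) • xi i ∈ dehomKer M f := by
    have := sub_pow_smul_mem f (∑ i ∈ s, f ^ (K - i) • xi i) N
    rwa [hN, sub_zero] at this
  have := Submodule.add_mem _ h1 h2
  rwa [sub_add_cancel] at this

/-- **the kernel of the dehomogenization is `(f - 1) M`** (the inclusion needed). -/
theorem mem_dehomKer_of_dehomM_eq_zero {x : M} (hx : dehomM 𝒜 ℳ n hf x = 0) : x ∈ dehomKer M f := by
  classical
  have h0 : ∑ i ∈ (DirectSum.decompose ℳ x).support,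
      qD 𝒜 ℳ n hf i ((DirectSum.decompose ℳ x i : ℳ i) : M) = 0 := by
    refine Eq.trans ?_ hx
    conv_rhs => rw [← DirectSum.sum_support_decompose ℳ x]
    rw [map_sum]
    exact Finset.sum_congr rfl fun i _ =>
      (dehomM_of_mem 𝒜 ℳ n hf (DirectSum.decompose ℳ x i).2).symm
  have key := sum_mem_dehomKer 𝒜 ℳ n hf _ (fun i => ((DirectSum.decompose ℳ x i : ℳ i) : M))
    (fun i _ => (DirectSum.decompose ℳ x i).2) h0
  rwa [DirectSum.sum_support_decompose ℳ x] at key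

end module

end Groth.Agent.H8.ProjTilde
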