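import Mathlib
import Groth.Prelude.Def_RelProj3
import Groth.Agent.Lib.Helper8.ProjTilde.Dehom

/-! # Base change of `M(n)~` on `D₊(f)`, `deg f = 1`

For `ψ : 𝒜 → ℬ` graded, `N = M ⊗_A B` (universal property `hbc`), `f ∈ 𝒜 1`: the comap
`Γ(M(n)~, D₊(f)) → Γ(N(n)~, D₊(ψ f))` has the universal property of base change along
`Γ(Proj 𝒜, D₊(f)) → Γ(Proj ℬ, D₊(ψ f))`. -/

set_option autoImplicit false
universe u
open AlgebraicGeometry CategoryTheory Opposite TopologicalSpace DirectSum HomogeneousLocalization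
open scoped HomogeneousIdeal

namespace Groth.Agent.H8.ProjTilde

section
variable {A σ : Type u} [CommRing A] [SetLike σ A] [AddSubgroupClass σ A] {𝒜 : ℕ → σ} [GradedRing 𝒜]
variable {M τ : Type u} [AddCommGroup M] [Module A M] [SetLike τ M] [AddSubgroupClass τ M] (ℳ : ℕ → τ)
  [SetLike.GradedSMul 𝒜 ℳ] [DirectSum.Decomposition ℳ]
variable {B σ' : Type u} [CommRing B] [SetLike σ' B] [AddSubgroupClass σ' B] {ℬ : ℕ → σ'} [GradedRing ℬ]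
variable {N τ' : Type u} [AddCommGroup N] [Module B N] [SetLike τ' N] [AddSubgroupClass τ' N] (𝒩 : ℕ → τ')
  [SetLike.GradedSMul ℬ 𝒩] [DirectSum.Decomposition 𝒩]
variable (ψ : 𝒜 →+*ᵍ ℬ) (hψ : ℬ₊ ≤ (𝒜₊).map ψ) (v : M →ₛₗ[ψ.toRingHom] N)
  (hv : ∀ (i : ℕ) (m : M), m ∈ ℳ i → v m ∈ 𝒩 i)
variable (n : ℤ) {f : A} (hf : f ∈ 𝒜 1)

/-- compatibility of the dehomogenizations with `Away.map`. -/
lemma map_dehomAway (a : A) :
    Away.map ψ f (dehomAway 𝒜 hf a) = dehomAway ℬ (ψ.map_mem hf) (ψ a) := by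
  classical
  refine DirectSum.Decomposition.inductionOn 𝒜
    (motive := fun a => Away.map ψ f (dehomAway 𝒜 hf a) = dehomAway ℬ (ψ.map_mem hf) (ψ a)) ?_ ?_ ?_ a
  · simp only [map_zero]
  · intro e ae
    have hmem : ψ (ae : A) ∈ ℬ e := ψ.map_mem ae.2
    rw [dehomAway_of_mem 𝒜 hf ae.2, dehomAway_of_mem ℬ (ψ.map_mem hf) hmem, dehomFun, dehomFun,
      Away.map_mk]
  · intro a a' h h'
    simp only [map_add, h, h']

/-- compatibility of the dehomogenizations with a ring map acting as `Away.map ψ f`. -/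
lemma rho_dehom (ρ : Γ(Proj 𝒜, Proj.basicOpen 𝒜 f) →+* Γ(Proj ℬ, Proj.basicOpen ℬ (ψ f)))
    (hρ : ∀ x : Away 𝒜 f, ρ ((Proj.awayToSection 𝒜 f).hom x) =
      (Proj.awayToSection ℬ (ψ f)).hom (Away.map ψ f x)) (a : A) :
    ρ (dehom 𝒜 hf a) = dehom ℬ (ψ.map_mem hf) (ψ a) := by
  rw [dehom_apply, dehom_apply, hρ, map_dehomAway]
  rfl

/-- the comap on sections over `D₊(f)`, landing in sections over `D₊(ψ f)`. -/
noncomputable def alphaF (s : Γ(GrMod.tilde 𝒜 ℳ n, Proj.basicOpen 𝒜 f)) :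
    Γ(GrMod.tilde ℬ 𝒩 n, Proj.basicOpen ℬ (ψ f)) :=
  (GrMod.comap ψ hψ v hv n).app (Proj.basicOpen 𝒜 f) s

lemma alphaF_val (s : Γ(GrMod.tilde 𝒜 ℳ n, Proj.basicOpen 𝒜 f)) (y : Proj.basicOpen ℬ (ψ f)) :
    GrMod.val (alphaF ℳ 𝒩 ψ hψ v hv n s) y =
      GrMod.locModMap ψ hψ v y.1 (GrMod.val s ⟨ProjectiveSpectrum.comap ψ hψ y.1, y.2⟩) := rfl

lemma alphaF_pS {i k : ℕ} {m : M} (hm : m ∈ ℳ i) (hi : (i : ℤ) = (k : ℤ) * ((1 : ℕ) : ℤ) + n) :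
    alphaF ℳ 𝒩 ψ hψ v hv n (pS 𝒜 ℳ n hf k m) = pS ℬ 𝒩 n (ψ.map_mem hf) k (v m) := by
  rw [pS_eq 𝒜 ℳ n hf k i hi hm, pS_eq ℬ 𝒩 n (ψ.map_mem hf) k i hi (hv i m hm)]
  refine sect_ext ℬ 𝒩 _ _ fun y => ?_
  change GrMod.val (alphaF ℳ 𝒩 ψ hψ v hv n (powSectHom 𝒜 ℳ n hf k i hi ⟨m, hm⟩)) y =
    GrMod.val (powSectHom ℬ 𝒩 n (ψ.map_mem hf) k i hi ⟨v m, hv i m hm⟩) y
  rw [alphaF_val, powSectHom_val, powSectHom_val, GrMod.locModMap_mk]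
  congr 1
  exact Subtype.ext (map_pow ψ f k)

lemma alphaF_dehomM_of_mem {i : ℕ} {m : M} (hm : m ∈ ℳ i) :
    alphaF ℳ 𝒩 ψ hψ v hv n (dehomM 𝒜 ℳ n hf m) = dehomM ℬ 𝒩 n (ψ.map_mem hf) (v m) := by
  rw [dehomM_of_mem 𝒜 ℳ n hf hm, dehomM_of_mem ℬ 𝒩 n (ψ.map_mem hf) (hv i m hm), qD, qD,
    alphaF_pS ℳ 𝒩 ψ hψ v hv n hf (pow_smul_mem 𝒜 ℳ hf hm _) (deg_aux n i), LinearMap.map_smulₛₗ, map_pow]

include hf in
/-- **universal property of base change for the comap on `D₊(f)`, `deg f = 1`**. -/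
theorem existsUnique_lift
    (hbc : ∀ (Q : Type u) [AddCommGroup Q] [Module B Q] (w : M →ₛₗ[ψ.toRingHom] Q),
      ∃! g : N →ₗ[B] Q, ∀ m : M, g (v m) = w m)
    (ρ : Γ(Proj 𝒜, Proj.basicOpen 𝒜 f) →+* Γ(Proj ℬ, Proj.basicOpen ℬ (ψ f)))
    (hρ : ∀ x : Away 𝒜 f, ρ ((Proj.awayToSection 𝒜 f).hom x) =
      (Proj.awayToSection ℬ (ψ f)).hom (Away.map ψ f x))
    (T : Type u) [AddCommGroup T] [Module Γ(Proj ℬ, Proj.basicOpen ℬ (ψ f)) T]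
    (g : Γ(GrMod.tilde 𝒜 ℳ n, Proj.basicOpen 𝒜 f) →+ T)
    (hg : ∀ (r : Γ(Proj 𝒜, Proj.basicOpen 𝒜 f)) (s : Γ(GrMod.tilde 𝒜 ℳ n, Proj.basicOpen 𝒜 f)),
      g (r • s) = ρ r • g s) :
    ∃! g' : Γ(GrMod.tilde ℬ 𝒩 n, Proj.basicOpen ℬ (ψ f)) →ₗ[Γ(Proj ℬ, Proj.basicOpen ℬ (ψ f))] T,
      ∀ s, g' (alphaF ℳ 𝒩 ψ hψ v hv n s) = g s := by
  classical
  have hψf : ψ f ∈ ℬ 1 := ψ.map_mem hf
  letI modB : Module B T := Module.compHom T (dehom ℬ hψf)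
  have smul_def : ∀ (b : B) (t : T), b • t = dehom ℬ hψf b • t := fun _ _ => rfl
  let w : M →ₛₗ[ψ.toRingHom] T :=
    { toFun := fun m => g (dehomM 𝒜 ℳ n hf m)
      map_add' := fun m m' => by rw [map_add, map_add]
      map_smul' := fun a m => by
        show g (dehomM 𝒜 ℳ n hf (a • m)) = dehom ℬ hψf (ψ a) • g (dehomM 𝒜 ℳ n hf m)
        rw [dehomM_smul, hg, rho_dehom ψ hf ρ hρ] }
  have hw : ∀ m, w m = g (dehomM 𝒜 ℳ n hf m) := fun _ => rfl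
  obtain ⟨gt, hgt, hgt_uniq⟩ := hbc T w
  have hker : ∀ x : N, dehomM ℬ 𝒩 n hψf x = 0 → gt x = 0 := by
    intro x hx
    obtain ⟨y, rfl⟩ := mem_dehomKer.mp (mem_dehomKer_of_dehomM_eq_zero ℬ 𝒩 n hψf hx)
    rw [map_smul, smul_def, map_sub, map_one, dehom_self ℬ hψf, sub_self, zero_smul]
  have hwd : ∀ x x' : N, dehomM ℬ 𝒩 n hψf x = dehomM ℬ 𝒩 n hψf x' → gt x = gt x' := by
    intro x x' h
    have := hker (x - x') (by rw [map_sub, h, sub_self])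
    rwa [map_sub, sub_eq_zero] at this
  have hsurjN := dehomM_surjective ℬ 𝒩 n hψf
  have hsurjπ := dehom_surjective ℬ hψf
  let g'fun : Γ(GrMod.tilde ℬ 𝒩 n, Proj.basicOpen ℬ (ψ f)) → T := fun s => gt (Classical.choose (hsurjN s))
  have hg'fun : ∀ x : N, g'fun (dehomM ℬ 𝒩 n hψf x) = gt x := fun x =>
    hwd _ _ (Classical.choose_spec (hsurjN (dehomM ℬ 𝒩 n hψf x)))
  let g' : Γ(GrMod.tilde ℬ 𝒩 n, Proj.basicOpen ℬ (ψ f)) →ₗ[Γ(Proj ℬ, Proj.basicOpen ℬ (ψ f))] T :=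
    { toFun := g'fun
      map_add' := fun s s' => by
        obtain ⟨x, rfl⟩ := hsurjN s
        obtain ⟨x', rfl⟩ := hsurjN s'
        rw [← map_add (dehomM ℬ 𝒩 n hψf) x x', hg'fun, hg'fun, hg'fun, map_add]
      map_smul' := fun c s => by
        obtain ⟨x, rfl⟩ := hsurjN s
        obtain ⟨b, rfl⟩ := hsurjπ c
        rw [RingHom.id_apply, ← dehomM_smul ℬ 𝒩 n hψf b x, hg'fun, hg'fun, map_smul]
        rfl }
  have hg'app : ∀ s, g' s = g'fun s := fun _ => rfl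
  refine ⟨g', ?_, ?_⟩
  · intro s
    obtain ⟨i, m, hm, rfl⟩ := exists_homog_dehomM_eq 𝒜 ℳ n hf s
    rw [hg'app, alphaF_dehomM_of_mem ℳ 𝒩 ψ hψ v hv n hf hm, hg'fun, hgt, hw]
  · intro g'' hg''
    let h : N →ₗ[B] T :=
      { toFun := fun x => g'' (dehomM ℬ 𝒩 n hψf x)
        map_add' := fun x x' => by rw [map_add, map_add]
        map_smul' := fun b x => by
          show g'' (dehomM ℬ 𝒩 n hψf (b • x)) = dehom ℬ hψf b • g'' (dehomM ℬ 𝒩 n hψf x)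
          rw [dehomM_smul, map_smul] }
    have hh' : ∀ x, h x = g'' (dehomM ℬ 𝒩 n hψf x) := fun _ => rfl
    have hh : ∀ m : M, h (v m) = w m := by
      intro m
      refine DirectSum.Decomposition.inductionOn ℳ (motive := fun m => h (v m) = w m) ?_ ?_ ?_ m
      · simp only [map_zero]
      · intro i mi
        rw [hh', hw, ← alphaF_dehomM_of_mem ℳ 𝒩 ψ hψ v hv n hf mi.2, hg'']
      · intro m m' e e'
        simp only [map_add, e, e']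
    have e := hgt_uniq h hh
    refine LinearMap.ext fun s => ?_
    obtain ⟨x, rfl⟩ := hsurjN s
    rw [hg'app, hg'fun, ← e, hh']

end

end Groth.Agent.H8.ProjTilde
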