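import Mathlib
import Groth.Prelude.Def_GrMod3
import Groth.Agent.Lib.Helper8.ProjTilde.FinSect

/-! # Total numerators: `a ↦ a_{kd+n} / f ^ k` as sections of `O(n)` over `D₊(f)`, `deg f = d` -/

set_option autoImplicit false
universe u
open AlgebraicGeometry CategoryTheory Opposite TopologicalSpace DirectSum HomogeneousLocalization

namespace Groth.Agent.H8.ProjTilde

/-- the degree of the numerators of the fractions `· / f ^ k` in `O(n)` (`deg f = d`). -/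
def numDeg (n : ℤ) (d k : ℕ) : ℕ := ((k : ℤ) * d + n).toNat

lemma numDeg_eq {n : ℤ} {d k : ℕ} (h : 0 ≤ (k : ℤ) * d + n) :
    ((numDeg n d k : ℕ) : ℤ) = k * d + n := Int.toNat_of_nonneg h

lemma numDeg_of_eq {n : ℤ} {d k i : ℕ} (hi : (i : ℤ) = k * d + n) : numDeg n d k = i := by
  unfold numDeg
  rw [← hi]
  exact Int.toNat_natCast i

lemma numDeg_add {n : ℤ} {d k : ℕ} (hk : 0 ≤ (k : ℤ) * d + n) (N : ℕ) :
    numDeg n d (k + N) = N * d + numDeg n d k := by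
  apply numDeg_of_eq
  push_cast
  rw [numDeg_eq hk]
  ring

section
variable {A σ : Type u} [CommRing A] [SetLike σ A] [AddSubgroupClass σ A] (𝒜 : ℕ → σ) [GradedRing 𝒜]
variable (n : ℤ) {d : ℕ} {f : A} (hf : f ∈ 𝒜 d)

lemma pS_eq_zero_of_neg (k : ℕ) (h : (k : ℤ) * d + n < 0) (a : A) : pS 𝒜 𝒜 n hf k a = 0 := by
  have hnot : ¬ HasDeg 𝒜 n d k a := by
    rintro ⟨i, hi, -⟩
    have h0 : (0 : ℤ) ≤ i := Int.natCast_nonneg i
    rw [hi] at h0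
    exact absurd h0 (not_le.mpr h)
  rw [pS, dif_neg hnot]

/-- `a ↦ a_{kd+n} / f ^ k`. -/
noncomputable def pSp (k : ℕ) (a : A) : Γ(GrMod.tilde 𝒜 𝒜 n, Proj.basicOpen 𝒜 f) :=
  pS 𝒜 𝒜 n hf k (DirectSum.decompose 𝒜 a (numDeg n d k) : A)

lemma pSp_def (k : ℕ) (a : A) :
    pSp 𝒜 n hf k a = pS 𝒜 𝒜 n hf k (DirectSum.decompose 𝒜 a (numDeg n d k) : A) := rfl

lemma pSp_eq_zero_of_neg (k : ℕ) (h : (k : ℤ) * d + n < 0) (a : A) : pSp 𝒜 n hf k a = 0 :=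
  pS_eq_zero_of_neg 𝒜 n hf k h _

lemma pSp_zero (k : ℕ) : pSp 𝒜 n hf k 0 = 0 := by
  rw [pSp_def, DirectSum.decompose_zero, DirectSum.zero_apply, ZeroMemClass.coe_zero, pS_zero]

lemma pSp_add (k : ℕ) (a a' : A) :
    pSp 𝒜 n hf k (a + a') = pSp 𝒜 n hf k a + pSp 𝒜 n hf k a' := by
  by_cases h : 0 ≤ (k : ℤ) * d + n
  · rw [pSp_def, pSp_def, pSp_def, DirectSum.decompose_add, DirectSum.add_apply, AddMemClass.coe_add]
    exact pS_add 𝒜 𝒜 n hf k (numDeg n d k) (numDeg_eq h) (SetLike.coe_mem _) (SetLike.coe_mem _)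
  · have h' := not_le.mp h
    rw [pSp_eq_zero_of_neg 𝒜 n hf k h', pSp_eq_zero_of_neg 𝒜 n hf k h',
      pSp_eq_zero_of_neg 𝒜 n hf k h', add_zero]

lemma pSp_of_mem (k : ℕ) {i : ℕ} {a : A} (ha : a ∈ 𝒜 i) (hi : (i : ℤ) = k * d + n) :
    pSp 𝒜 n hf k a = pS 𝒜 𝒜 n hf k a := by
  rw [pSp_def, numDeg_of_eq hi, DirectSum.decompose_of_mem_same 𝒜 ha]

lemma pSp_proj (k : ℕ) (a : A) :
    pSp 𝒜 n hf k (DirectSum.decompose 𝒜 a (numDeg n d k) : A) = pSp 𝒜 n hf k a := by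
  have h := DirectSum.decompose_of_mem_same 𝒜
    (SetLike.coe_mem (DirectSum.decompose 𝒜 a (numDeg n d k)))
  show pS 𝒜 𝒜 n hf k (DirectSum.decompose 𝒜
      (DirectSum.decompose 𝒜 a (numDeg n d k) : A) (numDeg n d k) : A) =
    pS 𝒜 𝒜 n hf k (DirectSum.decompose 𝒜 a (numDeg n d k) : A)
  rw [h]

lemma pSp_pow_mul (N k : ℕ) (a : A) :
    pSp 𝒜 n hf (N + k) (f ^ N * a) = pSp 𝒜 n hf k a := by
  rw [Nat.add_comm N k]
  have hfN : f ^ N ∈ 𝒜 (N * d) := pow_mem_graded' 𝒜 hf N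
  by_cases hk : 0 ≤ (k : ℤ) * d + n
  · have e : (DirectSum.decompose 𝒜 (f ^ N * a) (numDeg n d (k + N)) : A) =
        f ^ N * (DirectSum.decompose 𝒜 a (numDeg n d k) : A) := by
      rw [numDeg_add hk N]
      exact DirectSum.coe_decompose_mul_add_of_left_mem 𝒜 hfN
    rw [pSp_def, pSp_def, e]
    exact (pS_mul_pow 𝒜 𝒜 n hf k (numDeg n d k) (numDeg_eq hk) (SetLike.coe_mem _) N).symm
  · have hk' : (k : ℤ) * d + n < 0 := not_le.mp hk
    rw [pSp_eq_zero_of_neg 𝒜 n hf k hk']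
    by_cases hkN : 0 ≤ ((k + N : ℕ) : ℤ) * d + n
    · have hlt : numDeg n d (k + N) < N * d := by
        have h1 := numDeg_eq hkN
        have h2 : ((k + N : ℕ) : ℤ) * d + n = ((k : ℤ) * d + n) + ((N * d : ℕ) : ℤ) := by
          push_cast; ring
        have h3 : ((numDeg n d (k + N) : ℕ) : ℤ) < ((N * d : ℕ) : ℤ) := by
          rw [h1, h2]; linarith
        exact_mod_cast h3
      rw [pSp_def, DirectSum.coe_decompose_mul_of_left_mem_of_not_le 𝒜 hfN (not_le.mpr hlt), pS_zero]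
    · exact pSp_eq_zero_of_neg 𝒜 n hf (k + N) (not_le.mp hkN) _

lemma fracO_smul_pSp {a₀ : A} (ha : a₀ ∈ 𝒜 (0 * d)) (k : ℕ) (a : A) :
    fracO 𝒜 hf 0 ha • pSp 𝒜 n hf k a = pSp 𝒜 n hf k (a₀ * a) := by
  have ha0 : a₀ ∈ 𝒜 0 := by rwa [Nat.zero_mul] at ha
  by_cases h : 0 ≤ (k : ℤ) * d + n
  · have e : (DirectSum.decompose 𝒜 (a₀ * a) (numDeg n d k) : A) =
        a₀ * (DirectSum.decompose 𝒜 a (numDeg n d k) : A) :=
      DirectSum.coe_decompose_mul_of_left_mem_zero 𝒜 ha0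
    have key := fracO_smul_pS 𝒜 𝒜 n hf 0 ha k (numDeg n d k) (numDeg_eq h)
      (SetLike.coe_mem (DirectSum.decompose 𝒜 a (numDeg n d k)))
    rw [zero_add] at key
    rw [pSp_def, pSp_def, e]
    exact key
  · have h' := not_le.mp h
    rw [pSp_eq_zero_of_neg 𝒜 n hf k h', pSp_eq_zero_of_neg 𝒜 n hf k h', smul_zero]

lemma exists_pSp (hd : 0 < d) (s : Γ(GrMod.tilde 𝒜 𝒜 n, Proj.basicOpen 𝒜 f)) :
    ∃ (k : ℕ) (a : A), pSp 𝒜 n hf k a = s := by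
  obtain ⟨k, i, m, hm, hi, rfl⟩ := exists_eq_pS 𝒜 𝒜 n hf hd s
  exact ⟨k, m, pSp_of_mem 𝒜 n hf k hm hi⟩

lemma pSp_eq_zero (hd : 0 < d) (k : ℕ) (hk : 0 ≤ (k : ℤ) * d + n) (a : A)
    (h : pSp 𝒜 n hf k a = 0) :
    ∃ N : ℕ, f ^ N * (DirectSum.decompose 𝒜 a (numDeg n d k) : A) = 0 := by
  rw [pSp_def, pS_eq 𝒜 𝒜 n hf k (numDeg n d k) (numDeg_eq hk)
    (SetLike.coe_mem (DirectSum.decompose 𝒜 a (numDeg n d k)))] at h
  exact (powSect_eq_zero_iff 𝒜 𝒜 n hd hf k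
    (SetLike.coe_mem (DirectSum.decompose 𝒜 a (numDeg n d k))) (numDeg_eq hk)).mp h

/-- every point of `Proj 𝒜` lies in some `D₊(f)`, `f` homogeneous of positive degree. -/
theorem exists_pos_mem_basicOpen (x : ProjectiveSpectrum 𝒜) :
    ∃ (d : ℕ) (f : A), 0 < d ∧ f ∈ 𝒜 d ∧ x ∈ ProjectiveSpectrum.basicOpen 𝒜 f := by
  classical
  by_contra hcon
  push Not at hcon
  apply x.not_irrelevant_le
  change (HomogeneousIdeal.irrelevant 𝒜).toIdeal ≤ x.asHomogeneousIdeal.toIdeal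
  intro a ha
  rw [← DirectSum.sum_support_decompose 𝒜 a]
  refine Ideal.sum_mem _ fun i _ => ?_
  by_cases hi : i = 0
  · subst hi
    have h0 : (DirectSum.decompose 𝒜 a 0 : A) = 0 := by
      have := (HomogeneousIdeal.mem_irrelevant_iff 𝒜 a).mp ha
      simpa [GradedRing.proj_apply] using this
    rw [h0]; exact zero_mem _
  · by_contra hmem
    exact hcon i _ (Nat.pos_of_ne_zero hi) (SetLike.coe_mem _) hmem

end

end Groth.Agent.H8.ProjTilde
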