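import Mathlib
import Groth.Prelude.Def_RelProj3
import Groth.Agent.Lib.Helper8.ProjTilde.PSp
import Groth.Agent.Lib.Helper8.ProjTilde.BCAbs
import Groth.Agent.Lib.Helper8.ProjTilde.DehomBC
import Groth.Agent.Lib.Helper1.ProjBC

/-! # Base change of `O(n)` on `D₊(f)`, `f` of arbitrary positive degree

For `ℬ = 𝒜 ⊗_{R₀} R₁` (an `Algebra.IsPushout`), `f ∈ 𝒜 d`, `0 < d`: the comap
`Γ(O_𝒜(n), D₊(f)) → Γ(O_ℬ(n), D₊(ψ f))` has the universal property of base change along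
`Γ(Proj 𝒜, D₊(f)) → Γ(Proj ℬ, D₊(ψ f))`. -/

set_option autoImplicit false
set_option linter.style.haveILetI false
set_option linter.unusedSectionVars false
universe u
open AlgebraicGeometry CategoryTheory Opposite TopologicalSpace DirectSum HomogeneousLocalization
open scoped HomogeneousIdeal

namespace Groth.Agent.H8.ProjTilde

open Groth.Agent.H1.ProjBC (rho val_rho num num_add num_smul exists_num map_rho)

section slOf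
variable {A σ : Type u} [CommRing A] [SetLike σ A] [AddSubgroupClass σ A] {𝒜 : ℕ → σ} [GradedRing 𝒜]
variable {B σ' : Type u} [CommRing B] [SetLike σ' B] [AddSubgroupClass σ' B] {ℬ : ℕ → σ'} [GradedRing ℬ]

/-- a graded ring homomorphism as a semilinear map. -/
def slOf (ψ : 𝒜 →+*ᵍ ℬ) : A →ₛₗ[ψ.toRingHom] B where
  toFun := ψ
  map_add' := map_add ψ
  map_smul' a x := by
    change ψ (a * x) = ψ a * ψ x
    exact map_mul ψ a x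

@[simp] lemma slOf_apply (ψ : 𝒜 →+*ᵍ ℬ) (a : A) : slOf ψ a = ψ a := rfl

lemma slOf_mem (ψ : 𝒜 →+*ᵍ ℬ) (i : ℕ) (a : A) (ha : a ∈ 𝒜 i) : slOf ψ a ∈ ℬ i := ψ.map_mem ha

end slOf

section gen
variable {A σ : Type u} [CommRing A] [SetLike σ A] [AddSubgroupClass σ A] {𝒜 : ℕ → σ} [GradedRing 𝒜]
variable {M τ : Type u} [AddCommGroup M] [Module A M] [SetLike τ M] [AddSubgroupClass τ M] (ℳ : ℕ → τ)
  [SetLike.GradedSMul 𝒜 ℳ] [DirectSum.Decomposition ℳ]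
variable {B σ' : Type u} [CommRing B] [SetLike σ' B] [AddSubgroupClass σ' B] {ℬ : ℕ → σ'} [GradedRing ℬ]
variable {N τ' : Type u} [AddCommGroup N] [Module B N] [SetLike τ' N] [AddSubgroupClass τ' N] (𝒩 : ℕ → τ')
  [SetLike.GradedSMul ℬ 𝒩] [DirectSum.Decomposition 𝒩]
variable (ψ : 𝒜 →+*ᵍ ℬ) (hψ : ℬ₊ ≤ (𝒜₊).map ψ) (v : M →ₛₗ[ψ.toRingHom] N)
  (hv : ∀ (i : ℕ) (m : M), m ∈ ℳ i → v m ∈ 𝒩 i)
variable (n : ℤ) {d : ℕ} {f : A} (hf : f ∈ 𝒜 d)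

/-- the comap on the sections `m / f ^ k`, `f` of arbitrary degree. -/
lemma alphaF_pS_gen {i k : ℕ} {m : M} (hm : m ∈ ℳ i) (hi : (i : ℤ) = (k : ℤ) * (d : ℤ) + n) :
    alphaF ℳ 𝒩 ψ hψ v hv n (pS 𝒜 ℳ n hf k m) = pS ℬ 𝒩 n (ψ.map_mem hf) k (v m) := by
  rw [pS_eq 𝒜 ℳ n hf k i hi hm, pS_eq ℬ 𝒩 n (ψ.map_mem hf) k i hi (hv i m hm)]
  refine sect_ext ℬ 𝒩 _ _ fun y => ?_
  change GrMod.val (alphaF ℳ 𝒩 ψ hψ v hv n (powSectHom 𝒜 ℳ n hf k i hi ⟨m, hm⟩)) y =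
    GrMod.val (powSectHom ℬ 𝒩 n (ψ.map_mem hf) k i hi ⟨v m, hv i m hm⟩) y
  rw [alphaF_val, powSectHom_val, powSectHom_val, GrMod.locModMap_mk]
  congr 1
  exact Subtype.ext (map_pow ψ f k)

end gen

section ring
variable {A σ : Type u} [CommRing A] [SetLike σ A] [AddSubgroupClass σ A] (𝒜 : ℕ → σ) [GradedRing 𝒜]
variable {B σ' : Type u} [CommRing B] [SetLike σ' B] [AddSubgroupClass σ' B] (ℬ : ℕ → σ') [GradedRing ℬ]
variable (ψ : 𝒜 →+*ᵍ ℬ) (hψ : ℬ₊ ≤ (𝒜₊).map ψ)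
variable (n : ℤ) {d : ℕ} {f : A} (hf : f ∈ 𝒜 d)

/-- the comap on the total numerators. -/
lemma alphaF_pSp (k : ℕ) (a : A) :
    alphaF 𝒜 ℬ ψ hψ (slOf ψ) (slOf_mem ψ) n (pSp 𝒜 n hf k a) =
      pSp ℬ n (ψ.map_mem hf) k (ψ a) := by
  by_cases h : 0 ≤ (k : ℤ) * d + n
  · rw [pSp_def, pSp_def, alphaF_pS_gen 𝒜 ℬ ψ hψ (slOf ψ) (slOf_mem ψ) n hf
      (SetLike.coe_mem (DirectSum.decompose 𝒜 a (numDeg n d k))) (numDeg_eq h)]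
    congr 1
    exact GradedRingHom.map_directSumDecompose (𝒜 := 𝒜) (ℬ := ℬ) ψ
  · have h' := not_le.mp h
    rw [pSp_eq_zero_of_neg 𝒜 n hf k h', pSp_eq_zero_of_neg ℬ n (ψ.map_mem hf) k h']
    exact map_zero ((GrMod.comap ψ hψ (slOf ψ) (slOf_mem ψ) n).app (Proj.basicOpen 𝒜 f)).hom

end ring

section Single
variable {R₀ C : Type u} [CommRing R₀] [CommRing C] [Algebra R₀ C]
  (𝒞 : ℕ → Submodule R₀ C) [GradedAlgebra 𝒞]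

/-- the structure homomorphism `R₀ → Γ(Proj 𝒞, D₊(g))`. -/
noncomputable def rhoΓ (g : C) : R₀ →+* Γ(Proj 𝒞, Proj.basicOpen 𝒞 g) :=
  (Proj.awayToSection 𝒞 g).hom.comp (rho 𝒞 g)

lemma rhoΓ_apply (g : C) (r : R₀) :
    rhoΓ 𝒞 g r = (Proj.awayToSection 𝒞 g).hom (rho 𝒞 g r) := rfl

lemma algebraMap_mem_zero_mul (d : ℕ) (r : R₀) : algebraMap R₀ C r ∈ 𝒞 (0 * d) := by
  rw [Nat.zero_mul]; exact SetLike.algebraMap_mem_graded 𝒞 r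

variable (n : ℤ) {d : ℕ} {g : C} (hg : g ∈ 𝒞 d)

lemma rhoΓ_eq_fracO (r : R₀) :
    rhoΓ 𝒞 g r = fracO 𝒞 hg 0 (algebraMap_mem_zero_mul 𝒞 d r) := by
  rw [rhoΓ_apply, fracO]
  congr 1
  apply HomogeneousLocalization.val_injective
  rw [val_rho, Away.val_mk]
  congr 1
  exact Subtype.ext (pow_zero g).symm

lemma pSp_algebra_smul (k : ℕ) (r : R₀) (c : C) :
    pSp 𝒞 n hg k (r • c) = rhoΓ 𝒞 g r • pSp 𝒞 n hg k c := by
  rw [rhoΓ_eq_fracO 𝒞 hg, fracO_smul_pSp, Algebra.smul_def]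

end Single

section MapNum
variable {R₀ R₁ A B : Type u} [CommRing R₀] [CommRing R₁]
  [CommRing A] [Algebra R₀ A] (𝒜 : ℕ → Submodule R₀ A) [GradedAlgebra 𝒜]
  [CommRing B] [Algebra R₁ B] (ℬ : ℕ → Submodule R₁ B) [GradedAlgebra ℬ]

lemma map_num (ψ : 𝒜 →+*ᵍ ℬ) {d : ℕ} {f : A} (hf : f ∈ 𝒜 d) (j : ℕ) (a : A) :
    Away.map ψ f (num hf j a) = num (ψ.map_mem hf) j (ψ a) := by
  change Away.map ψ f (Away.mk 𝒜 hf j _ _) = Away.mk ℬ (ψ.map_mem hf) j _ _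
  rw [Away.map_mk]
  congr 1
  exact GradedRingHom.map_directSumDecompose (𝒜 := 𝒜) (ℬ := ℬ) ψ

end MapNum

section BC
variable {R₀ R₁ A B : Type u} [CommRing R₀] [CommRing R₁] [Algebra R₀ R₁]
  [CommRing A] [Algebra R₀ A] (𝒜 : ℕ → Submodule R₀ A) [GradedAlgebra 𝒜]
  [CommRing B] [Algebra R₁ B] [Algebra R₀ B] [IsScalarTower R₀ R₁ B]
  (ℬ : ℕ → Submodule R₁ B) [GradedAlgebra ℬ]

variable [Algebra A B] [IsScalarTower R₀ A B] [Algebra.IsPushout R₀ R₁ A B]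

/-- **universal property of base change for the comap on `D₊(f)`**, `f` of arbitrary positive degree,
`ℬ = 𝒜 ⊗_{R₀} R₁`. -/
theorem existsUnique_lift_bc
    (ψ : 𝒜 →+*ᵍ ℬ) (hψA : ∀ a : A, ψ a = algebraMap A B a) (hψ : ℬ₊ ≤ (𝒜₊).map ψ) (n : ℤ)
    {d : ℕ} {f : A} (hd : 0 < d) (hf : f ∈ 𝒜 d)
    (ρ : Γ(Proj 𝒜, Proj.basicOpen 𝒜 f) →+* Γ(Proj ℬ, Proj.basicOpen ℬ (ψ f)))
    (hρ : ∀ x : Away 𝒜 f, ρ ((Proj.awayToSection 𝒜 f).hom x) =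
      (Proj.awayToSection ℬ (ψ f)).hom (Away.map ψ f x))
    (hαρ : ∀ (c : Γ(Proj 𝒜, Proj.basicOpen 𝒜 f))
      (s : Γ(GrMod.tilde 𝒜 𝒜 n, Proj.basicOpen 𝒜 f)),
      alphaF 𝒜 ℬ ψ hψ (slOf ψ) (slOf_mem ψ) n (c • s) =
        ρ c • alphaF 𝒜 ℬ ψ hψ (slOf ψ) (slOf_mem ψ) n s)
    (T : Type u) [AddCommGroup T] [Module Γ(Proj ℬ, Proj.basicOpen ℬ (ψ f)) T]
    (g : Γ(GrMod.tilde 𝒜 𝒜 n, Proj.basicOpen 𝒜 f) →+ T)
    (hg : ∀ (r : Γ(Proj 𝒜, Proj.basicOpen 𝒜 f)) (s : Γ(GrMod.tilde 𝒜 𝒜 n, Proj.basicOpen 𝒜 f)),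
      g (r • s) = ρ r • g s) :
    ∃! g' : Γ(GrMod.tilde ℬ ℬ n, Proj.basicOpen ℬ (ψ f)) →ₗ[Γ(Proj ℬ, Proj.basicOpen ℬ (ψ f))] T,
      ∀ s, g' (alphaF 𝒜 ℬ ψ hψ (slOf ψ) (slOf_mem ψ) n s) = g s := by
  classical
  have hg' : ψ f ∈ ℬ d := ψ.map_mem hf
  have hι : ∀ r : R₀, ρ (rhoΓ 𝒜 f r) = rhoΓ ℬ (ψ f) (algebraMap R₀ R₁ r) := fun r => by
    rw [rhoΓ_apply, rhoΓ_apply, hρ, map_rho 𝒜 ℬ ψ hψA f r]
  letI m₀ : Module R₀ Γ(GrMod.tilde 𝒜 𝒜 n, Proj.basicOpen 𝒜 f) := Module.compHom _ (rhoΓ 𝒜 f)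
  letI m₁ : Module R₁ Γ(GrMod.tilde ℬ ℬ n, Proj.basicOpen ℬ (ψ f)) :=
    Module.compHom _ (rhoΓ ℬ (ψ f))
  letI m₀₁ : Module R₀ Γ(GrMod.tilde ℬ ℬ n, Proj.basicOpen ℬ (ψ f)) :=
    Module.compHom _ ((rhoΓ ℬ (ψ f)).comp (algebraMap R₀ R₁))
  haveI tw : IsScalarTower R₀ R₁ Γ(GrMod.tilde ℬ ℬ n, Proj.basicOpen ℬ (ψ f)) :=
    ⟨fun r r' s => by
      change rhoΓ ℬ (ψ f) (r • r') • s =
        rhoΓ ℬ (ψ f) (algebraMap R₀ R₁ r) • (rhoΓ ℬ (ψ f) r' • s)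
      rw [Algebra.smul_def, map_mul, mul_smul]⟩
  let α : Γ(GrMod.tilde 𝒜 𝒜 n, Proj.basicOpen 𝒜 f) →ₗ[R₀]
      Γ(GrMod.tilde ℬ ℬ n, Proj.basicOpen ℬ (ψ f)) :=
    { toFun := alphaF 𝒜 ℬ ψ hψ (slOf ψ) (slOf_mem ψ) n
      map_add' := fun s s' =>
        map_add ((GrMod.comap ψ hψ (slOf ψ) (slOf_mem ψ) n).app (Proj.basicOpen 𝒜 f)).hom s s'
      map_smul' := fun r s => by
        change alphaF 𝒜 ℬ ψ hψ (slOf ψ) (slOf_mem ψ) n (rhoΓ 𝒜 f r • s) =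
          rhoΓ ℬ (ψ f) (algebraMap R₀ R₁ r) • alphaF 𝒜 ℬ ψ hψ (slOf ψ) (slOf_mem ψ) n s
        rw [hαρ, hι] }
  have hαapp : ∀ s, α s = alphaF 𝒜 ℬ ψ hψ (slOf ψ) (slOf_mem ψ) n s := fun _ => rfl
  let jA : ℕ → A →ₗ[R₀] Γ(GrMod.tilde 𝒜 𝒜 n, Proj.basicOpen 𝒜 f) := fun k =>
    { toFun := pSp 𝒜 n hf k
      map_add' := pSp_add 𝒜 n hf k
      map_smul' := fun r a => pSp_algebra_smul 𝒜 n hf k r a }
  let jB : ℕ → B →ₗ[R₁] Γ(GrMod.tilde ℬ ℬ n, Proj.basicOpen ℬ (ψ f)) := fun k =>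
    { toFun := pSp ℬ n hg' k
      map_add' := pSp_add ℬ n hg' k
      map_smul' := fun r b => pSp_algebra_smul ℬ n hg' k r b }
  have hjA : ∀ k a, jA k a = pSp 𝒜 n hf k a := fun _ _ => rfl
  have hjB : ∀ k b, jB k b = pSp ℬ n hg' k b := fun _ _ => rfl
  have hbc : IsBaseChange R₁ α := by
    refine isBaseChange_of_fractions 𝒜 ℬ ψ hψA f α (numDeg n d) jA jB ?_ ?_ ?_ ?_ ?_ ?_
    · intro k a
      rw [hjA, hjB, hαapp]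
      exact alphaF_pSp 𝒜 ℬ ψ hψ n hf k a
    · intro m k a
      rw [hjA, hjA]
      exact pSp_pow_mul 𝒜 n hf m k a
    · intro k a
      rw [hjA, hjA, GradedAlgebra.proj_apply]
      exact pSp_proj 𝒜 n hf k a
    · intro s
      obtain ⟨k, a, h⟩ := exists_pSp 𝒜 n hf hd s
      exact ⟨k, a, h⟩
    · intro s
      obtain ⟨k, b, h⟩ := exists_pSp ℬ n hg' hd s
      exact ⟨k, b, h⟩
    · intro k
      by_cases hk : 0 ≤ (k : ℤ) * d + n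
      · right
        intro b hb
        rw [GradedAlgebra.proj_apply]
        exact pSp_eq_zero ℬ n hg' hd k hk b hb
      · left
        exact LinearMap.ext fun a => pSp_eq_zero_of_neg 𝒜 n hf k (not_le.mp hk) a
  -- `Γ(Proj ℬ, D₊(ψ f))` is generated over `R₁` by the image of `Γ(Proj 𝒜, D₊(f))`
  have hiso : IsIso (Proj.awayToSection ℬ (ψ f)) := by
    have : (Proj.basicOpenIsoAway ℬ (ψ f) hg' hd).hom = Proj.awayToSection ℬ (ψ f) := rfl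
    rw [← this]; infer_instance
  have hsurjσ : Function.Surjective (Proj.awayToSection ℬ (ψ f)).hom :=
    (ConcreteCategory.bijective_of_isIso (Proj.awayToSection ℬ (ψ f))).2
  have hgen : ∀ Q : Γ(Proj ℬ, Proj.basicOpen ℬ (ψ f)) → Prop, Q 0 → (∀ c₀, Q (ρ c₀)) →
      (∀ r c, Q c → Q (rhoΓ ℬ (ψ f) r * c)) → (∀ c c', Q c → Q c' → Q (c + c')) → ∀ c, Q c := by
    intro Q h0 hρQ hsm hadd c
    obtain ⟨x, rfl⟩ := hsurjσ c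
    obtain ⟨j, b, -, rfl⟩ := exists_num hg' x
    have hA : IsBaseChange R₁ (IsScalarTower.toAlgHom R₀ A B).toLinearMap := Algebra.IsPushout.out
    refine hA.inductionOn b (fun b => Q ((Proj.awayToSection ℬ (ψ f)).hom (num hg' j b))) ?_ ?_ ?_ ?_
    · have h00 : num hg' j (0 : B) = 0 := by
        have h := num_smul hg' j (0 : R₁) (0 : B)
        rwa [zero_smul, map_zero, zero_mul] at h
      rw [h00, map_zero]
      exact h0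
    · intro a
      show Q ((Proj.awayToSection ℬ (ψ f)).hom (num hg' j (algebraMap A B a)))
      rw [← hψA a, ← map_num 𝒜 ℬ ψ hf j a, ← hρ]
      exact hρQ _
    · intro r b ih
      rw [num_smul, map_mul]
      exact hsm r _ ih
    · intro b b' ih ih'
      rw [num_add, map_add]
      exact hadd _ _ ih ih'
  exact existsUnique_semilinear_lift (rhoΓ 𝒜 f) (rhoΓ ℬ (ψ f)) ρ hι hgen (fun _ _ => rfl)
    (fun _ _ => rfl) α hαρ hbc T g hg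

end BC

end Groth.Agent.H8.ProjTilde
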