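import Groth.Agent.Lib.Helper8.ProjTilde.DehomBC
import Groth.Agent.Lib.Helper8.ProjTilde.Comap
import Groth.Agent.Lib.Helper8.GTW.MulTensor
import Groth.Agent.Lib.Lead.QC.Counit
import Groth.Agent.Lib.Lead.QC.Coh
import Groth.Agent.Lib.Lead.FPExt.Glue
import Groth.Agent.Lib.Helper2.ModGlue

/-! # `Φ^*(M(n)~) ≅ (M ⊗_A B)(n)~` for `Φ : Proj ℬ → Proj 𝒜`, `𝒜₊` generated in degree one -/

set_option autoImplicit false
universe u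
open AlgebraicGeometry CategoryTheory Opposite TopologicalSpace DirectSum HomogeneousLocalization
open scoped HomogeneousIdeal

namespace Groth.Agent.H8.ProjTilde

open Groth.Agent.LD.QC

section adj
variable {X X' : Scheme.{u}} (g : X' ⟶ X) {M : X.Modules} {N : X'.Modules}

/-- the adjoint of a map `M ⟶ g_* N` on pulled back sections. -/
lemma adj_symm_app_pbSec' (θ : M ⟶ (Scheme.Modules.pushforward g).obj N) (W : X.Opens) (e : Γ(M, W)) :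
    (((Scheme.Modules.pullbackPushforwardAdjunction g).homEquiv _ _).symm θ).app (g ⁻¹ᵁ W)
      (pbSec g M le_rfl e) = θ.app W e := by
  rw [Adjunction.homEquiv_counit]
  change ((Scheme.Modules.pullbackPushforwardAdjunction g).counit.app N).app (g ⁻¹ᵁ W)
    (((Scheme.Modules.pullback g).map θ).app (g ⁻¹ᵁ W) (pbSec g M le_rfl e)) = _
  rw [pbSec_naturality, counit_pbSec]
  change N.presheaf.map (𝟙 _) _ = _
  rw [N.presheaf.map_id]; rfl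

end adj

section
variable {A σ : Type u} [CommRing A] [SetLike σ A] [AddSubgroupClass σ A] {𝒜 : ℕ → σ} [GradedRing 𝒜]
variable {M τ : Type u} [AddCommGroup M] [Module A M] [SetLike τ M] [AddSubgroupClass τ M] (ℳ : ℕ → τ)
  [SetLike.GradedSMul 𝒜 ℳ] [DirectSum.Decomposition ℳ]
variable {B σ' : Type u} [CommRing B] [SetLike σ' B] [AddSubgroupClass σ' B] {ℬ : ℕ → σ'} [GradedRing ℬ]
variable {N τ' : Type u} [AddCommGroup N] [Module B N] [SetLike τ' N] [AddSubgroupClass τ' N] (𝒩 : ℕ → τ')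
  [SetLike.GradedSMul ℬ 𝒩] [DirectSum.Decomposition 𝒩]
variable (ψ : 𝒜 →+*ᵍ ℬ) (hψ : ℬ₊ ≤ (𝒜₊).map ψ) (v : M →ₛₗ[ψ.toRingHom] N)
  (hv : ∀ (i : ℕ) (m : M), m ∈ ℳ i → v m ∈ 𝒩 i)
variable (n : ℤ) {f : A} (hf : f ∈ 𝒜 1)

include hf in
/-- the sheaf component of `Proj.map ψ` over `D₊(f)` acts as `Away.map ψ f`. -/
lemma app_awayToSection (x : Away 𝒜 f) :
    ((Proj.map ψ hψ).app (Proj.basicOpen 𝒜 f)).hom ((Proj.awayToSection 𝒜 f).hom x) =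
      (Proj.awayToSection ℬ (ψ f)).hom (Away.map ψ f x) := by
  have h := congr($(Proj.awayToSection_comp_appLE ψ hψ hf).hom x)
  refine Eq.trans ?_ h
  change _ = ((Proj ℬ).presheaf.map (𝟙 (op (Proj.basicOpen ℬ (ψ f))))).hom
    (((Proj.map ψ hψ).app (Proj.basicOpen 𝒜 f)).hom ((Proj.awayToSection 𝒜 f).hom x))
  rw [CategoryTheory.Functor.map_id]
  rfl

include hf in
/-- **universal property of base change**, stated over `Φ⁻¹ D₊(f)`. -/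
theorem existsUnique_lift'
    (hbc : ∀ (Q : Type u) [AddCommGroup Q] [Module B Q] (w : M →ₛₗ[ψ.toRingHom] Q),
      ∃! g : N →ₗ[B] Q, ∀ m : M, g (v m) = w m)
    (T : Type u) [AddCommGroup T] [Module Γ(Proj ℬ, Proj.map ψ hψ ⁻¹ᵁ Proj.basicOpen 𝒜 f) T]
    (g : Γ(GrMod.tilde 𝒜 ℳ n, Proj.basicOpen 𝒜 f) →+ T)
    (hg : ∀ (r : Γ(Proj 𝒜, Proj.basicOpen 𝒜 f)) (s : Γ(GrMod.tilde 𝒜 ℳ n, Proj.basicOpen 𝒜 f)),
      g (r • s) = ((Proj.map ψ hψ).app (Proj.basicOpen 𝒜 f)).hom r • g s) :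
    ∃! g' : Γ(GrMod.tilde ℬ 𝒩 n, Proj.map ψ hψ ⁻¹ᵁ Proj.basicOpen 𝒜 f) →ₗ[Γ(Proj ℬ,
        Proj.map ψ hψ ⁻¹ᵁ Proj.basicOpen 𝒜 f)] T,
      ∀ s, g' ((GrMod.comap ψ hψ v hv n).app (Proj.basicOpen 𝒜 f) s) = g s := by
  letI inst' : Module Γ(Proj ℬ, Proj.basicOpen ℬ (ψ f)) T :=
    ‹Module Γ(Proj ℬ, Proj.map ψ hψ ⁻¹ᵁ Proj.basicOpen 𝒜 f) T›
  exact existsUnique_lift ℳ 𝒩 ψ hψ v hv n hf hbc ((Proj.map ψ hψ).app (Proj.basicOpen 𝒜 f)).hom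
    (app_awayToSection ψ hψ hf) T g hg

include hf in
/-- the adjoint map is bijective on sections over `Φ⁻¹ D₊(f)`, `deg f = 1`. -/
theorem bijective_adjoint_app
    (hbc : ∀ (Q : Type u) [AddCommGroup Q] [Module B Q] (w : M →ₛₗ[ψ.toRingHom] Q),
      ∃! g : N →ₗ[B] Q, ∀ m : M, g (v m) = w m) :
    Function.Bijective ((((Scheme.Modules.pullbackPushforwardAdjunction (Proj.map ψ hψ)).homEquiv _ _).symm
      (GrMod.comap ψ hψ v hv n)).app (Proj.map ψ hψ ⁻¹ᵁ Proj.basicOpen 𝒜 f)) := by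
  haveI : (GrMod.tilde 𝒜 ℳ n).IsQuasicoherent := tilde_isQuasicoherent 𝒜 ℳ n
  have hV : IsAffineOpen (Proj.basicOpen 𝒜 f) := Proj.isAffineOpen_basicOpen 𝒜 f hf Nat.one_pos
  have hW : IsAffineOpen (Proj.map ψ hψ ⁻¹ᵁ Proj.basicOpen 𝒜 f) :=
    Proj.isAffineOpen_basicOpen ℬ (ψ f) (ψ.map_mem hf) Nat.one_pos
  obtain ⟨ν, hνdef⟩ : ∃ ν, ν = ((Scheme.Modules.pullbackPushforwardAdjunction (Proj.map ψ hψ)).homEquiv _ _).symm
      (GrMod.comap ψ hψ v hv n) := ⟨_, rfl⟩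
  rw [← hνdef]
  have hν : ∀ s : Γ(GrMod.tilde 𝒜 ℳ n, Proj.basicOpen 𝒜 f),
      ν.app (Proj.map ψ hψ ⁻¹ᵁ Proj.basicOpen 𝒜 f)
        (pbSec (Proj.map ψ hψ) (GrMod.tilde 𝒜 ℳ n) le_rfl s) =
        (GrMod.comap ψ hψ v hv n).app (Proj.basicOpen 𝒜 f) s := by
    intro s
    rw [hνdef]
    exact adj_symm_app_pbSec' (Proj.map ψ hψ) (GrMod.comap ψ hψ v hv n) (Proj.basicOpen 𝒜 f) s
  -- the lift of `pbSec`
  obtain ⟨g', hg', -⟩ := existsUnique_lift' ℳ 𝒩 ψ hψ v hv n hf hbc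
    Γ((Scheme.Modules.pullback (Proj.map ψ hψ)).obj (GrMod.tilde 𝒜 ℳ n),
      Proj.map ψ hψ ⁻¹ᵁ Proj.basicOpen 𝒜 f)
    (AddMonoidHom.mk' (pbSec (Proj.map ψ hψ) (GrMod.tilde 𝒜 ℳ n) le_rfl)
      (pbSec_add (Proj.map ψ hψ) (GrMod.tilde 𝒜 ℳ n) le_rfl))
    (fun r s => by
      change pbSec (Proj.map ψ hψ) (GrMod.tilde 𝒜 ℳ n) le_rfl (r • s) = _
      rw [pbSec_smul, Scheme.Hom.appLE_eq_app]
      rfl)
  have hg'' : ∀ s, g' ((GrMod.comap ψ hψ v hv n).app (Proj.basicOpen 𝒜 f) s) =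
      pbSec (Proj.map ψ hψ) (GrMod.tilde 𝒜 ℳ n) le_rfl s := hg'
  -- uniqueness for maps into `Γ(N(n)~, W)`
  obtain ⟨g₂, -, hg₂uniq⟩ := existsUnique_lift' ℳ 𝒩 ψ hψ v hv n hf hbc
    Γ(GrMod.tilde ℬ 𝒩 n, Proj.map ψ hψ ⁻¹ᵁ Proj.basicOpen 𝒜 f)
    (AddMonoidHom.mk' (fun s => (GrMod.comap ψ hψ v hv n).app (Proj.basicOpen 𝒜 f) s)
      (fun a b => map_add ((GrMod.comap ψ hψ v hv n).app (Proj.basicOpen 𝒜 f)).hom a b))
    (fun r s => Scheme.Modules.Hom.app_smul (GrMod.comap ψ hψ v hv n) r s)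
  have e1 : (appLinear ν (Proj.map ψ hψ ⁻¹ᵁ Proj.basicOpen 𝒜 f)) ∘ₗ g' = g₂ :=
    hg₂uniq _ (fun s => by
      change ν.app _ (g' ((GrMod.comap ψ hψ v hv n).app (Proj.basicOpen 𝒜 f) s)) = _
      rw [hg'', hν]
      rfl)
  have e2 : LinearMap.id = g₂ := hg₂uniq _ (fun s => rfl)
  have e3 : g' ∘ₗ (appLinear ν (Proj.map ψ hψ ⁻¹ᵁ Proj.basicOpen 𝒜 f)) = LinearMap.id := by
    refine LinearMap.ext_on (span_range_pbSec (Proj.map ψ hψ) hW hV le_rfl (GrMod.tilde 𝒜 ℳ n)) ?_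
    rintro _ ⟨s, rfl⟩
    change g' (ν.app _ (pbSec (Proj.map ψ hψ) (GrMod.tilde 𝒜 ℳ n) le_rfl s)) = _
    rw [hν, hg'']
    rfl
  refine Function.bijective_iff_has_inverse.mpr ⟨g', fun x => ?_, fun t => ?_⟩
  · exact congrArg (fun L => L x) e3
  · exact congrArg (fun L => L t) (e1.trans e2.symm)

/-- **`Φ^*(M(n)~) ⟶ N(n)~` is an isomorphism** for `N = M ⊗_A B` and `𝒜₊` generated in degree one. -/
theorem isIso_adjoint_comap (hgen : (𝒜₊).toIdeal = Ideal.span (𝒜 1 : Set A))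
    (hbc : ∀ (Q : Type u) [AddCommGroup Q] [Module B Q] (w : M →ₛₗ[ψ.toRingHom] Q),
      ∃! g : N →ₗ[B] Q, ∀ m : M, g (v m) = w m) :
    IsIso (((Scheme.Modules.pullbackPushforwardAdjunction (Proj.map ψ hψ)).homEquiv _ _).symm
      (GrMod.comap ψ hψ v hv n)) := by
  haveI qF : (GrMod.tilde 𝒜 ℳ n).IsQuasicoherent := tilde_isQuasicoherent 𝒜 ℳ n
  haveI qG : (GrMod.tilde ℬ 𝒩 n).IsQuasicoherent := tilde_isQuasicoherent ℬ 𝒩 n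
  haveI qP : ((Scheme.Modules.pullback (Proj.map ψ hψ)).obj (GrMod.tilde 𝒜 ℳ n)).IsQuasicoherent :=
    qc_pullback _ _
  refine Groth.Agent.H2.ModGlue.isIso_of_bijective_basis
    (fun O : {O : (Proj ℬ).Opens // ∃ f ∈ 𝒜 1, O ≤ Proj.map ψ hψ ⁻¹ᵁ Proj.basicOpen 𝒜 f} => O.1) ?_ _ ?_
  · rw [Opens.isBasis_iff_nbhd]
    intro U x hx
    obtain ⟨f, hf, hxf⟩ := Groth.Agent.H8.GTW.exists_mem_basicOpen_of_span hgen
      (ProjectiveSpectrum.comap ψ hψ x)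
    exact ⟨U ⊓ (Proj.map ψ hψ ⁻¹ᵁ Proj.basicOpen 𝒜 f), ⟨⟨_, f, hf, inf_le_right⟩, rfl⟩, ⟨hx, hxf⟩,
      inf_le_left⟩
  · rintro ⟨O, f, hf, hO⟩
    have hW : IsAffineOpen (Proj.map ψ hψ ⁻¹ᵁ Proj.basicOpen 𝒜 f) :=
      Proj.isAffineOpen_basicOpen ℬ (ψ f) (ψ.map_mem hf) Nat.one_pos
    exact Groth.Agent.LD.FPExt.bijective_app_of_le_affine _ hW
      (bijective_adjoint_app ℳ 𝒩 ψ hψ v hv n hf hbc) O hO

end

end Groth.Agent.H8.ProjTilde
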