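import Groth.Agent.Lib.Helper8.ProjTilde.BCSect
import Groth.Agent.Lib.Helper8.ProjTilde.PullTilde

/-! # `Φ^*(O_𝒜(n)) ≅ O_ℬ(n)` for `Φ : Proj ℬ → Proj 𝒜`, `ℬ = 𝒜 ⊗_{R₀} R₁` (no generation hypothesis) -/

set_option autoImplicit false
set_option linter.style.haveILetI false
set_option linter.unusedSectionVars false
universe u
open AlgebraicGeometry CategoryTheory Opposite TopologicalSpace DirectSum HomogeneousLocalization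
open scoped HomogeneousIdeal

namespace Groth.Agent.H8.ProjTilde

open Groth.Agent.LD.QC

section gen
variable {A σ : Type u} [CommRing A] [SetLike σ A] [AddSubgroupClass σ A] {𝒜 : ℕ → σ} [GradedRing 𝒜]
variable {B σ' : Type u} [CommRing B] [SetLike σ' B] [AddSubgroupClass σ' B] {ℬ : ℕ → σ'} [GradedRing ℬ]
variable (ψ : 𝒜 →+*ᵍ ℬ) (hψ : ℬ₊ ≤ (𝒜₊).map ψ)

/-- the sheaf component of `Proj.map ψ` over `D₊(f)` acts as `Away.map ψ f` (any degree). -/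
lemma app_awayToSection_gen {d : ℕ} {f : A} (hf : f ∈ 𝒜 d) (x : Away 𝒜 f) :
    ((Proj.map ψ hψ).app (Proj.basicOpen 𝒜 f)).hom ((Proj.awayToSection 𝒜 f).hom x) =
      (Proj.awayToSection ℬ (ψ f)).hom (Away.map ψ f x) := by
  have h := congr($(Proj.awayToSection_comp_appLE ψ hψ hf).hom x)
  refine Eq.trans ?_ h
  change _ = ((Proj ℬ).presheaf.map (𝟙 (op (Proj.basicOpen ℬ (ψ f))))).hom
    (((Proj.map ψ hψ).app (Proj.basicOpen 𝒜 f)).hom ((Proj.awayToSection 𝒜 f).hom x))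
  rw [CategoryTheory.Functor.map_id]
  rfl

end gen

section BC
variable {R₀ R₁ A B : Type u} [CommRing R₀] [CommRing R₁] [Algebra R₀ R₁]
  [CommRing A] [Algebra R₀ A] (𝒜 : ℕ → Submodule R₀ A) [GradedAlgebra 𝒜]
  [CommRing B] [Algebra R₁ B] [Algebra R₀ B] [IsScalarTower R₀ R₁ B]
  (ℬ : ℕ → Submodule R₁ B) [GradedAlgebra ℬ]
  [Algebra A B] [IsScalarTower R₀ A B] [Algebra.IsPushout R₀ R₁ A B]
  (ψ : 𝒜 →+*ᵍ ℬ) (hψA : ∀ a : A, ψ a = algebraMap A B a) (hψ : ℬ₊ ≤ (𝒜₊).map ψ) (n : ℤ)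
  {d : ℕ} {f : A}

include hψA in
/-- **universal property of base change**, stated over `Φ⁻¹ D₊(f)`. -/
theorem existsUnique_lift_bc' (hd : 0 < d) (hf : f ∈ 𝒜 d)
    (T : Type u) [AddCommGroup T] [Module Γ(Proj ℬ, Proj.map ψ hψ ⁻¹ᵁ Proj.basicOpen 𝒜 f) T]
    (g : Γ(GrMod.tilde 𝒜 𝒜 n, Proj.basicOpen 𝒜 f) →+ T)
    (hg : ∀ (r : Γ(Proj 𝒜, Proj.basicOpen 𝒜 f)) (s : Γ(GrMod.tilde 𝒜 𝒜 n, Proj.basicOpen 𝒜 f)),
      g (r • s) = ((Proj.map ψ hψ).app (Proj.basicOpen 𝒜 f)).hom r • g s) :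
    ∃! g' : Γ(GrMod.tilde ℬ ℬ n, Proj.map ψ hψ ⁻¹ᵁ Proj.basicOpen 𝒜 f) →ₗ[Γ(Proj ℬ,
        Proj.map ψ hψ ⁻¹ᵁ Proj.basicOpen 𝒜 f)] T,
      ∀ s, g' ((GrMod.comap ψ hψ (slOf ψ) (slOf_mem ψ) n).app (Proj.basicOpen 𝒜 f) s) = g s := by
  letI inst' : Module Γ(Proj ℬ, Proj.basicOpen ℬ (ψ f)) T :=
    ‹Module Γ(Proj ℬ, Proj.map ψ hψ ⁻¹ᵁ Proj.basicOpen 𝒜 f) T›
  exact existsUnique_lift_bc 𝒜 ℬ ψ hψA hψ n hd hf
    ((Proj.map ψ hψ).app (Proj.basicOpen 𝒜 f)).hom (app_awayToSection_gen ψ hψ hf)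
    (fun c s => Scheme.Modules.Hom.app_smul (GrMod.comap ψ hψ (slOf ψ) (slOf_mem ψ) n) c s) T g hg

include hψA in
/-- the adjoint map is bijective on sections over `Φ⁻¹ D₊(f)`. -/
theorem bijective_adjoint_app_bc (hd : 0 < d) (hf : f ∈ 𝒜 d) :
    Function.Bijective ((((Scheme.Modules.pullbackPushforwardAdjunction (Proj.map ψ hψ)).homEquiv _ _).symm
      (GrMod.comap ψ hψ (slOf ψ) (slOf_mem ψ) n)).app (Proj.map ψ hψ ⁻¹ᵁ Proj.basicOpen 𝒜 f)) := by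
  haveI : (GrMod.tilde 𝒜 𝒜 n).IsQuasicoherent := tilde_isQuasicoherent 𝒜 𝒜 n
  have hV : IsAffineOpen (Proj.basicOpen 𝒜 f) := Proj.isAffineOpen_basicOpen 𝒜 f hf hd
  have hW : IsAffineOpen (Proj.map ψ hψ ⁻¹ᵁ Proj.basicOpen 𝒜 f) :=
    Proj.isAffineOpen_basicOpen ℬ (ψ f) (ψ.map_mem hf) hd
  obtain ⟨ν, hνdef⟩ : ∃ ν, ν = ((Scheme.Modules.pullbackPushforwardAdjunction (Proj.map ψ hψ)).homEquiv _ _).symm
      (GrMod.comap ψ hψ (slOf ψ) (slOf_mem ψ) n) := ⟨_, rfl⟩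
  rw [← hνdef]
  have hν : ∀ s : Γ(GrMod.tilde 𝒜 𝒜 n, Proj.basicOpen 𝒜 f),
      ν.app (Proj.map ψ hψ ⁻¹ᵁ Proj.basicOpen 𝒜 f)
        (pbSec (Proj.map ψ hψ) (GrMod.tilde 𝒜 𝒜 n) le_rfl s) =
        (GrMod.comap ψ hψ (slOf ψ) (slOf_mem ψ) n).app (Proj.basicOpen 𝒜 f) s := by
    intro s
    rw [hνdef]
    exact adj_symm_app_pbSec' (Proj.map ψ hψ) (GrMod.comap ψ hψ (slOf ψ) (slOf_mem ψ) n)
      (Proj.basicOpen 𝒜 f) s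
  -- the lift of `pbSec`
  obtain ⟨g', hg', -⟩ := existsUnique_lift_bc' 𝒜 ℬ ψ hψA hψ n hd hf
    Γ((Scheme.Modules.pullback (Proj.map ψ hψ)).obj (GrMod.tilde 𝒜 𝒜 n),
      Proj.map ψ hψ ⁻¹ᵁ Proj.basicOpen 𝒜 f)
    (AddMonoidHom.mk' (pbSec (Proj.map ψ hψ) (GrMod.tilde 𝒜 𝒜 n) le_rfl)
      (pbSec_add (Proj.map ψ hψ) (GrMod.tilde 𝒜 𝒜 n) le_rfl))
    (fun r s => by
      change pbSec (Proj.map ψ hψ) (GrMod.tilde 𝒜 𝒜 n) le_rfl (r • s) = _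
      rw [pbSec_smul, Scheme.Hom.appLE_eq_app]
      rfl)
  have hg'' : ∀ s, g' ((GrMod.comap ψ hψ (slOf ψ) (slOf_mem ψ) n).app (Proj.basicOpen 𝒜 f) s) =
      pbSec (Proj.map ψ hψ) (GrMod.tilde 𝒜 𝒜 n) le_rfl s := hg'
  -- uniqueness for maps into `Γ(O_ℬ(n), W)`
  obtain ⟨g₂, -, hg₂uniq⟩ := existsUnique_lift_bc' 𝒜 ℬ ψ hψA hψ n hd hf
    Γ(GrMod.tilde ℬ ℬ n, Proj.map ψ hψ ⁻¹ᵁ Proj.basicOpen 𝒜 f)
    (AddMonoidHom.mk' (fun s => (GrMod.comap ψ hψ (slOf ψ) (slOf_mem ψ) n).app (Proj.basicOpen 𝒜 f) s)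
      (fun a b => map_add ((GrMod.comap ψ hψ (slOf ψ) (slOf_mem ψ) n).app (Proj.basicOpen 𝒜 f)).hom a b))
    (fun r s => Scheme.Modules.Hom.app_smul (GrMod.comap ψ hψ (slOf ψ) (slOf_mem ψ) n) r s)
  have e1 : (appLinear ν (Proj.map ψ hψ ⁻¹ᵁ Proj.basicOpen 𝒜 f)) ∘ₗ g' = g₂ :=
    hg₂uniq _ (fun s => by
      change ν.app _ (g' ((GrMod.comap ψ hψ (slOf ψ) (slOf_mem ψ) n).app (Proj.basicOpen 𝒜 f) s)) = _
      rw [hg'', hν]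
      rfl)
  have e2 : LinearMap.id = g₂ := hg₂uniq _ (fun s => rfl)
  have e3 : g' ∘ₗ (appLinear ν (Proj.map ψ hψ ⁻¹ᵁ Proj.basicOpen 𝒜 f)) = LinearMap.id := by
    refine LinearMap.ext_on (span_range_pbSec (Proj.map ψ hψ) hW hV le_rfl (GrMod.tilde 𝒜 𝒜 n)) ?_
    rintro _ ⟨s, rfl⟩
    change g' (ν.app _ (pbSec (Proj.map ψ hψ) (GrMod.tilde 𝒜 𝒜 n) le_rfl s)) = _
    rw [hν, hg'']
    rfl
  refine Function.bijective_iff_has_inverse.mpr ⟨g', fun x => ?_, fun t => ?_⟩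
  · exact congrArg (fun L => L x) e3
  · exact congrArg (fun L => L t) (e1.trans e2.symm)

include hψA in
/-- **`Φ^*(O_𝒜(n)) ⟶ O_ℬ(n)` is an isomorphism** for `ℬ = 𝒜 ⊗_{R₀} R₁`. -/
theorem isIso_adjoint_comap_bc :
    IsIso (((Scheme.Modules.pullbackPushforwardAdjunction (Proj.map ψ hψ)).homEquiv _ _).symm
      (GrMod.comap ψ hψ (slOf ψ) (slOf_mem ψ) n)) := by
  haveI qF : (GrMod.tilde 𝒜 𝒜 n).IsQuasicoherent := tilde_isQuasicoherent 𝒜 𝒜 n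
  haveI qG : (GrMod.tilde ℬ ℬ n).IsQuasicoherent := tilde_isQuasicoherent ℬ ℬ n
  haveI qP : ((Scheme.Modules.pullback (Proj.map ψ hψ)).obj (GrMod.tilde 𝒜 𝒜 n)).IsQuasicoherent :=
    qc_pullback _ _
  refine Groth.Agent.H2.ModGlue.isIso_of_bijective_basis
    (fun O : {O : (Proj ℬ).Opens // ∃ (d : ℕ) (f : A), 0 < d ∧ f ∈ 𝒜 d ∧
      O ≤ Proj.map ψ hψ ⁻¹ᵁ Proj.basicOpen 𝒜 f} => O.1) ?_ _ ?_
  · rw [Opens.isBasis_iff_nbhd]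
    intro U x hx
    obtain ⟨d, f, hd, hf, hxf⟩ := exists_pos_mem_basicOpen 𝒜 (ProjectiveSpectrum.comap ψ hψ x)
    exact ⟨U ⊓ (Proj.map ψ hψ ⁻¹ᵁ Proj.basicOpen 𝒜 f), ⟨⟨_, d, f, hd, hf, inf_le_right⟩, rfl⟩,
      ⟨hx, hxf⟩, inf_le_left⟩
  · rintro ⟨O, d, f, hd, hf, hO⟩
    have hW : IsAffineOpen (Proj.map ψ hψ ⁻¹ᵁ Proj.basicOpen 𝒜 f) :=
      Proj.isAffineOpen_basicOpen ℬ (ψ f) (ψ.map_mem hf) hd
    exact Groth.Agent.LD.FPExt.bijective_app_of_le_affine _ hW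
      (bijective_adjoint_app_bc 𝒜 ℬ ψ hψA hψ n hd hf) O hO

end BC

end Groth.Agent.H8.ProjTilde
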