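import Mathlib
import Groth.Prelude.Def_GrMod3
import Groth.Agent.Lib.Helper8.ProjTilde.Serre2

set_option autoImplicit false
universe u
open AlgebraicGeometry CategoryTheory Opposite TopologicalSpace DirectSum

namespace Groth.Agent.H8.ProjTilde

variable {A σ : Type u} [CommRing A] [SetLike σ A] [AddSubgroupClass σ A] (𝒜 : ℕ → σ) [GradedRing 𝒜]
variable {M τ : Type u} [AddCommGroup M] [Module A M] [SetLike τ M] [AddSubgroupClass τ M] (ℳ : ℕ → τ)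
variable [SetLike.GradedSMul 𝒜 ℳ] [DirectSum.Decomposition ℳ]

/-- **Serre, surjectivity in all integer degrees**: a global section of `M(n)~` with `n` large is `m / 1`. -/
theorem exists_global_rep_large [IsNoetherianRing A]
    (hTF : ∃ k : ℕ, (Submodule.span A (⋃ i ∈ Set.Ici k, (ℳ i : Set M))).FG) :
    ∃ N : ℕ, ∀ (n : ℤ) (t : GrMod.sect 𝒜 ℳ n (op ⊤)), (N : ℤ) ≤ n →
      ∃ (i : ℕ) (m : M) (_ : m ∈ ℳ i), (i : ℤ) = n ∧
        ∀ y : ProjectiveSpectrum 𝒜, gval 𝒜 ℳ t y = LocalizedModule.mk m 1 := by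
  classical
  obtain ⟨k₀, hTF⟩ := hTF
  have hTF' : (highSub A ℳ k₀).FG := hTF
  obtain ⟨s, g, dg, hg, hdg, hspan⟩ := exists_homog_gens_irrelevant 𝒜
    (IsNoetherian.noetherian (HomogeneousIdeal.irrelevant 𝒜).toIdeal)
  obtain ⟨d, hd, x, hx, hreg⟩ := exists_regular_mod_torsion 𝒜 g dg hg hdg (highSub A ℳ k₀) hTF'
  obtain ⟨n₂, hD⟩ := descend 𝒜 ℳ g dg hg hdg hspan hTF' hx hreg
  refine ⟨n₂, fun n t hn => ?_⟩
  obtain ⟨K, i₀, m₀, hm₀, hi₀, hK⟩ := exists_pow_smul_eq_alpha 𝒜 ℳ g dg hg hdg hspan n t hd hx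
  exact hD K n t
    (by have : (0 : ℤ) ≤ d := Int.natCast_nonneg d
        linarith) ⟨i₀, m₀, hm₀, hi₀, hK⟩

/-- elements of degree `n + 1` in the ideal generated by `𝒜 1` are sums `∑ cᵢ bᵢ`, `cᵢ ∈ 𝒜 n`, `bᵢ ∈ 𝒜 1`. -/
lemma exists_sum_mul_deg_one {n : ℕ} {a : A} (ha : a ∈ 𝒜 (n + 1))
    (hmem : a ∈ Ideal.span (𝒜 1 : Set A)) :
    ∃ (r : ℕ) (c b : Fin r → A), (∀ i, c i ∈ 𝒜 n) ∧ (∀ i, b i ∈ 𝒜 1) ∧ a = ∑ i, c i * b i := by
  classical
  obtain ⟨r, f, b, hfb⟩ := Submodule.mem_span_set'.mp hmem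
  refine ⟨r, fun i => (DirectSum.decompose 𝒜 (f i) n : A), fun i => (b i : A),
    fun i => (DirectSum.decompose 𝒜 (f i) n).2, fun i => (b i).2, ?_⟩
  have h1 : a = (DirectSum.decompose 𝒜 a (n + 1) : A) := (DirectSum.decompose_of_mem_same 𝒜 ha).symm
  rw [h1, ← hfb, DirectSum.decompose_sum, DFinsupp.finsetSum_apply, AddSubmonoidClass.coe_finsetSum]
  refine Finset.sum_congr rfl fun i _ => ?_
  rw [smul_eq_mul]
  exact DirectSum.coe_decompose_mul_add_of_right_mem 𝒜 (b i).2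

/-- products `𝒜 e * 𝒜 j`. -/
def mulSet (e j : ℕ) : Set A := {z | ∃ b ∈ 𝒜 e, ∃ c ∈ 𝒜 j, z = b * c}

/-- when `A₊` is generated by `𝒜 1`, `𝒜 (e + j)` is additively generated by `𝒜 e * 𝒜 j`. -/
lemma mem_closure_mulSet (hgen : (HomogeneousIdeal.irrelevant 𝒜).toIdeal = Ideal.span (𝒜 1 : Set A))
    (j e : ℕ) : ∀ {a : A}, a ∈ 𝒜 (e + j) → a ∈ AddSubmonoid.closure (mulSet 𝒜 e j) := by
  induction e with
  | zero =>
    intro a ha
    rw [zero_add] at ha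
    exact AddSubmonoid.subset_closure ⟨1, SetLike.GradedOne.one_mem, a, ha, (one_mul a).symm⟩
  | succ e ih =>
    intro a ha
    have ha' : a ∈ 𝒜 ((e + j) + 1) := by
      have : e + 1 + j = e + j + 1 := by omega
      exact this ▸ ha
    have hirr : a ∈ Ideal.span (𝒜 1 : Set A) := by
      rw [← hgen]
      exact mem_irrelevant_of_mem 𝒜 (Nat.succ_pos _) ha'
    obtain ⟨r, c, b, hc, hb, rfl⟩ := exists_sum_mul_deg_one 𝒜 ha' hirr
    refine AddSubmonoid.sum_mem _ fun i _ => ?_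
    have key : ∀ z ∈ AddSubmonoid.closure (mulSet 𝒜 e j),
        z * b i ∈ AddSubmonoid.closure (mulSet 𝒜 (e + 1) j) := fun z hz => by
      induction hz using AddSubmonoid.closure_induction with
      | mem z hz =>
        obtain ⟨b', hb', c', hc', rfl⟩ := hz
        refine AddSubmonoid.subset_closure ⟨b' * b i, SetLike.mul_mem_graded hb' (hb i), c', hc', ?_⟩
        ring
      | zero => rw [zero_mul]; exact zero_mem _
      | add x y _ _ hx hy => rw [add_mul]; exact add_mem hx hy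
    exact key _ (ih (hc i))

/-- products `𝒜 e • ℳ k`. -/
def smulSet (e k : ℕ) : Set M := {z | ∃ a ∈ 𝒜 e, ∃ m ∈ ℳ k, z = a • m}

/-- **generation in large degrees**: `ℳ (k + e) = 𝒜 e • ℳ k` for `k` large. -/
lemma exists_gen_bound (hgen : (HomogeneousIdeal.irrelevant 𝒜).toIdeal = Ideal.span (𝒜 1 : Set A))
    (hTF : ∃ k : ℕ, (Submodule.span A (⋃ i ∈ Set.Ici k, (ℳ i : Set M))).FG) :
    ∃ k₁ : ℕ, ∀ k : ℕ, k₁ ≤ k → ∀ (e : ℕ) {m : M}, m ∈ ℳ (k + e) →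
      m ∈ AddSubmonoid.closure (smulSet 𝒜 ℳ e k) := by
  classical
  obtain ⟨k₀, hTF⟩ := hTF
  obtain ⟨t, htsub, htspan⟩ := (Submodule.fg_span_iff_fg_span_finset_subset _).mp hTF
  have hdeg : ∀ w ∈ t, ∃ i : ℕ, k₀ ≤ i ∧ w ∈ ℳ i := fun w hw => by
    obtain ⟨i, hi, hwi⟩ := Set.mem_iUnion₂.mp (htsub hw)
    exact ⟨i, hi, hwi⟩
  choose! dw hdw0 hdw using hdeg
  refine ⟨max k₀ (t.sup dw), fun k hk e m hm => ?_⟩
  have hk0 : k₀ ≤ k := (le_max_left _ _).trans hk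
  have hkw : ∀ w ∈ t, dw w ≤ k := fun w hw => (Finset.le_sup hw).trans ((le_max_right _ _).trans hk)
  have hmspan : m ∈ Submodule.span A (t : Set M) := by
    rw [← htspan]
    exact Submodule.subset_span (Set.mem_biUnion (Set.mem_Ici.mpr (by omega : k₀ ≤ k + e)) hm)
  obtain ⟨c, -, hc⟩ := Submodule.mem_span_finset.mp hmspan
  have h1 : m = (DirectSum.decompose ℳ m (k + e) : M) := (DirectSum.decompose_of_mem_same ℳ hm).symm
  rw [h1, ← hc, DirectSum.decompose_sum, DFinsupp.finsetSum_apply, AddSubmonoidClass.coe_finsetSum]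
  refine AddSubmonoid.sum_mem _ fun w hw => ?_
  rw [decompose_smul_of_mem 𝒜 ℳ (hdw w hw) (c w) (k + e), if_pos ((hkw w hw).trans (Nat.le_add_right _ _))]
  have hdeg' : k + e - dw w = e + (k - dw w) := by have := hkw w hw; omega
  rw [hdeg']
  have hcl := mem_closure_mulSet 𝒜 hgen (k - dw w) e
    (DirectSum.decompose 𝒜 (c w) (e + (k - dw w))).2
  have key : ∀ z ∈ AddSubmonoid.closure (mulSet 𝒜 e (k - dw w)),
      z • w ∈ AddSubmonoid.closure (smulSet 𝒜 ℳ e k) := fun z hz => by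
    induction hz using AddSubmonoid.closure_induction with
    | mem z hz =>
      obtain ⟨b', hb', c', hc', rfl⟩ := hz
      refine AddSubmonoid.subset_closure ⟨b', hb', c' • w, ?_, mul_smul _ _ _⟩
      have : k - dw w + dw w = k := Nat.sub_add_cancel (hkw w hw)
      exact this ▸ SetLike.GradedSMul.smul_mem hc' (hdw w hw)
    | zero => rw [zero_smul]; exact zero_mem _
    | add x y _ _ hx hy => rw [add_smul]; exact add_mem hx hy
  exact key _ hcl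

/-- **Corollary of Serre's theorem**: for `k` large, `Γ(X, M(k+e)~)` is generated by `𝒜 e • Γ(X, M(k)~)`. -/
theorem smulSect_iSup_range_eq_top [IsNoetherianRing A]
    (hgen : (HomogeneousIdeal.irrelevant 𝒜).toIdeal = Ideal.span (𝒜 1 : Set A))
    (hTF : ∃ k : ℕ, (Submodule.span A (⋃ i ∈ Set.Ici k, (ℳ i : Set M))).FG) :
    ∃ k : ℕ, ∀ e : ℕ,
      (⨆ a : 𝒜 e, (GrMod.smulSect 𝒜 ℳ a (k : ℤ)
        (op (⊤ : Opens (ProjectiveSpectrum.top 𝒜)))).range) = ⊤ := by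
  classical
  obtain ⟨N, hN⟩ := exists_global_rep_large 𝒜 ℳ hTF
  obtain ⟨k₁, hk₁⟩ := exists_gen_bound 𝒜 ℳ hgen hTF
  refine ⟨max N k₁, fun e => ?_⟩
  set k := max N k₁ with hk
  rw [eq_top_iff]
  intro t _
  obtain ⟨i, m, hm, hi, hval⟩ := hN ((k : ℤ) + (e : ℕ)) t (by
    have h1 : (N : ℤ) ≤ (k : ℤ) := by exact_mod_cast le_max_left N k₁
    have h2 : (0 : ℤ) ≤ (e : ℤ) := Int.natCast_nonneg e
    linarith)
  have hi' : i = k + e := by exact_mod_cast hi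
  subst hi'
  have hcl := hk₁ k (le_max_right _ _) e hm
  have key : ∀ z ∈ AddSubmonoid.closure (smulSet 𝒜 ℳ e k),
      ∃ t' : GrMod.sect 𝒜 ℳ ((k : ℤ) + (e : ℕ)) (op ⊤),
        (∀ y : ProjectiveSpectrum 𝒜, gval 𝒜 ℳ t' y = LocalizedModule.mk z 1) ∧
        t' ∈ ⨆ a : 𝒜 e, (GrMod.smulSect 𝒜 ℳ a (k : ℤ)
          (op (⊤ : Opens (ProjectiveSpectrum.top 𝒜)))).range := fun z hz => by
    induction hz using AddSubmonoid.closure_induction with
    | mem z hz =>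
      obtain ⟨a, ha, m', hm', rfl⟩ := hz
      refine ⟨GrMod.smulSect 𝒜 ℳ ⟨a, ha⟩ (k : ℤ) (op ⊤) (GrMod.globalOf 𝒜 ℳ ⟨m', hm'⟩), fun y => ?_,
        AddSubgroup.mem_iSup_of_mem ⟨a, ha⟩ ⟨_, rfl⟩⟩
      change (Localization.mk a (1 : y.asHomogeneousIdeal.toIdeal.primeCompl) : GrTwist.Loc 𝒜 y) •
        (LocalizedModule.mk m' 1 : GrMod.LocMod 𝒜 (M := M) y) = _
      rw [LocalizedModule.mk_smul_mk, one_mul]
    | zero =>
      refine ⟨0, fun y => ?_, zero_mem _⟩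
      change (0 : GrMod.LocMod 𝒜 (M := M) y) = _
      rw [LocalizedModule.zero_mk]
    | add x y _ _ hx hy =>
      obtain ⟨tx, hx1, hx2⟩ := hx
      obtain ⟨ty, hy1, hy2⟩ := hy
      refine ⟨tx + ty, fun y' => ?_, add_mem hx2 hy2⟩
      change gval 𝒜 ℳ tx y' + gval 𝒜 ℳ ty y' = _
      rw [hx1, hy1]
      exact ((LocalizedModule.mkLinearMap _ M).map_add x y).symm
  obtain ⟨t', ht'1, ht'2⟩ := key m hcl
  have : t = t' := by
    refine sect_ext 𝒜 ℳ t t' fun y0 => ?_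
    obtain ⟨y, hy'⟩ : (⊤ : Opens (ProjectiveSpectrum.top 𝒜)) := y0
    exact (hval y).trans (ht'1 y).symm
  rw [this]
  exact ht'2

end Groth.Agent.H8.ProjTilde
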